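import Cfsg.Agent.TwoF.XE.Wt_m3
import Cfsg.Agent.OddHalf.D9.EEight.Id.InnerCore_m3
import Cfsg.Agent.StandardComponent.SpTwoAut
import Cfsg.Agent.LieClassical.SympCount
import Cfsg.Agent.OddHalf.D9.EEight.RowFinal
import Cfsg.Agent.TwoF.Gen.BLay_m3
import Cfsg.Agent.OddHalf.D9.EEight.CountsF_m3
import Cfsg.Agent.OddHalf.D9.EEight.Id.Main
import Cfsg.Agent.H63.EightTwo
import Cfsg.Agent.H974.Gs.RowFin_mg_m3
import Cfsg.Agent.S0817
import Cfsg.Agent.Lib.FinFast
import Cfsg.Agent.Mrg.Omega.TwoF.LargeRk_m3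
import Cfsg.Agent.LieClassical.OrthCenter
import Cfsg.Agent.ClassicalGeometry.OmegaIndex
import Cfsg.Agent.ClassicalGeometry.WittQuad
import Cfsg.Agent.H926.Split
import Cfsg.Agent.S0816
import Cfsg.Agent.S2095
import Cfsg.Agent.TwoF.DC.D1.Main_m3
import Cfsg.Agent.TwoF.DC.TBD.BMain_m3
import Cfsg.Agent.TwoF.DC.Pow.Main_m3
import Cfsg.Agent.TwoF.SpC.HSDat
import Cfsg.Agent.H269.CubeJ2
import Cfsg.Agent.S2040
import Cfsg.Agent.H478.RadTools_m3
import Cfsg.Agent.S2065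
import Cfsg.Agent.H441.GS.Chain
import Cfsg.Agent.H95.StemCover
import Cfsg.Agent.H912.CrossList_m3
import Cfsg.Agent.H175.BdSp_m3
import Cfsg.Agent.H411.IFU.Card
import Cfsg.Agent.H259.NatMod
import Cfsg.Agent.ClassicalGeometry.AutPSL.Auto
import Cfsg.Agent.ClassicalGeometry.PSUAutCount
import Cfsg.Agent.ClassicalGeometry.PSUAutMain
import Cfsg.Agent.LieClassical.HermPerfect
import Cfsg.Agent.S0242
import Cfsg.Agent.S0243
import Cfsg.Agent.S0248
import Cfsg.Agent.S0280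
import Cfsg.Agent.S0283
import Cfsg.Agent.S2086
import Cfsg.Agent.S2089
import Cfsg.Agent.S2601
import Cfsg.Agent.S2602
import Cfsg.Agent.S2603
import Cfsg.Agent.FastGrp
import Cfsg.Agent.Prune
set_option linter.all false

section
prune_inst 0x7fb0ecf82bb829deffff7e7fa690cffc19901fffe6dff943ffe061ff0bdf230009c5ab8509e010fe1ed6601410b87843e97ecabfe263dc7ffffd5ff41ffbee0fe5feb50851d49c340f3c6ff693f0778e7f3fffffffffffffffffffffffffffaeffbfffffffff

-- part: TwoF/XL/Un2/Lin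
section
set_option linter.all false
open scoped Cfsg.Agent.FastGrp

/-!
# TwoF XL-Un2: linear algebra and counting (helper35)

Anticommuting pairs, subgroups cut out by characters of order three, prime power parts of elements.
-/

set_option autoImplicit false
set_option linter.unusedSectionVars false

namespace Cfsg.Agent.TwoF.XL.Un2

open Module

section Lin

variable {k : Type*} [Field k] {V : Type*} [AddCommGroup V] [Module k V] [FiniteDimensional k V]

theorem two_mul_le {U E E' : Submodule k V} (h : E ≤ U) (h' : E' ≤ U) (hd : E ⊓ E' = ⊥)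
    (hr : finrank k E ≤ finrank k E') : 2 * finrank k E ≤ finrank k U := by
  have h1 := Submodule.finrank_sup_add_finrank_inf_eq E E'
  have h2 : finrank k ↥(E ⊔ E') ≤ finrank k U := Submodule.finrank_mono (sup_le h h')
  rw [hd, finrank_bot] at h1
  omega

/-- **anticommuting pairs** -/
theorem anti [IsAlgClosed k] (h2 : (2 : k) ≠ 0) {ι : Type*} [DecidableEq ι] (X Y : ι → Module.End k V)
    (hX : ∀ i, Function.Injective (X i)) (hY : ∀ i, Function.Injective (Y i))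
    (hXX : ∀ i j, i ≠ j → ∀ v, X i (X j v) = X j (X i v)) (hXY : ∀ i j, i ≠ j → ∀ v, X i (Y j v) = Y j (X i v))
    (s : Finset ι) : ∀ U : Submodule k V, U ≠ ⊥ → (∀ i ∈ s, ∀ v ∈ U, X i v ∈ U) → (∀ i ∈ s, ∀ v ∈ U, Y i v ∈ U) →
      (∀ i ∈ s, ∀ v ∈ U, X i (Y i v) = -Y i (X i v)) → 2 ^ s.card ≤ finrank k U := by
  induction s using Finset.induction_on with
  | empty =>
    intro U hU _ _ _
    rw [Finset.card_empty, pow_zero]
    exact Submodule.one_le_finrank_iff.2 hU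
  | insert i s hi ih =>
    intro U hU h1 h3 h4
    have hm := Finset.mem_insert_self i s
    haveI : Nontrivial U := Submodule.nontrivial_iff_ne_bot.2 hU
    obtain ⟨l, hl⟩ := Module.End.exists_eigenvalue ((X i).restrict (h1 i hm))
    obtain ⟨v, hv⟩ := hl.exists_hasEigenvector
    have hv1 : X i v = l • (v : V) := congrArg Subtype.val hv.apply_eq_smul
    have hv0 : (v : V) ≠ 0 := fun e => hv.2 (Subtype.ext e)
    have hl0 : l ≠ 0 := by
      rintro rfl
      exact hv0 (hX i (by rw [hv1, zero_smul, map_zero]))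
    set E : Submodule k V := U ⊓ (X i).eigenspace l with hE
    have hmem : ∀ w, w ∈ E ↔ w ∈ U ∧ X i w = l • w := fun w => by
      rw [hE, Submodule.mem_inf, Module.End.mem_eigenspace_iff]
    have hne : ∀ j ∈ s, i ≠ j := fun j hj e => hi (e ▸ hj)
    have hE0 : E ≠ ⊥ := fun e => hv0 ((Submodule.eq_bot_iff _).1 e _ ((hmem _).2 ⟨v.2, hv1⟩))
    have h5 := ih E hE0
      (fun j hj w hw => (hmem _).2 ⟨h1 j (Finset.mem_insert_of_mem hj) w ((hmem _).1 hw).1, by
        rw [hXX i j (hne j hj), ((hmem _).1 hw).2, map_smul]⟩)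
      (fun j hj w hw => (hmem _).2 ⟨h3 j (Finset.mem_insert_of_mem hj) w ((hmem _).1 hw).1, by
        rw [hXY i j (hne j hj), ((hmem _).1 hw).2, map_smul]⟩)
      (fun j hj w hw => h4 j (Finset.mem_insert_of_mem hj) w ((hmem _).1 hw).1)
    have h6 : 2 * finrank k E ≤ finrank k U := by
      refine two_mul_le (E' := E.map (Y i)) inf_le_left ?_ ?_ ?_
      · rintro _ ⟨w, hw, rfl⟩
        exact h3 i hm w ((hmem _).1 hw).1
      · rw [Submodule.eq_bot_iff]
        rintro _ ⟨hw', w, hw, rfl⟩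
        have h7 := ((hmem _).1 hw').2
        rw [h4 i hm w ((hmem _).1 hw).1, ((hmem _).1 hw).2, map_smul] at h7
        have h8 : (2 * l) • Y i w = 0 := by
          rw [mul_smul, two_smul]
          nth_rewrite 1 [← h7]
          exact neg_add_cancel _
        exact (smul_eq_zero.1 h8).resolve_left (mul_ne_zero h2 hl0)
      · exact (LinearEquiv.finrank_eq (Submodule.equivMapOfInjective (Y i) (hY i) E)).le
    rw [Finset.card_insert_of_notMem hi, pow_succ]
    omega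

end Lin

section Grp

variable {W : Type*} [Group W]

/-- the kernel of a character of `B` with at most three values -/
theorem exists_sub [Finite W] {F : Type*} [Field F] (hF : Nat.card Fˣ = 3) (B : Subgroup W) (f : W → F)
    (hf : ∀ a ∈ B, ∀ b ∈ B, f (a * b) = f a * f b) (h1 : f 1 = 1) :
    ∃ B' ≤ B, (∀ w, w ∈ B' ↔ w ∈ B ∧ f w = 1) ∧ Nat.card B ≤ 3 * Nat.card B' := by
  let g : B →* F := ⟨⟨fun b => f b, h1⟩, fun a b => hf a a.2 b b.2⟩
  haveI : Finite Fˣ := Nat.finite_of_card_ne_zero (by rw [hF]; norm_num)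
  refine ⟨g.toHomUnits.ker.map B.subtype, Subgroup.map_subtype_le _, fun w => ⟨?_, ?_⟩, ?_⟩
  · rintro ⟨b, hb, rfl⟩
    exact ⟨b.2, congrArg Units.val (MonoidHom.mem_ker.1 hb)⟩
  · rintro ⟨hw, h⟩
    exact ⟨⟨w, hw⟩, MonoidHom.mem_ker.2 (Units.ext h), rfl⟩
  · rw [Subgroup.card_map_of_injective B.subtype_injective, ← g.toHomUnits.ker.card_mul_index, Subgroup.index_ker,
      mul_comm]
    refine Nat.mul_le_mul_right _ ?_
    rw [← hF]
    exact Nat.card_le_card_of_injective _ Subtype.val_injective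

/-- the `s`-part of an element whose image has order dividing `s` -/
theorem exists_part [Finite W] {M : Type*} [Monoid M] (μ : W →* M) {s : ℕ} (hs : s.Prime) (y : W) (hy : μ y ^ s = 1) :
    ∃ j e : ℕ, μ (y ^ j) = μ y ∧ (y ^ j) ^ s ^ e = 1 := by
  obtain ⟨e, m, hm, he⟩ := Nat.exists_eq_pow_mul_and_not_dvd (orderOf_pos y).ne' s hs.one_lt.ne'
  obtain ⟨j, -, hj⟩ := Nat.exists_mul_mod_eq_one_of_coprime
    ((Nat.Prime.coprime_iff_not_dvd hs).2 hm).symm hs.one_lt
  refine ⟨m * j, e, ?_, ?_⟩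
  · rw [map_pow, ← Nat.div_add_mod (m * j) s, hj, pow_add, pow_mul, hy, one_pow, one_mul, pow_one]
  · rw [← pow_mul, show m * j * s ^ e = s ^ e * m * j by ring, ← he, pow_mul, pow_orderOf_eq_one, one_pow]

end Grp

end Cfsg.Agent.TwoF.XL.Un2
end

-- part: TwoF/XS/S62/Main_mg
section
prune_inst 0x40001040004010000000008061000200480001000000800008000a00000020020000084004800002002200000000002810000010800000000000040000010000008040001200010c000000000000000000000000000000000000000000010004000000000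
set_option linter.all false
open scoped Cfsg.Agent.FastGrp

-- part: TwoF/XS/S62/Lin
section
/-!
# TwoF XS-62: three commuting nilpotent operators with sign changes (helper35)
-/

set_option autoImplicit false
set_option linter.unusedSectionVars false

namespace Cfsg.Agent.TwoF.XS.S62

open Module

variable {k : Type*} [Field k] {V : Type*} [AddCommGroup V] [Module k V] [FiniteDimensional k V]

/-- the ascending series of the operators `x i` -/
def ly (x : Fin 3 → End k V) (n : ℕ) : Submodule k V := Nat.rec ⊥ (fun _ U => ⨅ i, U.comap (x i)) n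

variable {x f : Fin 3 → End k V}

theorem mem_ly {n : ℕ} {v : V} : v ∈ ly x (n + 1) ↔ ∀ i, x i v ∈ ly x n := Submodule.mem_iInf _

theorem mem_ly_one {v : V} : v ∈ ly x 1 ↔ ∀ i, x i v = 0 := mem_ly

theorem ly_inv {g : End k V} (h : ∀ i, ∃ (j : Fin 3) (c : k), ∀ v, x i (g v) = c • g (x j v)) (n : ℕ) :
    ∀ v ∈ ly x n, g v ∈ ly x n := by
  induction n with
  | zero => exact fun v hv => by rw [(Submodule.mem_bot k).1 hv, map_zero]; exact zero_mem _
  | succ n ih =>
    refine fun v hv => mem_ly.2 fun i => ?_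
    obtain ⟨j, c, e⟩ := h i
    rw [e]
    exact Submodule.smul_mem _ _ (ih _ (mem_ly.1 hv j))

theorem ly_le (n : ℕ) : ly x n ≤ ly x (n + 1) := by
  induction n with
  | zero => exact bot_le
  | succ n ih => exact fun v hv => mem_ly.2 fun i => ih (mem_ly.1 hv i)

theorem exists_step {n : ℕ} {v : V} (h : v ∉ ly x (n + 1)) : ∃ i, x i v ∉ ly x n := by
  by_contra! e
  exact h (mem_ly.2 e)

theorem mem_of_two (h2 : (2 : k) ≠ 0) {U : Submodule k V} {v : V} (h : v + v ∈ U) : v ∈ U := by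
  rwa [← two_smul k, U.smul_mem_iff h2] at h

/-- sign changes -/
structure Sg (x f : Fin 3 → End k V) : Prop where
  comm : ∀ i j v, x i (x j v) = x j (x i v)
  nil : ∀ i v, x i (x i (x i v)) = 0
  eq : ∀ i v, f i (x i v) = x i (f i v)
  ne : ∀ i j, i ≠ j → ∀ v, f i (x j v) = -x j (f i v)

theorem Sg.inv (H : Sg x f) (i : Fin 3) (n : ℕ) : ∀ v ∈ ly x n, f i v ∈ ly x n :=
  ly_inv (fun j => ⟨j, if i = j then 1 else -1, fun v => by
    split_ifs with e
    · rw [← e, one_smul, H.eq]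
    · rw [H.ne i j e, smul_neg, neg_one_smul, neg_neg]⟩) n

theorem three_le (h2 : (2 : k) ≠ 0) {s : End k V} (hs : ∀ v, s (s (s v)) = v) (hf : ∀ i v, f i (f i v) = v)
    (hc : ∀ v, f 1 (f 0 v) = f 0 (f 1 v)) (h3 : ∀ v, f 2 v = f 0 (f 1 v)) (hsf : ∀ i v, f (i + 1) (s v) = s (f i v))
    {U W : Submodule k V} (h : U ≤ W) (hU : ∀ i, ∀ v ∈ U, f i v ∈ U) (hW : ∀ i, ∀ v ∈ W, f i v ∈ W)
    (hUs : ∀ v ∈ U, s v ∈ U) (hWs : ∀ v ∈ W, s v ∈ W) {w : V} (hw : w ∈ W) (hn : f 0 w - w ∉ U) :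
    finrank k U + 3 ≤ finrank k W := by
  have s0 : ∀ v, f 0 (s v) = s (f 2 v) := hsf 2
  have s1 : ∀ v, f 1 (s v) = s (f 0 v) := hsf 0
  have s2 : ∀ v, f 2 (s v) = s (f 1 v) := hsf 1
  have hns : ∀ v, v ∉ U → s v ∉ U := fun v hv e => hv (hs v ▸ hUs _ (hUs _ e))
  obtain ⟨v, v1, v2, e0, e1, e2⟩ : ∃ v ∈ W, v ∉ U ∧ f 0 v = -v ∧ f 1 v = -v ∧ f 2 v = v := by
    set u := f 0 w - w with hu
    have u1 : u ∈ W := sub_mem (hW 0 w hw) hw
    have u2 : f 0 u = -u := by rw [hu, map_sub, hf, neg_sub]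
    have u3 : f 0 (f 1 u) = -f 1 u := by rw [← hc, u2, map_neg]
    by_cases hp : u - f 1 u ∈ U
    · have hq : u + f 1 u ∉ U := fun e => hn (mem_of_two h2 (by simpa using add_mem hp e))
      have p1 : f 1 (u + f 1 u) = u + f 1 u := by rw [map_add, hf, add_comm]
      have p0 : f 0 (u + f 1 u) = -(u + f 1 u) := by rw [map_add, u2, u3, neg_add]
      exact ⟨s (u + f 1 u), hWs _ (add_mem u1 (hW 1 u u1)), hns _ hq, by rw [s0, h3, p1, p0, map_neg],
        by rw [s1, p0, map_neg], by rw [s2, p1]⟩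
    · have p1 : f 1 (u - f 1 u) = -(u - f 1 u) := by rw [map_sub, hf, neg_sub]
      have p0 : f 0 (u - f 1 u) = -(u - f 1 u) := by rw [map_sub, u2, u3, neg_sub_neg, neg_sub]
      exact ⟨u - f 1 u, sub_mem u1 (hW 1 u u1), hp, p0, p1, by rw [h3, p1, map_neg, p0, neg_neg]⟩
  have hUU : ∀ i, U ≤ U.comap (f i + 1) := fun i u hu => add_mem (hU i u hu) hu
  have hk : ∀ i u, f i u = -u → (k ∙ u) ≤ U.comap (f i + 1) := fun i u e =>
    (Submodule.span_singleton_le_iff_mem _ _).2 (by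
      show f i u + u ∈ U
      rw [e, neg_add_cancel]
      exact zero_mem _)
  have hlt : ∀ (T : Submodule k V) u, u ∉ T → finrank k T < finrank k ↥(T ⊔ k ∙ u) := fun T u hu =>
    Submodule.finrank_lt_finrank_of_lt (lt_of_le_of_ne le_sup_left fun e =>
      hu (e ▸ Submodule.mem_sup_right (Submodule.mem_span_singleton_self u)))
  have l1 := hlt U v v2
  have l2 := hlt (U ⊔ k ∙ v) (s v) fun e => hns v v2 (mem_of_two h2 (by
    have : f 0 (s v) + s v ∈ U := sup_le (hUU 0) (hk 0 v e0) e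
    rwa [s0, e2] at this))
  have l3 := hlt (U ⊔ (k ∙ v) ⊔ k ∙ s v) (s (s v)) fun e => hns _ (hns v v2) (mem_of_two h2 (by
    have : f 1 (s (s v)) + s (s v) ∈ U := sup_le (sup_le (hUU 1) (hk 1 v e1)) (hk 1 _ (by rw [s1, e0, map_neg])) e
    rwa [s1, s0, e2] at this))
  have l4 : finrank k ↥(U ⊔ (k ∙ v) ⊔ (k ∙ s v) ⊔ k ∙ s (s v)) ≤ finrank k W := Submodule.finrank_mono
    (sup_le (sup_le (sup_le h ((Submodule.span_singleton_le_iff_mem _ _).2 v1))
      ((Submodule.span_singleton_le_iff_mem _ _).2 (hWs _ v1)))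
      ((Submodule.span_singleton_le_iff_mem _ _).2 (hWs _ (hWs _ v1))))
  omega

/-- the sign changes commute -/
theorem Sg.case_comm (H : Sg x f) (h2 : (2 : k) ≠ 0) {s : End k V} (hs : ∀ v, s (s (s v)) = v)
    (hf : ∀ i v, f i (f i v) = v) (hc : ∀ v, f 1 (f 0 v) = f 0 (f 1 v)) (h3 : ∀ v, f 2 v = f 0 (f 1 v))
    (hsf : ∀ i v, f (i + 1) (s v) = s (f i v)) (hsx : ∀ i v, x (i + 1) (s v) = s (x i v))
    (h6 : finrank k V ≤ finrank k (ly x 1) + 6) {v : V} (h4 : v ∈ ly x 4) : v ∈ ly x 3 := by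
  by_contra hv
  have hsi := ly_inv (x := x) (g := s) fun i => ⟨i - 1, 1, fun v => by rw [one_smul, ← hsx, sub_add_cancel]⟩
  let T : ℕ → Prop := fun n => ∀ i, ∀ w ∈ ly x (n + 1), f i w - w ∈ ly x n
  have hT : ∀ n, T n ∨ finrank k (ly x n) + 3 ≤ finrank k (ly x (n + 1)) := fun n => by
    by_cases e : ∀ w ∈ ly x (n + 1), f 0 w - w ∈ ly x n
    · have st : ∀ i, (∀ w ∈ ly x (n + 1), f i w - w ∈ ly x n) → ∀ w ∈ ly x (n + 1), f (i + 1) w - w ∈ ly x n :=
        fun i e w hw => by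
          rw [← hs w, hsf, ← map_sub]
          exact hsi n _ (e _ (hsi _ _ (hsi _ _ hw)))
      refine Or.inl fun i => ?_
      fin_cases i
      exacts [e, st 0 e, st 1 (st 0 e)]
    · push Not at e
      obtain ⟨w, hw, hn⟩ := e
      exact Or.inr (three_le h2 hs hf hc h3 hsf (ly_le n) (fun i => H.inv i n) (fun i => H.inv i _) (hsi n) (hsi _) hw hn)
  have hB : ∀ n, T n → T (n + 1) → ∀ w ∈ ly x (n + 2), w ∈ ly x (n + 1) := fun n t1 t2 w hw => mem_ly.2 fun j => by
    have hj : j + 1 ≠ j := by revert j; decide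
    have e1 := t1 (j + 1) _ (mem_ly.1 hw j)
    have e2 := mem_ly.1 (t2 (j + 1) w hw) j
    rw [H.ne _ _ hj] at e1
    rw [map_sub] at e2
    refine mem_of_two h2 ?_
    have := neg_mem (add_mem e1 e2)
    convert this using 1
    abel
  obtain ⟨i, hi⟩ := exists_step hv
  obtain ⟨j, hj⟩ := exists_step hi
  have m3 := mem_ly.1 h4 i
  have m2 := mem_ly.1 m3 j
  have d1 : finrank k (ly x 1) < finrank k (ly x 2) :=
    Submodule.finrank_lt_finrank_of_lt (lt_of_le_of_ne (ly_le (x := x) 1) fun e => hj (e ▸ m2))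
  have d2 : finrank k (ly x 2) < finrank k (ly x 3) :=
    Submodule.finrank_lt_finrank_of_lt (lt_of_le_of_ne (ly_le (x := x) 2) fun e => hi (e ▸ m3))
  have d3 : finrank k (ly x 3) < finrank k (ly x 4) :=
    Submodule.finrank_lt_finrank_of_lt (lt_of_le_of_ne (ly_le (x := x) 3) fun e => hv (e ▸ h4))
  have d4 := Submodule.finrank_le (ly x 4)
  have n12 : ¬ (T 1 ∧ T 2) := fun e => hi (hB 1 e.1 e.2 _ m3)
  have n23 : ¬ (T 2 ∧ T 3) := fun e => hv (hB 2 e.1 e.2 _ h4)
  have u1 : T 1 ∨ finrank k (ly x 1) + 3 ≤ finrank k (ly x 2) := hT 1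
  have u2 : T 2 ∨ finrank k (ly x 2) + 3 ≤ finrank k (ly x 3) := hT 2
  have u3 : T 3 ∨ finrank k (ly x 3) + 3 ≤ finrank k (ly x 4) := hT 3
  have t13 : T 1 ∧ T 3 := by
    by_cases b : T 2
    · have := u1.resolve_left fun a => n12 ⟨a, b⟩
      have := u3.resolve_left fun a => n23 ⟨b, a⟩
      omega
    · have := u2.resolve_left b
      exact ⟨u1.resolve_right (by omega), u3.resolve_right (by omega)⟩
  have key : ∀ i j, i ≠ j → x i (x j v) ∈ ly x 1 := fun i j hij => by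
    have e1 := t13.1 i _ (mem_ly.1 (mem_ly.1 h4 j) i)
    have e2 := mem_ly.1 (mem_ly.1 (t13.2 i v h4) j) i
    rw [H.eq, H.ne i j hij, map_neg] at e1
    rw [map_sub, map_sub] at e2
    refine mem_of_two h2 ?_
    have := neg_mem (add_mem e1 e2)
    convert this using 1
    abel
  refine hv (mem_ly.2 fun i => mem_ly.2 fun j => mem_ly_one.2 fun l => ?_)
  by_cases e : j = i
  · by_cases e' : l = j
    · rw [e', e, H.nil]
    · rw [H.comm l j, mem_ly_one.1 (key l i (e ▸ e')) j]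
  · exact mem_ly_one.1 (key j i e) l

theorem exists_smul {U W : Submodule k V} (h : U ≤ W) (hd : finrank k W ≤ finrank k U + 1) {v : V} (hv : v ∈ W)
    (hn : v ∉ U) {w : V} (hw : w ∈ W) : ∃ c : k, w - c • v ∈ U := by
  have h1 : U < U ⊔ k ∙ v := lt_of_le_of_ne le_sup_left fun e =>
    hn (e ▸ Submodule.mem_sup_right (Submodule.mem_span_singleton_self v))
  have h3 : U ⊔ (k ∙ v) = W := Submodule.eq_of_le_of_finrank_le
    (sup_le h ((Submodule.span_singleton_le_iff_mem _ _).2 hv)) (hd.trans (Submodule.finrank_lt_finrank_of_lt h1))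
  rw [← h3] at hw
  obtain ⟨u, hu, _, hz, rfl⟩ := Submodule.mem_sup.1 hw
  obtain ⟨c, rfl⟩ := Submodule.mem_span_singleton.1 hz
  exact ⟨c, by rwa [add_sub_cancel_right]⟩

/-- the sign changes anticommute -/
theorem Sg.case_anti (H : Sg x f) (h2 : (2 : k) ≠ 0) {ι : k} (hι : ι * ι = -1) (hf : ∀ i v, f i (f i v) = -v)
    (hc : ∀ i j, i ≠ j → ∀ v, f i (f j v) = -f j (f i v))
    (h6 : finrank k V ≤ finrank k (ly x 1) + 6) {v : V} (h4 : v ∈ ly x 4) : v ∈ ly x 3 := by
  by_contra hv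
  let M : ℕ → Submodule k V := fun n => ly x n ⊓ (f 0).eigenspace ι
  have hM : ∀ n w, w ∈ M n ↔ w ∈ ly x n ∧ f 0 w = ι • w := fun n w => by
    rw [Submodule.mem_inf, End.mem_eigenspace_iff]
  have hback : ∀ i n w, f i w ∈ ly x n → w ∈ ly x n := fun i n w h => by
    have := H.inv i n _ h
    rwa [hf, neg_mem_iff] at this
  have hp : ∀ w, f 0 (w - ι • f 0 w) = ι • (w - ι • f 0 w) := fun w => by
    rw [map_sub, map_smul, hf, smul_sub, smul_smul, hι, smul_neg, neg_one_smul, sub_neg_eq_add, sub_neg_eq_add, add_comm]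
  have hq : ∀ w, f 0 (f 1 (w + ι • f 0 w)) = ι • f 1 (w + ι • f 0 w) := fun w => by
    have e : f 0 (w + ι • f 0 w) = -(ι • (w + ι • f 0 w)) := by
      rw [map_add, map_smul, hf, smul_add, smul_smul, hι, smul_neg, neg_one_smul, neg_add, neg_neg, add_comm]
    rw [hc 0 1 (by decide), e, map_neg, neg_neg, map_smul]
  have hMp : ∀ n, ∀ w ∈ ly x n, w - ι • f 0 w ∈ M n := fun n w hw =>
    (hM _ _).2 ⟨sub_mem hw (Submodule.smul_mem _ _ (H.inv 0 n w hw)), hp w⟩
  have hMq : ∀ n, ∀ w ∈ ly x n, f 1 (w + ι • f 0 w) ∈ M n := fun n w hw =>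
    (hM _ _).2 ⟨H.inv 1 n _ (add_mem hw (Submodule.smul_mem _ _ (H.inv 0 n w hw))), hq w⟩
  have hinj : Function.Injective (f 1) := fun a b e => neg_injective (by rw [← hf 1, e, hf])
  have d4 : 2 * finrank k (M 4) ≤ finrank k V := by
    rw [← finrank_top k V]
    refine XL.Un2.two_mul_le (E' := (M 4).map (f 1)) le_top le_top ?_
      (LinearEquiv.finrank_eq (Submodule.equivMapOfInjective (f 1) hinj _)).le
    rw [Submodule.eq_bot_iff]
    rintro _ ⟨hw', w, hw, rfl⟩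
    have e := ((hM _ _).1 hw').2
    rw [hc 0 1 (by decide), ((hM _ _).1 hw).2, map_smul] at e
    have e2 : (2 * ι) • f 1 w = 0 := by
      rw [mul_smul, two_smul]
      nth_rewrite 1 [← e]
      exact neg_add_cancel _
    refine (smul_eq_zero.1 e2).resolve_left (mul_ne_zero h2 ?_)
    rintro rfl
    simp at hι
  have d1 : finrank k (ly x 1) ≤ 2 * finrank k (M 1) := by
    have e1 : ly x 1 ≤ M 1 ⊔ (M 1).map (f 1) := fun w hw => mem_of_two h2 (by
      have := sub_mem (Submodule.mem_sup_left (T := (M 1).map (f 1)) (hMp 1 w hw))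
        (Submodule.mem_sup_right (S := M 1) (Submodule.mem_map_of_mem (f := f 1) (hMq 1 w hw)))
      rw [hf] at this
      convert this using 1
      abel)
    have e2 := Submodule.finrank_mono e1
    have e3 := Submodule.finrank_add_le_finrank_add_finrank (M 1) ((M 1).map (f 1))
    have e4 := Submodule.finrank_map_le (f 1) (M 1)
    omega
  obtain ⟨v3, a3, b3⟩ : ∃ w ∈ M 4, w ∉ ly x 3 := by
    by_contra! e
    refine hv (mem_of_two h2 ?_)
    have := add_mem (e _ (hMp 4 v h4)) (hback 1 3 _ (e _ (hMq 4 v h4)))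
    convert this using 1
    abel
  let y : Fin 3 → End k V := fun i => f i * x i
  have hy : ∀ i w, y i w = f i (x i w) := fun _ _ => rfl
  have yM : ∀ i n, ∀ w ∈ M (n + 1), y i w ∈ M n := fun i n w hw => (hM _ _).2 ⟨H.inv i n _ (mem_ly.1 ((hM _ _).1 hw).1 i), by
    rw [hy, ← map_smul, ← map_smul, ← ((hM _ _).1 hw).2]
    by_cases e : i = 0
    · rw [e, H.eq 0 w]
    · rw [hc 0 i (Ne.symm e), H.ne 0 i (Ne.symm e), map_neg, neg_neg]⟩
  have ys : ∀ n w, w ∉ ly x (n + 1) → ∃ i, y i w ∉ ly x n := fun n w hw =>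
    (exists_step hw).imp fun i hi e => hi (hback i n _ e)
  have ya : ∀ i j, i ≠ j → ∀ w, y i (y j w) = -y j (y i w) := fun i j hij w => by
    simp only [hy]
    have e1 : x i (f j (x j w)) = -f j (x i (x j w)) := by rw [H.ne j i hij.symm, neg_neg]
    have e2 : x j (f i (x i w)) = -f i (x j (x i w)) := by rw [H.ne i j hij, neg_neg]
    rw [e1, e2, map_neg, map_neg, neg_neg, hc i j hij, neg_neg, H.comm i j]
  have y3 : ∀ i w, y i (y i (y i w)) = 0 := fun i w => by
    simp only [hy, ← H.eq, H.nil, map_zero]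
  obtain ⟨i3, b2⟩ := ys 2 v3 b3
  have a2 := yM i3 3 v3 a3
  set v2 := y i3 v3
  obtain ⟨i2, b1⟩ := ys 1 v2 b2
  have a1 := yM i2 2 v2 a2
  set v1 := y i2 v2
  obtain ⟨l, hl⟩ := ys 0 v1 b1
  have hle : ∀ n, M n ≤ M (n + 1) := fun n => inf_le_inf_right _ (ly_le n)
  have r1 := Submodule.finrank_lt_finrank_of_lt (lt_of_le_of_ne (hle 1) fun e => b1 (e ▸ a1 : v1 ∈ M 1).1)
  have r2 := Submodule.finrank_lt_finrank_of_lt (lt_of_le_of_ne (hle 2) fun e => b2 (e ▸ a2 : v2 ∈ M 2).1)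
  have r3 := Submodule.finrank_lt_finrank_of_lt (lt_of_le_of_ne (hle 3) fun e => b3 (e ▸ a3 : v3 ∈ M 3).1)
  simp only [Nat.reduceAdd] at r1 r2 r3
  choose α hα using fun i => exists_smul (hle 2) (by simp only [Nat.reduceAdd]; omega) a2 (fun e => b2 e.1) (yM i 3 v3 a3)
  choose β hβ using fun i => exists_smul (hle 1) (by simp only [Nat.reduceAdd]; omega) a1 (fun e => b1 e.1) (yM i 2 v2 a2)
  have y0 : ∀ i, ∀ w ∈ M 1, y i w = 0 := fun i w hw => (Submodule.mem_bot k).1 (yM i 0 w hw).1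
  have p1 : ∀ i j, y j (y i v3) - (α i * β j) • v1 ∈ M 1 := fun i j => by
    have := add_mem (yM j 1 _ (hα i)) (Submodule.smul_mem _ (α i) (hβ j))
    rw [map_sub, map_smul, smul_sub, smul_smul] at this
    convert this using 1
    abel
  have p2 : ∀ i j, y j (y i v2) = β i • y j v1 := fun i j => by
    have := y0 j _ (hβ i)
    rwa [map_sub, map_smul, sub_eq_zero] at this
  have hl0 : y l v1 ≠ 0 := fun e => hl (e ▸ zero_mem _)
  have q1 : α l * β l = 0 := by
    have := y0 l _ (p1 l l)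
    rw [map_sub, y3, map_smul, zero_sub, neg_eq_zero] at this
    exact (smul_eq_zero.1 this).resolve_right hl0
  have q2 : β l ≠ 0 := fun e => by
    have hb : ∀ j, β j = 0 := fun j => by
      by_cases e' : j = l
      · rw [e', e]
      · have := ya l j (Ne.symm e') v2
        rw [p2 j l, p2 l j, e, zero_smul, neg_zero] at this
        exact (smul_eq_zero.1 this).resolve_right hl0
    have := hβ i2
    rw [hb, zero_smul, sub_zero] at this
    exact b1 this.1
  have q3 : α l = 0 := (mul_eq_zero.1 q1).resolve_right q2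
  have q4 : α i3 = 0 := by
    by_cases e' : i3 = l
    · rw [e', q3]
    · have := add_mem (p1 i3 l) (p1 l i3)
      rw [ya l i3 (Ne.symm e'), q3, zero_mul, zero_smul, sub_zero] at this
      by_contra e
      refine b1 (((M 1).smul_mem_iff (mul_ne_zero e q2)).1 ?_).1
      convert neg_mem this using 1
      abel
  have := hα i3
  rw [q4, zero_smul, sub_zero] at this
  exact b2 this.1

end Cfsg.Agent.TwoF.XS.S62
end

-- part: TwoF/XS/S62/Grp
section
/-!
# TwoF XS-62: the group `3 ≀ 3` with sign changes (helper35)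
-/

set_option autoImplicit false
set_option linter.unusedSectionVars false

namespace Cfsg.Agent.TwoF.XS.S62

open Module Gen
open scoped Pointwise

variable {G : Type} [Group G]

/-- the relations -/
structure Dt (a0 a1 a2 s e : G) : Prop where
  a3 : a0 ^ 3 = 1
  ne : a0 ≠ 1
  s3 : s ^ 3 = 1
  c0 : s * a0 * s⁻¹ = a1
  c1 : s * a1 * s⁻¹ = a2
  c01 : a0 * a1 = a1 * a0
  e0 : e * a0 * e⁻¹ = a0
  e1 : e * a1 * e⁻¹ = a1⁻¹
  e2 : e * a2 * e⁻¹ = a2⁻¹

/-- words -/
def wd (a0 a1 a2 : G) (i j l : ℤ) : G := a0 ^ i * a1 ^ j * a2 ^ l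

namespace Dt

variable {a0 a1 a2 s e : G} (D : Dt a0 a1 a2 s e)
include D

theorem sss (g : G) : s * (s * (s * g * s⁻¹) * s⁻¹) * s⁻¹ = g := by
  rw [show s * (s * (s * g * s⁻¹) * s⁻¹) * s⁻¹ = s ^ 3 * g * (s ^ 3)⁻¹ by rw [pow_three]; group, D.s3]; group

theorem c2 : s * a2 * s⁻¹ = a0 := by rw [← D.c1, ← D.c0, D.sss]

theorem b3 : a1 ^ 3 = 1 := by rw [← D.c0, conj_pow, D.a3]; group

theorem d3 : a2 ^ 3 = 1 := by rw [← D.c1, conj_pow, D.b3]; group

theorem k01 : Commute a0 a1 := D.c01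

theorem k12 : Commute a1 a2 := by
  have := (D.k01).conj s
  rwa [D.c0, D.c1] at this

theorem k02 : Commute a0 a2 := by
  have := (D.k12).conj s
  rw [D.c1, D.c2] at this
  exact this.symm

theorem wd_mul (i j l i' j' l' : ℤ) :
    wd a0 a1 a2 i j l * wd a0 a1 a2 i' j' l' = wd a0 a1 a2 (i + i') (j + j') (l + l') := by
  simp only [wd, zpow_add]
  rw [(((D.k02.symm.zpow_zpow l i').mul_right (D.k12.symm.zpow_zpow l j'))).mul_mul_mul_comm,
    (D.k01.symm.zpow_zpow j i').mul_mul_mul_comm]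

theorem wd_congr {i j l i' j' l' : ℤ} (h1 : 3 ∣ i - i') (h2 : 3 ∣ j - j') (h3 : 3 ∣ l - l') :
    wd a0 a1 a2 i j l = wd a0 a1 a2 i' j' l' := by
  have key : ∀ (a : G) (i i' : ℤ), a ^ 3 = 1 → 3 ∣ i - i' → a ^ i = a ^ i' := by
    rintro a i i' ha ⟨c, hc⟩
    rw [show i = i' + 3 * c by omega, zpow_add, zpow_mul, zpow_ofNat, ha, one_zpow, mul_one]
  rw [wd, wd, key _ _ _ D.a3 h1, key _ _ _ D.b3 h2, key _ _ _ D.d3 h3]

omit D in
theorem wd_zero : wd a0 a1 a2 0 0 0 = 1 := by simp [wd]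

theorem wd_s (i j l : ℤ) : s * wd a0 a1 a2 i j l * s⁻¹ = wd a0 a1 a2 l i j := by
  rw [wd, show s * (a0 ^ i * a1 ^ j * a2 ^ l) * s⁻¹ =
    (s * a0 ^ i * s⁻¹) * (s * a1 ^ j * s⁻¹) * (s * a2 ^ l * s⁻¹) by group, ← conj_zpow, ← conj_zpow, ← conj_zpow,
    D.c0, D.c1, D.c2, wd, ← (((D.k01.zpow_zpow l i).mul_right (D.k02.zpow_zpow l j))).eq, mul_assoc]

theorem wd_e (i j l : ℤ) : e * wd a0 a1 a2 i j l * e⁻¹ = wd a0 a1 a2 i (-j) (-l) := by
  rw [wd, show e * (a0 ^ i * a1 ^ j * a2 ^ l) * e⁻¹ =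
    (e * a0 ^ i * e⁻¹) * (e * a1 ^ j * e⁻¹) * (e * a2 ^ l * e⁻¹) by group, ← conj_zpow, ← conj_zpow, ← conj_zpow,
    D.e0, D.e1, D.e2, wd, inv_zpow', inv_zpow']

theorem dvd1 {i j l : ℤ} (h : wd a0 a1 a2 i j l = 1) : 3 ∣ i := by
  haveI : Fact (Nat.Prime 3) := ⟨Nat.prime_three⟩
  have h1 := D.wd_mul i j l i (-j) (-l)
  rw [← D.wd_e, h, add_neg_cancel, add_neg_cancel, wd, zpow_zero, zpow_zero, mul_one, mul_one, mul_one, one_mul,
    mul_inv_cancel, eq_comm, ← orderOf_dvd_iff_zpow_eq_one, orderOf_eq_prime D.a3 D.ne] at h1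
  omega

theorem dvd {i j l : ℤ} (h : wd a0 a1 a2 i j l = 1) : 3 ∣ i ∧ 3 ∣ j ∧ 3 ∣ l := by
  have h1 : wd a0 a1 a2 l i j = 1 := by rw [← D.wd_s, h]; group
  have h2 : wd a0 a1 a2 j l i = 1 := by rw [← D.wd_s, h1]; group
  exact ⟨D.dvd1 h, D.dvd1 h2, D.dvd1 h1⟩

theorem dvd' {i j l i' j' l' : ℤ} (h : wd a0 a1 a2 i j l = wd a0 a1 a2 i' j' l') :
    3 ∣ i - i' ∧ 3 ∣ j - j' ∧ 3 ∣ l - l' := D.dvd (by
  rw [sub_eq_add_neg, sub_eq_add_neg, sub_eq_add_neg, ← D.wd_mul, h, D.wd_mul, add_neg_cancel, add_neg_cancel,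
    add_neg_cancel, wd_zero])

/-- the base group -/
def E : Subgroup G where
  carrier := {g | ∃ i j l, g = wd a0 a1 a2 i j l}
  one_mem' := ⟨0, 0, 0, wd_zero.symm⟩
  mul_mem' := by
    rintro _ _ ⟨i, j, l, rfl⟩ ⟨i', j', l', rfl⟩
    exact ⟨_, _, _, D.wd_mul _ _ _ _ _ _⟩
  inv_mem' := by
    rintro _ ⟨i, j, l, rfl⟩
    exact ⟨-i, -j, -l, by
      rw [inv_eq_iff_mul_eq_one, D.wd_mul, add_neg_cancel, add_neg_cancel, add_neg_cancel, wd_zero]⟩

theorem E_le {N : Subgroup G} (h0 : a0 ∈ N) (h1 : a1 ∈ N) (h2 : a2 ∈ N) : D.E ≤ N := by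
  rintro _ ⟨i, j, l, rfl⟩
  exact mul_mem (mul_mem (zpow_mem h0 _) (zpow_mem h1 _)) (zpow_mem h2 _)

theorem mem0 : a0 ∈ D.E := ⟨1, 0, 0, by simp [wd]⟩

theorem mem1 : a1 ∈ D.E := ⟨0, 1, 0, by simp [wd]⟩

theorem mem2 : a2 ∈ D.E := ⟨0, 0, 1, by simp [wd]⟩

theorem wd_cube (i j l : ℤ) : wd a0 a1 a2 i j l ^ 3 = 1 := by
  rw [pow_three, D.wd_mul, D.wd_mul, ← wd_zero (a0 := a0) (a1 := a1) (a2 := a2)]
  exact D.wd_congr (by omega) (by omega) (by omega)

theorem elemAb : IsElementaryAbelian 3 D.E := elemAb_of (by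
    rintro _ ⟨i, j, l, rfl⟩ _ ⟨i', j', l', rfl⟩
    rw [D.wd_mul, D.wd_mul, add_comm i, add_comm j, add_comm l]) (by
    rintro _ ⟨i, j, l, rfl⟩
    exact D.wd_cube i j l)

variable [Finite G]

theorem le_card : 27 ≤ Nat.card D.E := by
  have := Nat.card_le_card_of_injective
    (fun p : Fin 3 × Fin 3 × Fin 3 => (⟨_, (p.1 : ℕ), (p.2.1 : ℕ), (p.2.2 : ℕ), rfl⟩ : D.E)) fun p q h => by
      obtain ⟨h1, h2, h3⟩ := D.dvd' (congrArg Subtype.val h)
      exact Prod.ext (Fin.ext (by omega)) (Prod.ext (Fin.ext (by omega)) (Fin.ext (by omega)))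
  simpa only [_root_.ge_iff_le, _root_.Nat.card_eq_fintype_card, _root_.Fintype.card_prod, _root_.Fintype.card_fin, _root_.Nat.reduceMul] using this

theorem exists_conj (h81 : ∀ P : Subgroup G, IsPGroup 3 P → Nat.card P ≤ 81) {A : Subgroup G}
    (hA : IsElementaryAbelian 3 A) (h27 : 27 ≤ Nat.card A) :
    Nat.card D.E = 27 ∧ ∃ g, A.map (MulAut.conj g).toMonoidHom = D.E := by
  haveI : Fact (Nat.Prime 3) := ⟨Nat.prime_three⟩
  have hn : Subgroup.zpowers s ≤ Subgroup.normalizer (D.E : Set G) := Subgroup.zpowers_le.2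
    (Subgroup.mem_normalizer_fintype (by
      rintro _ ⟨i, j, l, rfl⟩
      exact ⟨_, _, _, D.wd_s i j l⟩))
  have hE := elemAb_isPGroup D.elemAb
  have hQ : IsPGroup 3 ↥(D.E ⊔ Subgroup.zpowers s) :=
    IsPGroup.to_sup_of_normal_left' hE (elemAb_isPGroup (elemAb_zpowers D.s3)) hn
  have fix : ∀ i j l, s * wd a0 a1 a2 i j l * s⁻¹ = wd a0 a1 a2 i j l →
      wd a0 a1 a2 i j l ∈ Subgroup.zpowers (wd a0 a1 a2 1 1 1) := fun i j l h => by
    rw [D.wd_s] at h
    obtain ⟨h1, h2, h3⟩ := D.dvd' h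
    obtain h | h | h : 3 ∣ i - 0 ∨ 3 ∣ i - 1 ∨ 3 ∣ i - (1 + 1) := by (clear * -; omega)
    · rw [D.wd_congr h (j' := 0) (l' := 0) (by omega) (by (clear * - h2 h3 h; omega)), wd_zero]
      exact one_mem _
    · rw [D.wd_congr h (j' := 1) (l' := 1) (by omega) (by (clear * - h2 h3 h; omega))]
      exact Subgroup.mem_zpowers _
    · rw [D.wd_congr h (j' := 1 + 1) (l' := 1 + 1) (by omega) (by (clear * - h2 h3 h; omega)), ← D.wd_mul]
      exact mul_mem (Subgroup.mem_zpowers _) (Subgroup.mem_zpowers _)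
  have hs : s ∉ D.E := fun h => by
    have h1 : s * wd a0 a1 a2 1 0 0 * s⁻¹ = wd a0 a1 a2 1 0 0 := by
      rw [elemAb_comm D.elemAb h ⟨1, 0, 0, rfl⟩, mul_inv_cancel_right]
    rw [D.wd_s] at h1
    have := (D.dvd' h1).1
    omega
  have l1 := D.le_card
  have l2 := h81 _ hQ
  obtain ⟨r, hr⟩ := hE.exists_card_eq
  obtain ⟨t, ht⟩ := hQ.exists_card_eq
  have l3 : Nat.card D.E < Nat.card ↥(D.E ⊔ Subgroup.zpowers s) := lt_of_not_ge fun h =>
    hs (Subgroup.eq_of_le_of_card_ge le_sup_left h ▸ Subgroup.mem_sup_right (Subgroup.mem_zpowers s))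
  rw [hr] at l1
  rw [ht] at l2
  rw [hr, ht] at l3
  have r1 : 2 < r := (Nat.pow_lt_pow_iff_right (by norm_num : 1 < 3)).1 (by omega)
  have r2 : t < 5 := (Nat.pow_lt_pow_iff_right (by norm_num : 1 < 3)).1 (by omega)
  have r3 : r < t := (Nat.pow_lt_pow_iff_right (by norm_num : 1 < 3)).1 l3
  obtain rfl : r = 3 := by omega
  obtain rfl : t = 4 := by omega
  refine ⟨hr, ?_⟩
  obtain ⟨P, hP⟩ := (elemAb_isPGroup hA).exists_le_sylow
  obtain ⟨P', hP'⟩ := hQ.exists_le_sylow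
  obtain ⟨g, hg⟩ := MulAction.exists_smul_eq G P P'
  have e1 : D.E ⊔ Subgroup.zpowers s = P' := Subgroup.eq_of_le_of_card_ge hP' (ht ▸ h81 _ P'.2)
  set B := A.map (MulAut.conj g).toMonoidHom
  have hB : IsElementaryAbelian 3 B := elemAb_map hA _
  have cB : 27 ≤ Nat.card B := by rwa [card_map_conj]
  have hBQ : B ≤ D.E ⊔ Subgroup.zpowers s := by
    rw [e1, ← hg]
    exact Subgroup.map_mono hP
  refine ⟨g, Subgroup.eq_of_le_of_card_ge (fun x hx => by_contra fun hxE => ?_) (hr ▸ cB)⟩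
  obtain ⟨u, hu, _, ⟨m, rfl⟩, rfl⟩ : x ∈ (D.E : Set G) * (Subgroup.zpowers s : Set G) := by
    rw [← Subgroup.coe_mul_of_right_le_normalizer_left _ _ hn]
    exact hBQ hx
  have hm : 3 ∣ m * m - 1 := by
    obtain ⟨c, h | h | h⟩ : ∃ c, m = 3 * c ∨ m = 3 * c + 1 ∨ m = 3 * c + 2 := ⟨m / 3, by omega⟩
    · exact (hxE (mul_mem hu (by
        show s ^ m ∈ D.E
        rw [h, zpow_mul, zpow_ofNat, D.s3, one_zpow]
        exact one_mem _))).elim
    · exact ⟨3 * c * c + 2 * c, by rw [h]; ring⟩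
    · exact ⟨3 * c * c + 4 * c + 1, by rw [h]; ring⟩
  have h3 : B ⊓ D.E ≤ Subgroup.zpowers (wd a0 a1 a2 1 1 1) := by
    rintro d ⟨d1, d2⟩
    have k1 : Commute d (u * s ^ m) := elemAb_comm hB d1 hx
    have k2 : Commute d u := elemAb_comm D.elemAb d2 hu
    have k3 : Commute d (s ^ m) := by simpa using k2.inv_right.mul_right k1
    obtain ⟨c, hc⟩ := hm
    have k4 := k3.zpow_right m
    rw [← zpow_mul, show m * m = 3 * c + 1 by omega, zpow_add, zpow_mul, zpow_ofNat, D.s3, one_zpow, one_mul,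
      zpow_one] at k4
    obtain ⟨i, j, l, rfl⟩ := d2
    exact fix i j l (by rw [← k4.eq, mul_inv_cancel_right])
  have h4 := card_mul_card_le B D.E
  have h5 := Subgroup.card_le_of_le (sup_le hBQ le_sup_left)
  have h6 := Subgroup.card_le_of_le h3
  have h7 : Nat.card (Subgroup.zpowers (wd a0 a1 a2 1 1 1)) ≤ 3 := by
    rw [Nat.card_zpowers]
    exact orderOf_le_of_pow_eq_one (by norm_num) (D.wd_cube 1 1 1)
  rw [hr] at h4
  rw [ht] at h5
  nlinarith only [cB, h4, h5, h6, h7]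

end Dt

end Cfsg.Agent.TwoF.XS.S62
end

-- part: TwoF/XS/S62/Main
section
/-!
# TwoF XS-62: `Row88 3 (PSp 3 F)`, `|F| = 2` (helper35)
-/

set_option autoImplicit false
set_option linter.unusedSectionVars false

namespace Cfsg.Agent.TwoF.XS.S62

open Module Gen

section Rep

variable {G : Type} [Group G] [Finite G] {k : Type*} [Field k] [CharP k 3] {V : Type*} [AddCommGroup V] [Module k V]
  [FiniteDimensional k V] {ρ : Representation k G V}

theorem two_ne : (2 : k) ≠ 0 := fun e => by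
  have h3 : ((3 : ℕ) : k) = 0 := CharP.cast_eq_zero k 3
  rw [Nat.cast_ofNat, show (3 : k) = 2 + 1 by norm_num, e, zero_add] at h3
  exact one_ne_zero h3

include k in
theorem add_three (v : V) : v + v + v = 0 := by
  have h3 : ((3 : ℕ) : k) = 0 := CharP.cast_eq_zero k 3
  rw [← one_smul k v, ← add_smul, ← add_smul, show (1 + 1 + 1 : k) = ((3 : ℕ) : k) by norm_num, h3, zero_smul]

theorem rho_three {a : G} (h : a ^ 3 = 1) (v : V) : ρ a (ρ a (ρ a v)) = v := by
  rw [← rho_mul, ← rho_mul, ← pow_three', h, rho_one]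

theorem rho_inv {a : G} (h : a ^ 3 = 1) (v : V) : ρ a⁻¹ v = ρ a (ρ a v) := by
  rw [← rho_mul, show a⁻¹ = a * a by rw [inv_eq_iff_mul_eq_one, ← pow_three, h]]

/-- the odd part -/
def od (ρ : Representation k G V) (a : G) : End k V := ρ a - ρ a⁻¹

theorem od_apply (a : G) (v : V) : od ρ a v = ρ a v - ρ a⁻¹ v := rfl

theorem od_conj {g a b : G} (h : g * a * g⁻¹ = b) (v : V) : ρ g (od ρ a v) = od ρ b (ρ g v) := by
  rw [od_apply, od_apply, map_sub, ← h, ← rho_mul, ← rho_mul, ← rho_mul, ← rho_mul]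
  congr 3 <;> group

theorem od_inv (a : G) (v : V) : od ρ a⁻¹ v = -od ρ a v := by rw [od_apply, od_apply, inv_inv, neg_sub]

theorem od_comm {a b : G} (h : Commute a b) (v : V) : od ρ a (od ρ b v) = od ρ b (od ρ a v) := by
  rw [od_apply a, od_apply a, map_sub, od_conj (g := a) (a := b) (b := b) (by rw [h.eq, mul_inv_cancel_right]),
    od_conj (g := a⁻¹) (a := b) (b := b) (by rw [h.inv_left.eq, mul_inv_cancel_right])]

theorem od_nil {a : G} (h : a ^ 3 = 1) (v : V) : od ρ a (od ρ a (od ρ a v)) = 0 := by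
  simp only [od_apply, rho_inv h, map_sub, rho_three h]
  rw [← add_three (k := k) (ρ a (ρ a v) - ρ a v)]
  abel

theorem mem_of_od {a : G} (h : a ^ 3 = 1) {U : Submodule k V} (hU : ∀ u ∈ U, ρ a u ∈ U) {v : V} (hv : od ρ a v ∈ U) :
    ρ a v - v ∈ U := by
  refine mem_of_two two_ne ?_
  have := add_mem (sub_mem (hU _ (hU _ (hU _ hv))) (hU _ (hU _ hv))) (hU _ hv)
  simp only [od_apply, rho_inv h, map_sub, rho_three h] at this
  convert this using 1
  abel

variable {a0 a1 a2 s e : G} (D : Dt a0 a1 a2 s e)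
include D

theorem asc_eq (n : ℕ) : asc ρ D.E n = ly (fun i => od ρ (![a0, a1, a2] i)) n := by
  induction n with
  | zero => rfl
  | succ n ih =>
    ext v
    have hi : Inv ρ D.E (asc ρ D.E n) := inv_asc Subgroup.le_normalizer n
    rw [mem_ly, ← ih]
    refine ⟨fun h i => ?_, fun h => ?_⟩
    · have hm : ![a0, a1, a2] i ∈ D.E := by
        fin_cases i
        exacts [D.mem0, D.mem1, D.mem2]
      have := sub_mem (h _ hm) (h _ (inv_mem hm))
      rwa [sub_sub_sub_cancel_right] at this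
    · have key : ∀ a ∈ D.E, a ^ 3 = 1 → od ρ a v ∈ asc ρ D.E n → a ∈ stabQ ρ (asc ρ D.E n) v := fun a ha h3 hv =>
        ⟨fun u hu => ⟨hi a ha u hu, hi _ (inv_mem ha) u hu⟩, mem_of_od h3 (hi a ha) hv⟩
      exact fun b hb => (D.E_le (key _ D.mem0 D.a3 (h 0)) (key _ D.mem1 D.b3 (h 1)) (key _ D.mem2 D.d3 (h 2)) hb).2

theorem cub_of {ι : k} (hι : ι * ι = -1) {g c : G} (hg : g = s * e * s⁻¹ * e⁻¹) (hc : g * g = c)
    (hcs : s * c * s⁻¹ = c) (hw : s * g * s⁻¹ * g = c * (g * (s * g * s⁻¹)))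
    (hρ : (∀ v, ρ c v = v) ∨ ∀ v, ρ c v = -v) (h6 : cod ρ D.E ≤ 6) : Cub ρ D.E := by
  haveI : Fact (Nat.Prime 3) := ⟨Nat.prime_three⟩
  by_contra hn
  obtain ⟨v, v4, v3⟩ := exists_asc_four (elemAb_isPGroup D.elemAb) hn
  have h7 := cod_add (ρ := ρ) D.E
  rw [← asc_one, asc_eq D] at h7
  rw [asc_eq D] at v4 v3
  have p0 : g * a0 * g⁻¹ = a0⁻¹ := by
    have e1 : e⁻¹ * a0 * e = a0 := by rw [← D.e0]; nth_rewrite 2 [D.e0]; group
    calc g * a0 * g⁻¹ = s * (e * (s⁻¹ * (e⁻¹ * a0 * e) * s) * e⁻¹) * s⁻¹ := by rw [hg]; group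
      _ = s * (e * a2 * e⁻¹) * s⁻¹ := by rw [e1, ← D.c2]; group
      _ = a0⁻¹ := by rw [D.e2, ← D.c2]; group
  have p1 : g * a1 * g⁻¹ = a1⁻¹ := by
    have e1 : e⁻¹ * a1⁻¹ * e = a1 := by rw [← D.e1]; group
    calc g * a1 * g⁻¹ = s * (e * (s⁻¹ * (e⁻¹ * a1⁻¹ * e)⁻¹ * s) * e⁻¹) * s⁻¹ := by rw [hg]; group
      _ = s * (e * a0 * e⁻¹)⁻¹ * s⁻¹ := by rw [e1, ← D.c0]; group
      _ = a1⁻¹ := by rw [D.e0, ← D.c0]; group
  have p2 : g * a2 * g⁻¹ = a2 := by
    have e1 : e⁻¹ * a2⁻¹ * e = a2 := by rw [← D.e2]; group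
    calc g * a2 * g⁻¹ = s * (e * (s⁻¹ * (e⁻¹ * a2⁻¹ * e)⁻¹ * s) * e⁻¹) * s⁻¹ := by rw [hg]; group
      _ = s * (e * a1 * e⁻¹)⁻¹ * s⁻¹ := by rw [e1, ← D.c1]; group
      _ = a2 := by rw [D.e1, ← D.c1]; group
  have cj : ∀ {x a b : G}, x * a * x⁻¹ = b → (s * x * s⁻¹) * (s * a * s⁻¹) * (s * x * s⁻¹)⁻¹ = s * b * s⁻¹ :=
    fun h => by rw [← h]; group
  have cm : ∀ {x y z : G}, x * y = z → (s * x * s⁻¹) * (s * y * s⁻¹) = s * z * s⁻¹ := fun h => by rw [← h]; group
  set g0 := s * g * s⁻¹ with hg0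
  set g1 := s * g0 * s⁻¹ with hg1
  have hg2 : s * g1 * s⁻¹ = g := D.sss g
  have q0 := cj p2
  have q1 := cj p0
  have q2 := cj p1
  rw [← hg0, D.c2] at q0
  rw [← hg0, ← conj_inv, D.c0] at q1
  rw [← hg0, ← conj_inv, D.c1] at q2
  have r1 := cj q0
  have r2 := cj q1
  have r0 := cj q2
  rw [← hg1, D.c0] at r1
  rw [← hg1, ← conj_inv, D.c1] at r2
  rw [← hg1, ← conj_inv, D.c2] at r0
  have H : Sg (fun i => od ρ (![a0, a1, a2] i)) fun i => ρ (![g0, g1, g] i) := by
    refine ⟨fun i j v => od_comm ?_ v, fun i v => od_nil ?_ v, fun i v => od_conj ?_ v,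
      fun i j hij v => (od_conj ?_ v).trans (od_inv _ _)⟩
    · fin_cases i <;> fin_cases j
      exacts [rfl, D.k01, D.k02, D.k01.symm, rfl, D.k12, D.k02.symm, D.k12.symm, rfl]
    · fin_cases i
      exacts [D.a3, D.b3, D.d3]
    · fin_cases i
      exacts [q0, r1, p2]
    · fin_cases i <;> fin_cases j
      exacts [absurd rfl hij, q1, q2, r0, absurd rfl hij, r2, p0, p1, absurd rfl hij]
  have s0 : g0 * g0 = c := (cm hc).trans hcs
  have s1 : g1 * g1 = c := (cm s0).trans hcs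
  have cw : ∀ {x y : G}, x * y = c * (y * x) →
      (s * x * s⁻¹) * (s * y * s⁻¹) = c * ((s * y * s⁻¹) * (s * x * s⁻¹)) := fun h => by
    rw [cm h]
    nth_rewrite 2 [← hcs]
    group
  have w0 : g1 * g0 = c * (g0 * g1) := cw hw
  have w1 : g * g1 = c * (g1 * g) := by
    have := cw w0
    rwa [hg2] at this
  have hsq : ∀ i v, ρ (![g0, g1, g] i) (ρ (![g0, g1, g] i) v) = ρ c v := fun i v => by
    rw [← rho_mul]
    congr 2
    fin_cases i
    exacts [s0, s1, hc]
  rcases hρ with hρ | hρ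
  · refine v3 (H.case_comm two_ne (s := ρ s) (rho_three D.s3) (fun i v => (hsq i v).trans (hρ v)) (fun v => ?_)
      (fun v => ?_) (fun i v => ?_) (fun i v => (od_conj ?_ v).symm) (by omega) v4)
    · show ρ g1 (ρ g0 v) = ρ g0 (ρ g1 v)
      rw [← rho_mul, w0, rho_mul, hρ, rho_mul]
    · show ρ g v = ρ g0 (ρ g1 v)
      have e1 : g1 * (g0 * g) = 1 := by
        rw [hg1, hg0, hg]
        calc _ = s ^ 3 * e * (s ^ 3)⁻¹ * e⁻¹ := by rw [pow_three]; group
          _ = 1 := by rw [D.s3]; group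
      have e2 : ρ g0 (ρ g1 (ρ g1 (ρ g0 (ρ g v)))) = ρ g0 (ρ g1 v) := by
        rw [← rho_mul ρ g0 g, ← rho_mul ρ g1 (g0 * g), e1, rho_one]
      rwa [← rho_mul ρ g1 g1, s1, hρ, ← rho_mul ρ g0 g0, s0, hρ] at e2
    · rw [← rho_mul, ← rho_mul]
      congr 2
      rw [eq_comm, ← mul_inv_eq_iff_eq_mul]
      fin_cases i
      exacts [rfl, hg2, rfl]
    · fin_cases i
      exacts [D.c0, D.c1, D.c2]
  · have an : ∀ {x y : G}, x * y = c * (y * x) → ∀ v, ρ x (ρ y v) = -ρ y (ρ x v) := fun h v => by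
      rw [← rho_mul, h, rho_mul, hρ, rho_mul]
    have an' : ∀ {x y : G}, x * y = c * (y * x) → ∀ v, ρ y (ρ x v) = -ρ x (ρ y v) := fun h v => by
      rw [an h, neg_neg]
    refine v3 (H.case_anti two_ne hι (fun i v => (hsq i v).trans (hρ v)) (fun i j hij => ?_) (by omega) v4)
    fin_cases i <;> fin_cases j
    exacts [absurd rfl hij, an' w0, an hw, an w0, absurd rfl hij, an' w1, an' hw, an w1, absurd rfl hij]

end Rep

theorem core {Y S : Type} [Group Y] [Finite Y] [Group S] {μ : Y →* S} (hs : Function.Surjective μ)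
    (hZ : ∀ z, μ z = 1 → ∀ y, z * y = y * z) (h3 : ∀ z, μ z = 1 → z ^ 3 = 1 → z = 1)
    (h81 : ∀ P : Subgroup Y, IsPGroup 3 P → Nat.card P ≤ 81) {b0 b1 b2 t d : S} (D : Dt b0 b1 b2 t d) {h : S}
    (h0 : h = t * d * t⁻¹ * d⁻¹) (h1 : h * h = 1) (h2 : t * h * t⁻¹ * h = h * (t * h * t⁻¹))
    {V : Type} [AddCommGroup V] [Module (ZMod 3) V] [Finite V] {ρ : Representation (ZMod 3) Y V} (hirr : Irr ρ ⊤) :
    G88 3 ρ := fun A hA => by
  by_cases hc : Cub ρ A
  · exact ⟨A, hA, hc⟩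
  have lift : ∀ b : S, b ^ 3 = 1 → ∃ a, μ a = b ∧ a ^ 3 = 1 := fun b hb => by
    obtain ⟨y, rfl⟩ := hs b
    obtain ⟨j, n, e1, e2⟩ := XL.Un2.exists_part μ Nat.prime_three y hb
    refine ⟨y ^ j, e1, ?_⟩
    have key : ∀ (n : ℕ) (z : Y), μ z = 1 → z ^ 3 ^ n = 1 → z = 1 := fun n z hz => by
      induction n with
      | zero => simp
      | succ n ih => exact fun e => ih (h3 _ (by rw [map_pow, hz, one_pow]) (by rw [← pow_mul, ← pow_succ, e]))
    exact key n _ (by rw [map_pow, e1, hb]) (by rw [← pow_mul, mul_comm, pow_mul, e2, one_pow])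
  have uniq : ∀ x y : Y, μ x = μ y → x ^ 3 = 1 → y ^ 3 = 1 → x = y := fun x y e hx hy => by
    have e1 : μ (x * y⁻¹) = 1 := by rw [map_mul, map_inv, e, mul_inv_cancel]
    have e2 : Commute (x * y⁻¹) y := hZ _ e1 y
    have e3 := e2.mul_pow 3
    rw [inv_mul_cancel_right, hx, hy, mul_one] at e3
    exact mul_inv_eq_one.1 (h3 _ e1 e3.symm)
  obtain ⟨a0, m0, n0⟩ := lift b0 D.a3
  obtain ⟨s, ms, ns⟩ := lift t D.s3
  obtain ⟨e, me⟩ := hs d
  have cj : ∀ x y : Y, y ^ 3 = 1 → (x * y * x⁻¹) ^ 3 = 1 := fun x y h => by rw [conj_pow, h]; group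
  have n1 := cj s _ n0
  have n2 := cj s _ n1
  have m1 : μ (s * a0 * s⁻¹) = b1 := by rw [map_mul, map_mul, map_inv, m0, ms, D.c0]
  have m2 : μ (s * (s * a0 * s⁻¹) * s⁻¹) = b2 := by rw [map_mul, map_mul, map_inv, m1, ms, D.c1]
  have D' : Dt a0 (s * a0 * s⁻¹) (s * (s * a0 * s⁻¹) * s⁻¹) s e :=
    ⟨n0, fun h => D.ne (by rw [← m0, h, map_one]), ns, rfl, rfl,
      mul_inv_eq_iff_eq_mul.1 (uniq _ _ (by
        rw [map_mul, map_mul, map_inv, m0, m1, D.c01, mul_inv_cancel_right]) (cj _ _ n1) n1),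
      uniq _ _ (by rw [map_mul, map_mul, map_inv, m0, me, D.e0]) (cj _ _ n0) n0,
      uniq _ _ (by rw [map_mul, map_mul, map_inv, map_inv, m1, me, D.e1]) (cj _ _ n1) (by rw [inv_pow, n1, inv_one]),
      uniq _ _ (by rw [map_mul, map_mul, map_inv, map_inv, m2, me, D.e2]) (cj _ _ n2) (by rw [inv_pow, n2, inv_one])⟩
  obtain ⟨c27, x, hx⟩ := D'.exists_conj h81 hA.1 (Nat.le_of_dvd Nat.card_pos (hA.pow_dvd_of_not_cub hc))
  have hO := hA.conj x
  rw [hx] at hO
  refine ⟨_, hO, ?_⟩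
  have h6 : cod ρ D'.E ≤ 6 := by
    have := hO.2.2
    rwa [c27, show 27 ^ 2 = 3 ^ 6 by norm_num, Nat.pow_le_pow_iff_right (by norm_num)] at this
  obtain ⟨g, hg⟩ : ∃ g, g = s * e * s⁻¹ * e⁻¹ := ⟨_, rfl⟩
  have mg : μ g = h := by simp only [hg, h0, map_mul, map_inv, ms, me]
  obtain ⟨c, hgc⟩ : ∃ c, g * g = c := ⟨_, rfl⟩
  have zc : μ c = 1 := by rw [← hgc, map_mul, mg, h1]
  have hcs : s * c * s⁻¹ = c := by rw [← hZ c zc, mul_inv_cancel_right]
  obtain ⟨g0, hg0⟩ : ∃ g0, g0 = s * g * s⁻¹ := ⟨_, rfl⟩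
  obtain ⟨w, hw⟩ : ∃ w, g0 * g = w * (g * g0) := ⟨g0 * g * (g * g0)⁻¹, by group⟩
  have zw : μ w = 1 := by
    have := congrArg μ hw
    simp only [hg0, map_mul, map_inv, mg, ms, h2] at this
    simpa only [_root_.right_eq_mul] using this
  have s0 : g0 * g0 = c := by rw [hg0, ← hcs, ← hgc]; group
  have s1 : (g0 * g) * (g0 * g) * c = 1 := by
    have e1 : s * g0 * s⁻¹ * (g0 * g) = 1 := by
      rw [hg0, hg]
      calc _ = s ^ 3 * e * (s ^ 3)⁻¹ * e⁻¹ := by rw [pow_three]; group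
        _ = 1 := by rw [ns]; group
    rw [eq_inv_of_mul_eq_one_right e1, ← hcs, ← s0]
    group
  have kc : ∀ y, Commute c y := hZ c zc
  have kw : ∀ y, Commute w y := hZ w zw
  have e1 : w * c * c * c = 1 := by
    calc w * c * c * c = w * (g * (c * g)) * c := by rw [(kc g).eq, ← mul_assoc g, hgc, ← mul_assoc]
      _ = w * (g * g0) * (g0 * g) * c := by nth_rewrite 1 [← s0]; group
      _ = 1 := by rw [← hw, s1]
  have e2 : w * w = 1 := by
    have : c * g = w * w * (g * c) := by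
      calc c * g = g0 * (g0 * g) := by rw [← s0, mul_assoc]
        _ = g0 * w * (g * g0) := by rw [hw, mul_assoc]
        _ = w * (g0 * g) * g0 := by rw [← (kw g0).eq]; group
        _ = w * w * (g * c) := by rw [hw, ← s0]; group
    rw [(kc g).eq] at this
    simpa only [_root_.right_eq_mul] using this
  have e3 : c * c = 1 := h3 _ (by rw [map_mul, zc, mul_one]) (by
    have : w = (c * c * c)⁻¹ := eq_inv_of_mul_eq_one_left (by rw [← e1]; group)
    rw [this, ← mul_inv_rev, inv_eq_one] at e2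
    rw [← e2, pow_three]
    group)
  have e4 : w = c := by
    rw [mul_assoc, e3, mul_one] at e1
    rw [eq_inv_of_mul_eq_one_left e1, inv_eq_of_mul_eq_one_right e3]
  have hρ : (∀ v, ρ c v = v) ∨ ∀ v, ρ c v = -v := by
    rcases hirr (fx ρ (Subgroup.zpowers c)) (fun y _ v hv => mem_fx_zpowers.2 (by
      rw [← rho_mul, (kc y).eq, rho_mul, mem_fx_zpowers.1 hv])) with e | e
    · refine Or.inr fun v => ?_
      have : ρ c v + v ∈ fx ρ (Subgroup.zpowers c) := mem_fx_zpowers.2 (by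
        rw [map_add, ← rho_mul, e3, rho_one, add_comm])
      rwa [e, Submodule.mem_bot, add_eq_zero_iff_eq_neg] at this
    · exact Or.inl fun v => mem_fx_zpowers.1 (e ▸ Submodule.mem_top)
  let L := AlgebraicClosure (ZMod 3)
  obtain ⟨ι, hι⟩ := IsAlgClosed.exists_eq_mul_self (-1 : L)
  refine (cub_bc L _).1 (cub_of D' hι.symm hg hgc hcs (by rw [← hg0, hw, e4]) (hρ.imp (fun e v => ?_) fun e v => ?_)
    (by rwa [cod_bc]))
  · rw [bc_apply, show ρ c = 1 from LinearMap.ext e, LinearMap.baseChange_one]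
    rfl
  · rw [bc_apply, show ρ c = -1 from LinearMap.ext e, LinearMap.baseChange_neg, LinearMap.baseChange_one]
    rfl

open StandardComponent.SpTwoAut Matrix

/-- the matrices -/
def mt (i : Fin 6) : Matrix (Fin 3 ⊕ Fin 3) (Fin 3 ⊕ Fin 3) (ZMod 2) :=
  match i with
  | 0 => fromBlocks !![0, 0, 0; 0, 1, 0; 0, 0, 1] !![1, 0, 0; 0, 0, 0; 0, 0, 0] !![1, 0, 0; 0, 0, 0; 0, 0, 0] 1
  | 1 => fromBlocks !![1, 0, 0; 0, 0, 0; 0, 0, 1] !![0, 0, 0; 0, 1, 0; 0, 0, 0] !![0, 0, 0; 0, 1, 0; 0, 0, 0] 1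
  | 2 => fromBlocks !![1, 0, 0; 0, 1, 0; 0, 0, 0] !![0, 0, 0; 0, 0, 0; 0, 0, 1] !![0, 0, 0; 0, 0, 0; 0, 0, 1] 1
  | 3 => fromBlocks !![0, 0, 1; 1, 0, 0; 0, 1, 0] 0 0 !![0, 0, 1; 1, 0, 0; 0, 1, 0]
  | 4 => fromBlocks !![1, 0, 0; 0, 0, 0; 0, 0, 0] !![0, 0, 0; 0, 1, 0; 0, 0, 1] !![0, 0, 0; 0, 1, 0; 0, 0, 1]
      !![1, 0, 0; 0, 0, 0; 0, 0, 0]
  | 5 => fromBlocks !![0, 0, 0; 0, 0, 0; 0, 0, 1] !![1, 0, 0; 0, 1, 0; 0, 0, 0] !![1, 0, 0; 0, 1, 0; 0, 0, 0]
      !![0, 0, 0; 0, 0, 0; 0, 0, 1]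

private noncomputable def _root_.Cfsg.Agent.LsF.f941114_0 : {f // @Cfsg.Agent.TwoF.XS.S62.mt = f} := ⟨_, by first | (delta Cfsg.Agent.TwoF.XS.S62.mt; rewrite [Cfsg.Agent.LsF.mof_pat, Cfsg.Agent.LsF.vecCons_eq, Cfsg.Agent.LsF.instMOne_eq, Cfsg.Agent.LsF.dFinEq_eq]; (try delta Cfsg.Agent.TwoF.XS.S62.mt.match_1); (try delta Fin.casesOn Nat.casesOn Nat.le.casesOn); exact rfl) | exact rfl⟩
theorem mt_mem (i : Fin 6) : mt i ∈ Matrix.symplecticGroup (Fin 3) (ZMod 2) := by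
  rw [SymplecticGroup.mem_iff]
  revert i
  (refine of_decide_eq_true ?_; (try (rewrite [Cfsg.Agent.LsF.f941114_0.2, Cfsg.Agent.LsF.zdecEq_eq, Cfsg.Agent.LsF.finFintype_eq, Cfsg.Agent.LsF.dMat_eq, Cfsg.Agent.LsF.instMHMul_eq, Cfsg.Agent.LsF.transpose_eq, Cfsg.Agent.LsF.instZMul_pat, Cfsg.Agent.LsF.zACM_pat, Cfsg.Agent.LsF.dFinEq_eq, Cfsg.Agent.LsF.dForallFin_eq, Cfsg.Agent.LsF.decide_eq])); decide +kernel)

/-- the elements -/
def el (i : Fin 6) : X := ⟨mt i, mt_mem i⟩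

theorem rel2 {i j l m : Fin 6} (h : mt i * mt j = mt l * mt m) : el i * el j = el l * el m := Subtype.ext h

theorem dt : Dt (el 0) (el 1) (el 2) (el 3) (el 4) where
  a3 := by rw [pow_three']; exact Subtype.ext (show mt 0 * mt 0 * mt 0 = 1 by decide +kernel)
  ne := fun e => absurd (congrArg Subtype.val e) (show mt 0 ≠ 1 by decide +kernel)
  s3 := by rw [pow_three']; exact Subtype.ext (show mt 3 * mt 3 * mt 3 = 1 by decide +kernel)
  c0 := mul_inv_eq_iff_eq_mul.2 (rel2 (by decide +kernel))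
  c1 := mul_inv_eq_iff_eq_mul.2 (rel2 (by decide +kernel))
  c01 := rel2 (by decide +kernel)
  e0 := mul_inv_eq_iff_eq_mul.2 (rel2 (by decide +kernel))
  e1 := by
    rw [mul_inv_eq_iff_eq_mul, eq_inv_mul_iff_mul_eq]
    exact Subtype.ext (show mt 1 * (mt 4 * mt 1) = mt 4 by decide +kernel)
  e2 := by
    rw [mul_inv_eq_iff_eq_mul, eq_inv_mul_iff_mul_eq]
    exact Subtype.ext (show mt 2 * (mt 4 * mt 2) = mt 4 by decide +kernel)

theorem row_X : Row88 3 X := row88_of_sit fun Y _ _ V _ _ _ K ρ π φ H => by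
  obtain rfl : K = ⊤ := eq_top_iff.2 fun y _ => H.toFrm.mem_inn_iff.1 ((_root_.Cfsg.Agent.StandardComponent.SpTwoAut.inner (φ y)).imp fun _ h => h.symm)
  have e5 : el 3 * el 5 * (el 3)⁻¹ = el 4 := mul_inv_eq_iff_eq_mul.2 (rel2 (by decide +kernel))
  let μ : Y →* X := π.comp (Subgroup.topEquiv (G := Y)).symm.toMonoidHom
  have hc : ∀ z, μ z = 1 → z ∈ Subgroup.centralizer ((⊤ : Subgroup Y) : Set Y) := fun z hz =>
    H.toFrm.π_eq_one_iff.1 hz
  refine core (μ := μ) (fun x => (H.surj x).elim fun y h => ⟨y, h⟩)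
    (fun z hz y => (hc z hz y trivial).symm)
    (fun z hz h3 => H.toStp.eq_one_of_mem_centralizer (n := 1) h3 (hc z hz)) (fun P hP => ?_) dt (h := el 5) ?_
    (Subtype.ext (show mt 5 * mt 5 = 1 by decide +kernel)) (by rw [e5]; exact rel2 (by decide +kernel)) H.irr
  · obtain ⟨r, hr⟩ := hP.exists_card_eq
    have h1 := Subgroup.card_subgroup_dvd_card (P.map φ)
    rw [H.toStp.card_map H.toFrm hP, hr, card_mulAut, LieClassical.SympCount.card_symplecticGroup, ZMod.card] at h1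
    rw [hr, show 81 = 3 ^ 4 by norm_num]
    refine Nat.pow_le_pow_right (by norm_num) (le_of_not_gt fun h => ?_)
    exact absurd ((pow_dvd_pow 3 h).trans h1) (by decide +kernel)
  · rw [eq_mul_inv_iff_mul_eq, eq_mul_inv_iff_mul_eq]
    exact Subtype.ext (show mt 5 * mt 4 * mt 3 = mt 3 * mt 4 by decide +kernel)

end Cfsg.Agent.TwoF.XS.S62

namespace Cfsg.Agent.TwoF.XS

/-- **`Sp₆(2)`, `p = 3`** -/
theorem sp62 : Sp62 := fun _ _ _ hF Y _ _ V _ _ _ K ρ hs he =>
  S62.row_X Y V K ρ hs (he.elim fun f => (StandardComponent.SpTwoAut.exists_equiv hF).map fun e => f.trans e)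

end Cfsg.Agent.TwoF.XS
end

-- part: TwoF/XS/O8p/Str
section
/-!
# TwoF / XS / O8p: a group with Sylow 3-subgroup `(3 ≀ 3) × 3` (helper36)

`E = ⟨a, b, c, d⟩ ≅ 3⁴`; every elementary abelian 3-subgroup is conjugate into `E`, the normaliser of `E` is
irreducible on `E`; Chermak-Delgado inside `E`.
-/

set_option autoImplicit false

namespace Cfsg.Agent.TwoF.XS.O8p

open Module Gen Subgroup

/-- the data -/
structure Str (G : Type*) [Group G] where
  (a b c d s p q t g : G)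
  a3 : a ^ 3 = 1
  b3 : b ^ 3 = 1
  c3 : c ^ 3 = 1
  d3 : d ^ 3 = 1
  s3 : s ^ 3 = 1
  ab : a * b = b * a
  ac : a * c = c * a
  ad : a * d = d * a
  bc : b * c = c * b
  bd : b * d = d * b
  cd : c * d = d * c
  sa : s * a * s⁻¹ = b
  sb : s * b * s⁻¹ = c
  sc : s * c * s⁻¹ = a
  sd : s * d * s⁻¹ = d
  pa : p * a * p⁻¹ = a⁻¹
  pb : p * b * p⁻¹ = b⁻¹
  pc : p * c * p⁻¹ = c
  pd : p * d * p⁻¹ = d
  qa : q * a * q⁻¹ = a⁻¹
  qb : q * b * q⁻¹ = b
  qc : q * c * q⁻¹ = c⁻¹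
  qd : q * d * q⁻¹ = d
  ta : t * a * t⁻¹ = a
  tb : t * b * t⁻¹ = b
  tc : t * c * t⁻¹ = d
  td : t * d * t⁻¹ = c
  gz : g * (a * b * c) * g⁻¹ = a * b * c
  gd : g * d * g⁻¹ = d
  gs : g * s * g⁻¹ = a * b⁻¹

variable {G : Type*} [Group G]

theorem zpow_congr {x : G} (hx : x ^ 3 = 1) {i j : ℤ} (h : 3 ∣ i - j) : x ^ i = x ^ j := by
  obtain ⟨n, hn⟩ := h
  have h3 : x ^ (3 : ℤ) = 1 := by rw [← hx]; exact zpow_natCast x 3
  rw [show i = j + 3 * n by omega, zpow_add, zpow_mul, h3, one_zpow, mul_one]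

theorem dvd_of_zpow {x : G} (hx : x ^ 3 = 1) (h1 : x ≠ 1) {i : ℤ} (h : x ^ i = 1) : 3 ∣ i := by
  have h2 := orderOf_dvd_iff_zpow_eq_one.2 h
  rwa [orderOf_eq_prime hx h1] at h2

theorem mem_of_zpow {x : G} (hx : x ^ 3 = 1) {N : Subgroup G} {i : ℤ} (h : x ^ i ∈ N) (h1 : x ^ i ≠ 1) : x ∈ N := by
  have h0 : ¬ 3 ∣ i - 0 := fun e => h1 (by rw [zpow_congr hx e, zpow_zero])
  by_cases h2 : 3 ∣ i - 1
  · rwa [zpow_congr hx h2, zpow_one] at h
  · rwa [zpow_congr hx (show 3 ∣ i - -1 by omega), zpow_neg_one, inv_mem_iff] at h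

namespace Str

/-- the image of the data -/
def map {H : Type*} [Group H] (T : Str G) (f : G →* H) : Str H where
  a := f T.a
  b := f T.b
  c := f T.c
  d := f T.d
  s := f T.s
  p := f T.p
  q := f T.q
  t := f T.t
  g := f T.g
  a3 := by rw [← map_pow, T.a3, map_one]
  b3 := by rw [← map_pow, T.b3, map_one]
  c3 := by rw [← map_pow, T.c3, map_one]
  d3 := by rw [← map_pow, T.d3, map_one]
  s3 := by rw [← map_pow, T.s3, map_one]
  ab := by simpa only [map_mul] using congrArg f T.ab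
  ac := by simpa only [map_mul] using congrArg f T.ac
  ad := by simpa only [map_mul] using congrArg f T.ad
  bc := by simpa only [map_mul] using congrArg f T.bc
  bd := by simpa only [map_mul] using congrArg f T.bd
  cd := by simpa only [map_mul] using congrArg f T.cd
  sa := by simpa only [map_mul, map_inv] using congrArg f T.sa
  sb := by simpa only [map_mul, map_inv] using congrArg f T.sb
  sc := by simpa only [map_mul, map_inv] using congrArg f T.sc
  sd := by simpa only [map_mul, map_inv] using congrArg f T.sd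
  pa := by simpa only [map_mul, map_inv] using congrArg f T.pa
  pb := by simpa only [map_mul, map_inv] using congrArg f T.pb
  pc := by simpa only [map_mul, map_inv] using congrArg f T.pc
  pd := by simpa only [map_mul, map_inv] using congrArg f T.pd
  qa := by simpa only [map_mul, map_inv] using congrArg f T.qa
  qb := by simpa only [map_mul, map_inv] using congrArg f T.qb
  qc := by simpa only [map_mul, map_inv] using congrArg f T.qc
  qd := by simpa only [map_mul, map_inv] using congrArg f T.qd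
  ta := by simpa only [map_mul, map_inv] using congrArg f T.ta
  tb := by simpa only [map_mul, map_inv] using congrArg f T.tb
  tc := by simpa only [map_mul, map_inv] using congrArg f T.tc
  td := by simpa only [map_mul, map_inv] using congrArg f T.td
  gz := by simpa only [map_mul, map_inv] using congrArg f T.gz
  gd := by simpa only [map_mul, map_inv] using congrArg f T.gd
  gs := by simpa only [map_mul, map_inv] using congrArg f T.gs

variable (T : Str G)

/-- the elements of `E` -/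
def el (i j k l : ℤ) : G := T.a ^ i * (T.b ^ j * (T.c ^ k * T.d ^ l))

theorem el_mul (i j k l i' j' k' l' : ℤ) :
    T.el i j k l * T.el i' j' k' l' = T.el (i + i') (j + j') (k + k') (l + l') := by
  have ab : Commute T.a T.b := T.ab
  have ac : Commute T.a T.c := T.ac
  have ad : Commute T.a T.d := T.ad
  have bc : Commute T.b T.c := T.bc
  have bd : Commute T.b T.d := T.bd
  have cd : Commute T.c T.d := T.cd
  unfold el
  rw [(((ab.zpow_zpow i' j).mul_right ((ac.zpow_zpow i' k).mul_right (ad.zpow_zpow i' l))).symm).mul_mul_mul_comm,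
    (((bc.zpow_zpow j' k).mul_right (bd.zpow_zpow j' l)).symm).mul_mul_mul_comm,
    ((cd.zpow_zpow k' l).symm).mul_mul_mul_comm, ← zpow_add, ← zpow_add, ← zpow_add, ← zpow_add]

theorem el_zero : T.el 0 0 0 0 = 1 := by simp [el]

theorem el_inv (i j k l : ℤ) : (T.el i j k l)⁻¹ = T.el (-i) (-j) (-k) (-l) :=
  inv_eq_of_mul_eq_one_right (by rw [el_mul]; simp [el_zero])

theorem el_congr {i j k l i' j' k' l' : ℤ} (h1 : 3 ∣ i - i') (h2 : 3 ∣ j - j') (h3 : 3 ∣ k - k') (h4 : 3 ∣ l - l') :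
    T.el i j k l = T.el i' j' k' l' := by
  unfold el
  rw [zpow_congr T.a3 h1, zpow_congr T.b3 h2, zpow_congr T.c3 h3, zpow_congr T.d3 h4]

theorem el_a (i : ℤ) : T.a ^ i = T.el i 0 0 0 := by simp [el]
theorem el_b (i : ℤ) : T.b ^ i = T.el 0 i 0 0 := by simp [el]
theorem el_c (i : ℤ) : T.c ^ i = T.el 0 0 i 0 := by simp [el]
theorem el_d (i : ℤ) : T.d ^ i = T.el 0 0 0 i := by simp [el]

theorem conj_el (x : G) (i j k l : ℤ) : x * T.el i j k l * x⁻¹ =
    (x * T.a * x⁻¹) ^ i * ((x * T.b * x⁻¹) ^ j * ((x * T.c * x⁻¹) ^ k * (x * T.d * x⁻¹) ^ l)) := by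
  simp only [conj_zpow]
  simp only [el, mul_assoc, inv_mul_cancel_left]

theorem s_el (i j k l : ℤ) : T.s * T.el i j k l * T.s⁻¹ = T.el k i j l := by
  rw [conj_el, T.sa, T.sb, T.sc, T.sd, el_a, el_b, el_c, el_d]
  simp only [el_mul, add_zero, zero_add]

theorem p_el (i j k l : ℤ) : T.p * T.el i j k l * T.p⁻¹ = T.el (-i) (-j) k l := by
  rw [conj_el, T.pa, T.pb, T.pc, T.pd, inv_zpow', inv_zpow']; rfl

theorem q_el (i j k l : ℤ) : T.q * T.el i j k l * T.q⁻¹ = T.el (-i) j (-k) l := by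
  rw [conj_el, T.qa, T.qb, T.qc, T.qd, inv_zpow', inv_zpow']; rfl

theorem t_el (i j k l : ℤ) : T.t * T.el i j k l * T.t⁻¹ = T.el i j l k := by
  rw [conj_el, T.ta, T.tb, T.tc, T.td, el_a, el_b, el_c, el_d]
  simp only [el_mul, add_zero, zero_add]

/-- the subgroup `E` -/
def E : Subgroup G where
  carrier := {x | ∃ i j k l, x = T.el i j k l}
  one_mem' := ⟨0, 0, 0, 0, T.el_zero.symm⟩
  mul_mem' := by
    rintro _ _ ⟨i, j, k, l, rfl⟩ ⟨i', j', k', l', rfl⟩
    exact ⟨_, _, _, _, T.el_mul ..⟩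
  inv_mem' := by
    rintro _ ⟨i, j, k, l, rfl⟩
    exact ⟨_, _, _, _, T.el_inv ..⟩

theorem el_mem (i j k l : ℤ) : T.el i j k l ∈ T.E := ⟨i, j, k, l, rfl⟩

theorem a_mem : T.a ∈ T.E := by simpa only [← el_a, zpow_one] using T.el_mem 1 0 0 0
theorem b_mem : T.b ∈ T.E := by simpa only [← el_b, zpow_one] using T.el_mem 0 1 0 0
theorem c_mem : T.c ∈ T.E := by simpa only [← el_c, zpow_one] using T.el_mem 0 0 1 0
theorem d_mem : T.d ∈ T.E := by simpa only [← el_d, zpow_one] using T.el_mem 0 0 0 1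

theorem comm {x y : G} (hx : x ∈ T.E) (hy : y ∈ T.E) : x * y = y * x := by
  obtain ⟨i, j, k, l, rfl⟩ := hx
  obtain ⟨i', j', k', l', rfl⟩ := hy
  rw [el_mul, el_mul, add_comm i, add_comm j, add_comm k, add_comm l]

theorem cube {x : G} (hx : x ∈ T.E) : x ^ 3 = 1 := by
  obtain ⟨i, j, k, l, rfl⟩ := hx
  rw [pow_three, el_mul, el_mul, ← T.el_zero]
  exact T.el_congr (by omega) (by omega) (by omega) (by omega)

theorem elemAb : IsElementaryAbelian 3 T.E := elemAb_of (fun _ hx _ hy => T.comm hx hy) fun _ hx => T.cube hx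

theorem split {N : Subgroup G} (hp : ∀ u ∈ N, T.p * u * T.p⁻¹ ∈ N) (hq : ∀ u ∈ N, T.q * u * T.q⁻¹ ∈ N) {i j k l : ℤ}
    (h : T.el i j k l ∈ N) : T.a ^ i ∈ N ∧ T.b ^ j ∈ N ∧ T.c ^ k ∈ N ∧ T.d ^ l ∈ N := by
  have h1 := hp _ h
  have h2 := hq _ h
  rw [p_el] at h1
  rw [q_el] at h2
  have h3 := hq _ h1
  rw [q_el] at h3
  have e1 := mul_mem (mul_mem h (inv_mem h1)) (mul_mem (inv_mem h2) h3)
  have e2 := mul_mem (mul_mem h (inv_mem h1)) (mul_mem h2 (inv_mem h3))
  have e3 := mul_mem (mul_mem h h1) (mul_mem (inv_mem h2) (inv_mem h3))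
  have e4 := mul_mem (mul_mem h h1) (mul_mem h2 h3)
  simp only [el_inv, el_mul] at e1 e2 e3 e4
  rw [el_a, el_b, el_c, el_d]
  refine ⟨?_, ?_, ?_, ?_⟩
  · rwa [T.el_congr (i' := i) (j' := 0) (k' := 0) (l' := 0) (by omega) (by omega) (by omega) (by omega)] at e1
  · rwa [T.el_congr (i' := 0) (j' := j) (k' := 0) (l' := 0) (by omega) (by omega) (by omega) (by omega)] at e2
  · rwa [T.el_congr (i' := 0) (j' := 0) (k' := k) (l' := 0) (by omega) (by omega) (by omega) (by omega)] at e3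
  · rwa [T.el_congr (i' := 0) (j' := 0) (k' := 0) (l' := l) (by omega) (by omega) (by omega) (by omega)] at e4

/-- irreducibility -/
theorem irr {N : Subgroup G} (hp : ∀ u ∈ N, T.p * u * T.p⁻¹ ∈ N) (hq : ∀ u ∈ N, T.q * u * T.q⁻¹ ∈ N)
    (hs : ∀ u ∈ N, T.s * u * T.s⁻¹ ∈ N) (ht : ∀ u ∈ N, T.t * u * T.t⁻¹ ∈ N) {u : G} (hu : u ∈ N) (hE : u ∈ T.E)
    (h1 : u ≠ 1) : T.E ≤ N := by
  obtain ⟨i, j, k, l, rfl⟩ := hE
  obtain ⟨e1, e2, e3, e4⟩ := T.split hp hq hu
  have f1 : T.a ∈ N → T.b ∈ N := fun h => T.sa ▸ hs _ h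
  have f2 : T.b ∈ N → T.c ∈ N := fun h => T.sb ▸ hs _ h
  have f3 : T.c ∈ N → T.a ∈ N := fun h => T.sc ▸ hs _ h
  have f4 : T.c ∈ N → T.d ∈ N := fun h => T.tc ▸ ht _ h
  have f5 : T.d ∈ N → T.c ∈ N := fun h => T.td ▸ ht _ h
  have hc : T.c ∈ N := by
    by_contra hc
    apply h1
    have g1 : T.a ^ i = 1 := by_contra fun h => hc (f2 (f1 (mem_of_zpow T.a3 e1 h)))
    have g2 : T.b ^ j = 1 := by_contra fun h => hc (f2 (mem_of_zpow T.b3 e2 h))
    have g3 : T.c ^ k = 1 := by_contra fun h => hc (mem_of_zpow T.c3 e3 h)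
    have g4 : T.d ^ l = 1 := by_contra fun h => hc (f5 (mem_of_zpow T.d3 e4 h))
    rw [el, g1, g2, g3, g4, one_mul, one_mul, one_mul]
  rintro _ ⟨i, j, k, l, rfl⟩
  exact mul_mem (zpow_mem (f3 hc) _) (mul_mem (zpow_mem (f1 (f3 hc)) _) (mul_mem (zpow_mem hc _) (zpow_mem (f4 hc) _)))

variable {T} (ha : T.a ≠ 1)
include ha

theorem el_eq_one {i j k l : ℤ} (h : T.el i j k l = 1) : 3 ∣ i ∧ 3 ∣ j ∧ 3 ∣ k ∧ 3 ∣ l := by
  have hb : T.b ≠ 1 := fun e => ha (by simpa only [e, _root_.conj_eq_one_iff] using T.sa)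
  have hc : T.c ≠ 1 := fun e => hb (by simpa only [e, _root_.conj_eq_one_iff] using T.sb)
  have hd : T.d ≠ 1 := fun e => hc (by simpa only [e, _root_.conj_eq_one_iff] using T.tc)
  obtain ⟨e1, e2, e3, e4⟩ := T.split (N := ⊥) (fun u hu => by rw [mem_bot.1 hu]; simp only [_root_.mul_one, _root_.mul_inv_cancel, _root_.OneMemClass.one_mem])
    (fun u hu => by rw [mem_bot.1 hu]; simp only [_root_.mul_one, _root_.mul_inv_cancel, _root_.OneMemClass.one_mem]) (mem_bot.2 h)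
  exact ⟨dvd_of_zpow T.a3 ha e1, dvd_of_zpow T.b3 hb e2, dvd_of_zpow T.c3 hc e3, dvd_of_zpow T.d3 hd e4⟩

theorem el_inj {i j k l i' j' k' l' : ℤ} (h : T.el i j k l = T.el i' j' k' l') :
    3 ∣ i - i' ∧ 3 ∣ j - j' ∧ 3 ∣ k - k' ∧ 3 ∣ l - l' := by
  rw [← mul_inv_eq_one, el_inv, el_mul] at h
  exact el_eq_one ha h

theorem card_E : Nat.card T.E = 81 := by
  have h : Function.Bijective fun v : Fin 3 × Fin 3 × Fin 3 × Fin 3 =>
      (⟨T.el (v.1 : ℕ) (v.2.1 : ℕ) (v.2.2.1 : ℕ) (v.2.2.2 : ℕ), T.el_mem ..⟩ : T.E) := by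
    constructor
    · rintro ⟨i, j, k, l⟩ ⟨i', j', k', l'⟩ e
      obtain ⟨h1, h2, h3, h4⟩ := el_inj ha (congrArg Subtype.val e)
      dsimp only at h1 h2 h3 h4
      refine Prod.ext (Fin.ext ?_) (Prod.ext (Fin.ext ?_) (Prod.ext (Fin.ext ?_) (Fin.ext ?_))) <;> dsimp only <;> (clear * - h1 h2 h3 h4; omega)
    · rintro ⟨_, i, j, k, l, rfl⟩
      refine ⟨(⟨(i % 3).toNat, by omega⟩, ⟨(j % 3).toNat, by omega⟩, ⟨(k % 3).toNat, by omega⟩,
        ⟨(l % 3).toNat, by omega⟩), Subtype.ext (T.el_congr ?_ ?_ ?_ ?_)⟩ <;> dsimp only <;> (clear * -; omega)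
  rw [← Nat.card_eq_of_bijective _ h]
  simp

omit ha in
theorem norm_of [Finite G] {x : G} (h : ∀ i j k l, x * T.el i j k l * x⁻¹ ∈ T.E) : x ∈ normalizer (T.E : Set G) :=
  mem_normalizer_fintype (by
    rintro _ ⟨i, j, k, l, rfl⟩
    exact h i j k l)

omit ha in
theorem s_norm [Finite G] : T.s ∈ normalizer (T.E : Set G) := norm_of fun _ _ _ _ => by rw [s_el]; exact T.el_mem ..

theorem not_dvd_index [Finite G] (hG : ¬ 3 ^ 6 ∣ Nat.card G) :
    IsPGroup 3 ↥(T.E ⊔ zpowers T.s) ∧ ¬ 3 ∣ (T.E ⊔ zpowers T.s).index := by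
  have hP : IsPGroup 3 ↥(T.E ⊔ zpowers T.s) :=
    (elemAb_isPGroup T.elemAb).to_sup_of_normal_left' (elemAb_isPGroup (elemAb_zpowers T.s3)) (zpowers_le.2 s_norm)
  refine ⟨hP, fun h => hG ?_⟩
  obtain ⟨n, hn⟩ := hP.exists_card_eq
  have h1 : T.s ∉ T.E := fun e => by
    have h2 := T.s_el 1 0 0 0
    rw [T.comm e (T.el_mem ..), mul_inv_cancel_right] at h2
    have := (el_inj ha h2).1
    omega
  have h2 : T.E < T.E ⊔ zpowers T.s :=
    lt_of_le_of_ne le_sup_left fun e => h1 (e ▸ mem_sup_right (mem_zpowers _))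
  have h3 : Nat.card T.E < Nat.card ↥(T.E ⊔ zpowers T.s) :=
    lt_of_le_of_ne (card_le_of_le h2.le) fun e => h2.ne (eq_of_le_of_card_ge h2.le e.ge)
  rw [card_E ha, hn, show 81 = 3 ^ 4 from rfl, Nat.pow_lt_pow_iff_right (by norm_num)] at h3
  rw [← card_mul_index (T.E ⊔ zpowers T.s), hn, show 3 ^ 6 = 3 ^ 5 * 3 from rfl]
  exact mul_dvd_mul (pow_dvd_pow 3 h3) h

/-- every elementary abelian 3-subgroup is conjugate into `E` -/
theorem exists_conj [Finite G] (hG : ¬ 3 ^ 6 ∣ Nat.card G) {A : Subgroup G} (hA : IsElementaryAbelian 3 A) :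
    ∃ x, A.map (MulAut.conj x).toMonoidHom ≤ T.E := by
  obtain ⟨hP, hi⟩ := not_dvd_index ha hG
  obtain ⟨x, hx⟩ := XE.exists_conj_le hP hi (elemAb_isPGroup hA)
  suffices h : ∀ B : Subgroup G, IsElementaryAbelian 3 B → B ≤ T.E ⊔ zpowers T.s →
      ∃ y, B.map (MulAut.conj y).toMonoidHom ≤ T.E by
    obtain ⟨y, hy⟩ := h _ (elemAb_map hA _) hx
    refine ⟨y * x, ?_⟩
    rwa [map_map, show (MulAut.conj y).toMonoidHom.comp (MulAut.conj x).toMonoidHom =
      (MulAut.conj (y * x)).toMonoidHom by rw [map_mul]; rfl] at hy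
  intro B hB hle
  have dec : ∀ v ∈ B, v ∈ T.E ∨ (∃ e ∈ T.E, v = e * T.s) ∨ ∃ e ∈ T.E, v⁻¹ = e * T.s := fun v hv => by
    have h1 : v ∈ ((T.E ⊔ zpowers T.s : Subgroup G) : Set G) := hle hv
    rw [coe_mul_of_right_le_normalizer_left _ _ (zpowers_le.2 s_norm)] at h1
    obtain ⟨e, he, _, ⟨m, rfl⟩, rfl⟩ := h1
    dsimp only
    by_cases h2 : 3 ∣ m - 1
    · exact Or.inr (Or.inl ⟨e, he, by rw [zpow_congr T.s3 h2, zpow_one]⟩)
    · by_cases h3 : 3 ∣ m - 0
      · exact Or.inl (by rwa [zpow_congr T.s3 h3, zpow_zero, mul_one])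
      · refine Or.inr (Or.inr ⟨_, (mem_normalizer_iff.1 s_norm _).1 (inv_mem he), ?_⟩)
        rw [zpow_congr T.s3 (show 3 ∣ m - -1 by omega)]
        group
  by_cases h0 : B ≤ T.E
  · exact ⟨1, by rwa [map_one, show (1 : MulAut G).toMonoidHom = MonoidHom.id G from rfl, Subgroup.map_id]⟩
  obtain ⟨u, hu, e, he, rfl⟩ : ∃ u ∈ B, ∃ e ∈ T.E, u = e * T.s := by
    obtain ⟨u, hu, hu'⟩ := SetLike.not_le_iff_exists.1 h0
    rcases dec u hu with h | h | h
    · exact absurd h hu'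
    · exact ⟨u, hu, h⟩
    · exact ⟨_, inv_mem hu, h⟩
  obtain ⟨i, j, k, l, rfl⟩ := he
  have h3 : 3 ∣ i + j + k := by
    have h4 := hB.2 _ hu
    have h5 : (T.el i j k l * T.s) ^ 3 = T.el i j k l * (T.s * T.el i j k l * T.s⁻¹) *
        (T.s * (T.s * T.el i j k l * T.s⁻¹) * T.s⁻¹) * T.s ^ 3 := by
      simp only [pow_three, mul_assoc, inv_mul_cancel_left]
    rw [h5, T.s3, mul_one, s_el, s_el, el_mul, el_mul] at h4
    have := (el_eq_one ha h4).1
    omega
  refine ⟨T.g * T.el (-i) k 0 0, map_le_iff_le_comap.2 ?_⟩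
  set C := T.E.comap (MulAut.conj (T.g * T.el (-i) k 0 0)).toMonoidHom with hC
  have memC : ∀ v, v ∈ C ↔ T.g * (T.el (-i) k 0 0 * v * (T.el (-i) k 0 0)⁻¹) * T.g⁻¹ ∈ T.E := fun v => by
    rw [hC, mem_comap]
    show T.g * T.el (-i) k 0 0 * v * (T.g * T.el (-i) k 0 0)⁻¹ ∈ T.E ↔ _
    simp only [mul_inv_rev, mul_assoc]
  have hz : T.a * T.b * T.c ∈ C := by
    rw [memC, T.comm (T.el_mem ..) (mul_mem (mul_mem T.a_mem T.b_mem) T.c_mem), mul_inv_cancel_right, T.gz]
    exact mul_mem (mul_mem T.a_mem T.b_mem) T.c_mem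
  have hd : T.d ∈ C := by
    rw [memC, T.comm (T.el_mem ..) T.d_mem, mul_inv_cancel_right, T.gd]
    exact T.d_mem
  have hu' : T.el i j k l * T.s ∈ C := by
    have h4 : T.el (-i) k 0 0 * (T.el i j k l * T.s) * (T.el (-i) k 0 0)⁻¹ = T.d ^ l * T.s := by
      have h5 : T.el (-i) k 0 0 * (T.el i j k l * T.s) * (T.el (-i) k 0 0)⁻¹ =
          T.el (-i) k 0 0 * T.el i j k l * (T.s * (T.el (-i) k 0 0)⁻¹ * T.s⁻¹) * T.s := by
        simp only [mul_assoc, inv_mul_cancel, mul_one]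
      rw [h5, el_inv, s_el, el_mul, el_mul, el_d]
      congr 1
      exact T.el_congr (by omega) (by omega) (by omega) (by omega)
    have h5 : T.g * (T.d ^ l * T.s) * T.g⁻¹ = (T.g * T.d * T.g⁻¹) ^ l * (T.g * T.s * T.g⁻¹) := by
      simp only [conj_zpow]
      simp only [mul_assoc, inv_mul_cancel_left]
    rw [memC, h4, h5, T.gd, T.gs]
    exact mul_mem (zpow_mem T.d_mem _) (mul_mem T.a_mem (inv_mem T.b_mem))
  have fixC : ∀ w ∈ B, w ∈ T.E → w ∈ C := by
    rintro _ hw ⟨i', j', k', l', rfl⟩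
    have h4 := elemAb_comm hB hw hu
    rw [← mul_assoc, T.comm (T.el_mem ..) (T.el_mem i j k l), mul_assoc, mul_assoc, mul_left_cancel_iff] at h4
    have h5 := T.s_el i' j' k' l'
    rw [← h4, mul_inv_cancel_right] at h5
    obtain ⟨h6, h7, h8, -⟩ := el_inj ha h5
    have h9 : T.el i' j' k' l' = (T.a * T.b * T.c) ^ i' * T.d ^ l' := by
      rw [((show Commute T.a T.c from T.ac).mul_left (show Commute T.b T.c from T.bc)).mul_zpow,
        (show Commute T.a T.b from T.ab).mul_zpow, el_a, el_b, el_c, el_d, el_mul, el_mul, el_mul]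
      exact T.el_congr (by omega) (by (clear * - h7; omega)) (by (clear * - h7 h8; omega)) (by omega)
    rw [h9]
    exact mul_mem (zpow_mem hz _) (zpow_mem hd _)
  have one : ∀ v ∈ B, (∃ e ∈ T.E, v = e * T.s) → v ∈ C := by
    rintro _ hv ⟨e, he, rfl⟩
    have h4 := fixC _ (mul_mem hv (inv_mem hu)) (by
      rw [mul_inv_rev, mul_assoc, mul_inv_cancel_left]
      exact mul_mem he (inv_mem (T.el_mem ..)))
    simpa only [inv_mul_cancel_right] using mul_mem h4 hu'
  intro v hv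
  rcases dec v hv with h | h | h
  · exact fixC v hv h
  · exact one v hv h
  · exact inv_mem_iff.1 (one _ (inv_mem hv) h)

theorem card_le [Finite G] (hG : ¬ 3 ^ 6 ∣ Nat.card G) {A : Subgroup G} (hA : IsElementaryAbelian 3 A) :
    Nat.card A ≤ 81 := by
  obtain ⟨x, hx⟩ := exists_conj ha hG hA
  rw [← card_map_conj x, ← card_E ha]
  exact card_le_of_le hx

variable {k : Type*} [Field k] {V : Type*} [AddCommGroup V] [Module k V] [FiniteDimensional k V]

/-- **Chermak-Delgado inside `E`** -/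
theorem core [Finite G] (hG : ¬ 3 ^ 6 ∣ Nat.card G) (σ : Representation k G V) {A : Subgroup G}
    (hA : IsElementaryAbelian 3 A) (h1 : A ≠ ⊥) {n : ℕ} (h : 3 ^ cod σ A ≤ Nat.card A ^ n) : cod σ T.E ≤ 4 * n := by
  obtain ⟨x, hx⟩ := exists_conj ha hG hA
  obtain ⟨N, h2, h3, h4, h5, -⟩ := Gen.cd (ρ := σ) (q := 3) (by norm_num) n 1 hx
    (fun e => h1 ((map_eq_bot_iff_of_injective _ (MulAut.conj x).injective).1 e))
    (by rwa [one_mul, cod_conj, card_map_conj])
  have key : ∀ y, (∀ i j k l, y * T.el i j k l * y⁻¹ ∈ T.E) → ∀ u ∈ N, y * u * y⁻¹ ∈ N := fun y hy u hu =>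
    (mem_normalizer_iff.1 (h4 (norm_of hy)) u).1 hu
  obtain ⟨⟨u, hu⟩, hu1⟩ := (ne_bot_iff_exists_ne_one).1 h3
  have h6 : N = T.E := le_antisymm h2 (T.irr (key _ fun _ _ _ _ => by rw [p_el]; exact T.el_mem ..)
    (key _ fun _ _ _ _ => by rw [q_el]; exact T.el_mem ..) (key _ fun _ _ _ _ => by rw [s_el]; exact T.el_mem ..)
    (key _ fun _ _ _ _ => by rw [t_el]; exact T.el_mem ..) hu (h2 hu) fun e => hu1 (Subtype.ext e))
  rw [h6, card_E ha, one_mul, show 81 = 3 ^ 4 from rfl, ← pow_mul] at h5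
  exact (Nat.pow_le_pow_iff_right (by norm_num)).1 h5

end Str

end Cfsg.Agent.TwoF.XS.O8p
end

-- part: TwoF/XS/O8p/Comb
section
/-!
# TwoF / XS / O8p: characters of the even sign vectors (helper36)
-/

set_option autoImplicit false
set_option maxRecDepth 100000

namespace Cfsg.Agent.TwoF.XS.O8p

open Cfsg.Agent.OddHalf.D9.EEight Equiv

/-- the pairing of sign vectors -/
def chiF (s ε : Sg) : ℤˣ := ∏ i, if s i = -1 then ε i else 1

theorem chiF_mul (s ε η : Sg) : chiF s (ε * η) = chiF s ε * chiF s η := by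
  unfold chiF
  rw [← Finset.prod_mul_distrib]
  refine Finset.prod_congr rfl fun i _ => ?_
  split_ifs
  · rfl
  · exact (mul_one 1).symm

theorem chiF_pm (π : Perm (Fin 8)) (s ε : Sg) : chiF (pm π s) (pm π ε) = chiF s ε :=
  Equiv.prod_comp π fun i => if s i = -1 then ε i else 1

theorem chiF_neg (s : Sg) {ε : Sg} (h : ε ∈ Ev) : chiF (-s) ε = chiF s ε := by
  have h1 : chiF (-s) ε * chiF s ε = 1 := by
    unfold chiF
    rw [← Finset.prod_mul_distrib]
    refine Eq.trans (Finset.prod_congr rfl fun i _ => ?_) (mem_Ev.1 h)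
    rcases Int.units_eq_one_or (s i) with e | e <;> simp [e]
  rw [eq_inv_of_mul_eq_one_left h1, Int.units_inv_eq_self]

/-- the character of `Ev` given by a sign vector -/
def chi (s : Sg) : Ev →* ℤˣ where
  toFun ε := chiF s ε
  map_one' := by simp [chiF]
  map_mul' ε η := chiF_mul s ε η

/-- generators of `Ev` -/
def dl (i : Fin 8) : Sg := sg i * sg 7

theorem dl_mem : ∀ i, dl i ∈ Ev := by decide +kernel

/-- generators of `Ev` -/
def dE (i : Fin 8) : Ev := ⟨dl i, dl_mem i⟩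

theorem dl_seven : dl 7 = 1 := by decide +kernel

theorem eq_prod : ∀ ε : Sg, ε ∈ Ev → ε = ∏ i, if ε i = -1 then dl i else 1 := by decide +kernel

private noncomputable def _root_.Cfsg.Agent.LsF.f941114_3 : {f // @Cfsg.Agent.TwoF.XS.O8p.chiF = f} := ⟨_, by first | (delta Cfsg.Agent.TwoF.XS.O8p.chiF; rewrite [Cfsg.Agent.LsF.prodF_pat, Cfsg.Agent.LsF.instIDecEq_eq, Cfsg.Agent.LsF.ite_eq]; exact rfl) | exact rfl⟩
private noncomputable def _root_.Cfsg.Agent.LsF.f941114_1 : {f // @Cfsg.Agent.OddHalf.D9.EEight.sg = f} := ⟨_, by first | (delta Cfsg.Agent.OddHalf.D9.EEight.sg; rewrite [Cfsg.Agent.LsF.dFinEq_eq, Cfsg.Agent.LsF.ite_eq]; exact rfl) | exact rfl⟩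
private noncomputable def _root_.Cfsg.Agent.LsF.f941114_2 : {f // @Cfsg.Agent.TwoF.XS.O8p.dl = f} := ⟨_, by first | (delta Cfsg.Agent.TwoF.XS.O8p.dl; rewrite [Cfsg.Agent.LsF.f941114_1.2]; exact rfl) | exact rfl⟩
theorem chiF_dl : ∀ (s : Sg) (i : Fin 8), s 7 = 1 → chiF s (dl i) = s i := by (refine of_decide_eq_true ?_; (try (rewrite [Cfsg.Agent.LsF.piFintype_pat, Cfsg.Agent.LsF.f941114_3.2, Cfsg.Agent.LsF.f941114_2.2, Cfsg.Agent.LsF.dForall_eq, Cfsg.Agent.LsF.instIDecEq_eq, Cfsg.Agent.LsF.dForallFin_eq, Cfsg.Agent.LsF.dAllP_eq, Cfsg.Agent.LsF.decide_eq])); decide +kernel)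

private noncomputable def _root_.Cfsg.Agent.LsF.f941114_4 : {f // @Cfsg.Agent.OddHalf.D9.EEight.wt = f} := ⟨_, by first | (delta Cfsg.Agent.OddHalf.D9.EEight.wt; rewrite [Cfsg.Agent.LsF.finFintype_eq, Cfsg.Agent.LsF.fcard_eq, Cfsg.Agent.LsF.ffilter_eq, Cfsg.Agent.LsF.instIDecEq_eq]; exact rfl) | exact rfl⟩
theorem wt_neg : ∀ s : Sg, wt (-s) + wt s = 8 := by (refine of_decide_eq_true ?_; (try (rewrite [Cfsg.Agent.LsF.pneg_pat, Cfsg.Agent.LsF.piFintype_pat, Cfsg.Agent.LsF.f941114_4.2, Cfsg.Agent.LsF.nadd_pat, Cfsg.Agent.LsF.dForall_eq, Cfsg.Agent.LsF.instDecEq_eq, Cfsg.Agent.LsF.decide_eq])); decide +kernel)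

/-- `(0 2 1)` -/
def c1 : Perm (Fin 8) := swap 1 2 * swap 0 1

/-- `(0 2 1)(3 5 4)` -/
def c2 : Perm (Fin 8) := c1 * (swap 4 5 * swap 3 4)

/-- the weights that are moved by `c2` -/
def Tm (w : ℕ) : Finset Sg :=
  Finset.univ.filter fun s => s 7 = 1 ∧ (wt s = w ∨ wt s + w = 8) ∧ ∃ i, chiF s (pm c2 (dl i) * (dl i)⁻¹) ≠ 1

private noncomputable def _root_.Cfsg.Agent.LsF.f941114_5 : {f // @Cfsg.Agent.TwoF.XS.O8p.c1 = f} := ⟨_, by first | (delta Cfsg.Agent.TwoF.XS.O8p.c1; rewrite [Cfsg.Agent.LsF.dFinEq_eq]; exact rfl) | exact rfl⟩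
private noncomputable def _root_.Cfsg.Agent.LsF.f941114_6 : {f // @Cfsg.Agent.TwoF.XS.O8p.c2 = f} := ⟨_, by first | (delta Cfsg.Agent.TwoF.XS.O8p.c2; rewrite [Cfsg.Agent.LsF.f941114_5.2, Cfsg.Agent.LsF.dFinEq_eq]; exact rfl) | exact rfl⟩
private noncomputable def _root_.Cfsg.Agent.LsF.f941114_7 : {f // @Cfsg.Agent.TwoF.XS.O8p.Tm = f} := ⟨_, by first | (delta Cfsg.Agent.TwoF.XS.O8p.Tm; rewrite [Cfsg.Agent.LsF.piFintype_pat, Cfsg.Agent.LsF.f941114_4.2, Cfsg.Agent.LsF.f941114_3.2, Cfsg.Agent.LsF.f941114_6.2, Cfsg.Agent.LsF.f941114_2.2, Cfsg.Agent.LsF.nadd_pat, Cfsg.Agent.LsF.ffilter_eq, Cfsg.Agent.LsF.instDecEq_eq, Cfsg.Agent.LsF.instIDecEq_eq, Cfsg.Agent.LsF.dAnd_eq, Cfsg.Agent.LsF.dOr_eq, Cfsg.Agent.LsF.dNot_eq, Cfsg.Agent.LsF.dExistsFin_eq]; exact rfl) | exact rfl⟩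
theorem card_Tm_two : (Tm 2).card = 27 := by (refine of_decide_eq_true ?_; (try (rewrite [Cfsg.Agent.LsF.f941114_7.2, Cfsg.Agent.LsF.fcard_eq, Cfsg.Agent.LsF.instDecEq_eq, Cfsg.Agent.LsF.decide_eq])); decide +kernel)

theorem card_Tm_four : (Tm 4).card = 33 := by (refine of_decide_eq_true ?_; (try (rewrite [Cfsg.Agent.LsF.f941114_7.2, Cfsg.Agent.LsF.fcard_eq, Cfsg.Agent.LsF.instDecEq_eq, Cfsg.Agent.LsF.decide_eq])); decide +kernel)

/-- an orbit of weights -/
def Tw (w : ℕ) : Finset Sg := Finset.univ.filter fun s => s 7 = 1 ∧ (wt s = w ∨ wt s + w = 8)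

private noncomputable def _root_.Cfsg.Agent.LsF.f941114_8 : {f // @Cfsg.Agent.TwoF.XS.O8p.Tw = f} := ⟨_, by first | (delta Cfsg.Agent.TwoF.XS.O8p.Tw; rewrite [Cfsg.Agent.LsF.piFintype_pat, Cfsg.Agent.LsF.f941114_4.2, Cfsg.Agent.LsF.nadd_pat, Cfsg.Agent.LsF.ffilter_eq, Cfsg.Agent.LsF.instDecEq_eq, Cfsg.Agent.LsF.instIDecEq_eq, Cfsg.Agent.LsF.dAnd_eq, Cfsg.Agent.LsF.dOr_eq]; exact rfl) | exact rfl⟩
theorem card_Tw_one : (Tw 1).card = 8 := by (refine of_decide_eq_true ?_; (try (rewrite [Cfsg.Agent.LsF.f941114_8.2, Cfsg.Agent.LsF.fcard_eq, Cfsg.Agent.LsF.instDecEq_eq, Cfsg.Agent.LsF.decide_eq])); decide +kernel)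

theorem card_Tw_three : (Tw 3).card = 56 := by decide +kernel

theorem wt_even : ∀ s : Sg, s 7 = 1 → chiF s (-1) = 1 → s = 1 ∨ (wt s = 2 ∨ wt s + 2 = 8) ∨ wt s = 4 := by
  (refine of_decide_eq_true ?_; (try (rewrite [Cfsg.Agent.LsF.pneg_pat, Cfsg.Agent.LsF.piFintype_pat, Cfsg.Agent.LsF.dPiF_pat, Cfsg.Agent.LsF.f941114_3.2, Cfsg.Agent.LsF.f941114_4.2, Cfsg.Agent.LsF.nadd_pat, Cfsg.Agent.LsF.dForall_eq, Cfsg.Agent.LsF.instDecEq_eq, Cfsg.Agent.LsF.instIDecEq_eq, Cfsg.Agent.LsF.dOr_eq, Cfsg.Agent.LsF.dAllP_eq, Cfsg.Agent.LsF.decide_eq])); decide +kernel)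

theorem wt_odd : ∀ s : Sg, chiF s (-1) ≠ 1 → (∃ i, s = sg i ∨ s = -sg i) ∨ (wt s = 3 ∨ wt s + 3 = 8) := by
  (refine of_decide_eq_true ?_; (try (rewrite [Cfsg.Agent.LsF.pneg_pat, Cfsg.Agent.LsF.piFintype_pat, Cfsg.Agent.LsF.dPiF_pat, Cfsg.Agent.LsF.f941114_3.2, Cfsg.Agent.LsF.f941114_1.2, Cfsg.Agent.LsF.f941114_4.2, Cfsg.Agent.LsF.nadd_pat, Cfsg.Agent.LsF.dForall_eq, Cfsg.Agent.LsF.instDecEq_eq, Cfsg.Agent.LsF.instIDecEq_eq, Cfsg.Agent.LsF.dOr_eq, Cfsg.Agent.LsF.dNot_eq, Cfsg.Agent.LsF.dExistsFin_eq, Cfsg.Agent.LsF.dAllP_eq, Cfsg.Agent.LsF.decide_eq])); decide +kernel)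

theorem odd_of_wt : ∀ s : Sg, (wt s = 1 ∨ wt s + 1 = 8) ∨ (wt s = 3 ∨ wt s + 3 = 8) → chiF s (-1) ≠ 1 := by
  (refine of_decide_eq_true ?_; (try (rewrite [Cfsg.Agent.LsF.pneg_pat, Cfsg.Agent.LsF.piFintype_pat, Cfsg.Agent.LsF.f941114_4.2, Cfsg.Agent.LsF.f941114_3.2, Cfsg.Agent.LsF.nadd_pat, Cfsg.Agent.LsF.dForall_eq, Cfsg.Agent.LsF.instDecEq_eq, Cfsg.Agent.LsF.instIDecEq_eq, Cfsg.Agent.LsF.dOr_eq, Cfsg.Agent.LsF.dNot_eq, Cfsg.Agent.LsF.dAllP_eq, Cfsg.Agent.LsF.decide_eq])); decide +kernel)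

theorem wt_sg : ∀ i, wt (sg i) = 1 := by decide +kernel

theorem pm_c1_sg : pm c1 (sg 0) = sg 1 ∧ pm c1 (sg 1) = sg 2 ∧ pm c1 (sg 2) = sg 0 ∧
    ∀ i : Fin 8, i = 0 ∨ i = 1 ∨ i = 2 ∨ pm c1 (sg i) = sg i := by decide +kernel

end Cfsg.Agent.TwoF.XS.O8p
end

-- part: TwoF/XS/O8p/Frame
section
/-!
# TwoF / XS / O8p: the weights of the frame group `2⁷ : A₈` (helper36)
-/

set_option autoImplicit false

namespace Cfsg.Agent.TwoF.XS.O8p

open Module Gen Subgroup Equiv
open Cfsg.Agent.OddHalf.D9.EEight (Sg Ev pm pmE sg m1 exists_even_perm)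

theorem hom_ext {M : Type*} [CommMonoid M] {φ ψ : Ev →* M} (h : ∀ i, φ (dE i) = ψ (dE i)) : φ = ψ := by
  ext ε
  have h1 : ε = ∏ i, if (ε : Sg) i = -1 then dE i else 1 := Subtype.ext (by
    rw [← Ev.subtype_apply (∏ i, _), map_prod]
    refine (eq_prod ε ε.2).trans (Finset.prod_congr rfl fun i _ => ?_)
    split_ifs <;> rfl)
  rw [h1, map_prod, map_prod]
  refine Finset.prod_congr rfl fun i _ => ?_
  split_ifs
  · exact h i
  · rw [map_one, map_one]

theorem Ev_sq (ε : Ev) : ε ^ 2 = 1 := Subtype.ext (funext fun i => Int.units_sq ((ε : Sg) i))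

variable {k : Type*} [Field k] {G : Type*} [Group G] {V : Type*} [AddCommGroup V] [Module k V]

/-- signs in `k` -/
def sk (k : Type*) [Field k] : ℤˣ →* kˣ := Units.map (Int.castRingHom k : ℤ →* k)

theorem sk_neg : sk k (-1) = -1 := Units.ext (by simp only [sk, _root_.Units.map_neg, _root_.map_one, _root_.Units.val_neg, _root_.Units.val_one])

theorem sk_inj (h2 : (2 : k) ≠ 0) : Function.Injective (sk k) := (injective_iff_map_eq_one _).2 fun u hu => by
  rcases Int.units_eq_one_or u with rfl | rfl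
  · rfl
  · rw [sk_neg] at hu
    have h3 : (-1 : k) = 1 := by simpa using congrArg Units.val hu
    exact absurd (by linear_combination -h3) h2

/-- the characters with values in `k` -/
def ch (k : Type*) [Field k] (s : Sg) : (⊤ : Subgroup Ev) →* kˣ :=
  (sk k).comp ((chi s).comp (⊤ : Subgroup Ev).subtype)

theorem exists_ch (χ : (⊤ : Subgroup Ev) →* kˣ) : ∃ s : Sg, s 7 = 1 ∧ χ = ch k s := by
  classical
  let s : Sg := fun i => if χ ⟨dE i, trivial⟩ = 1 then 1 else -1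
  have h7 : s 7 = 1 := if_pos (by rw [← map_one χ]; congr 1; exact Subtype.ext (Subtype.ext dl_seven))
  have h1 : χ.comp topEquiv.symm.toMonoidHom = (sk k).comp (chi s) := hom_ext fun i => by
    show χ ⟨dE i, trivial⟩ = sk k (chiF s (dl i))
    rw [chiF_dl s i h7]
    by_cases h : χ ⟨dE i, trivial⟩ = 1
    · rw [show s i = 1 from if_pos h, map_one, h]
    · rw [show s i = -1 from if_neg h, sk_neg]
      have h2 : χ ⟨dE i, trivial⟩ ^ 2 = 1 := by
        rw [← map_pow, ← map_one χ]; congr 1; exact Subtype.ext (Ev_sq _)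
      have h3 : (χ ⟨dE i, trivial⟩ : k) ^ 2 = 1 := by simpa only [_root_.sq_eq_one_iff, _root_.Units.val_eq_one, _root_.Units.val_eq_neg_one, _root_.Units.val_pow_eq_pow_val, _root_.Units.val_one] using congrArg Units.val h2
      exact Units.ext ((sq_eq_one_iff.1 h3).resolve_left fun e => h (Units.ext e))
  exact ⟨s, h7, MonoidHom.ext fun ε => DFunLike.congr_fun h1 ε.1⟩

theorem ch_inj (h2 : (2 : k) ≠ 0) {s s' : Sg} (hs : s 7 = 1) (hs' : s' 7 = 1) (h : ch k s = ch k s') : s = s' :=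
  funext fun i => by
    rw [← chiF_dl s i hs, ← chiF_dl s' i hs']
    exact (sk_inj h2 ((DFunLike.congr_fun h ⟨dE i, trivial⟩ :)) :)

theorem ch_neg (s : Sg) : ch k (-s) = ch k s := MonoidHom.ext fun ε => congrArg (sk k) (chiF_neg s ε.1.2)

/-- the weight spaces -/
def Wt (τ : Representation k Ev V) (s : Sg) : Submodule k V := Gen.wt τ ⊤ (ch k s)

theorem mem_Wt {τ : Representation k Ev V} {s : Sg} {v : V} :
    v ∈ Wt τ s ↔ ∀ ε : Ev, τ ε v = (sk k (chiF s ε) : k) • v :=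
  ⟨fun h ε => h ⟨ε, trivial⟩, fun h ε => h ε.1⟩

theorem Wt_neg (τ : Representation k Ev V) (s : Sg) : Wt τ (-s) = Wt τ s := by rw [Wt, ch_neg, Wt]

theorem chi_m1 {τ : Representation k Ev V} {s : Sg} (h : Wt τ s ≠ ⊥) {c : k} (hc : ∀ v, τ m1 v = c • v) :
    (sk k (chiF s (-1)) : k) = c := by
  obtain ⟨v, hv, h0⟩ := Submodule.exists_mem_ne_zero_of_ne_bot h
  exact smul_left_injective k h0 ((mem_Wt.1 hv m1).symm.trans (hc v))

variable {σ : Representation k G V} {f : Ev →* G}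

theorem map_Wt {g : G} {π : Perm (Fin 8)} (h : ∀ ε, g * f ε * g⁻¹ = f (pmE π ε)) {s : Sg} {v : V}
    (hv : v ∈ Wt (σ.comp f) s) : σ g v ∈ Wt (σ.comp f) (pm π s) := mem_Wt.2 fun η => by
  obtain ⟨ε, rfl⟩ := (pmE π).surjective η
  have h1 : σ (f ε) v = _ := mem_Wt.1 hv ε
  show σ (f (pmE π ε)) (σ g v) = (sk k (chiF (pm π s) (pm π ε)) : k) • σ g v
  rw [← h, rho_mul, rho_mul, rho_inv_apply, h1, map_smul, chiF_pm]

variable [FiniteDimensional k V]

/-- the symmetry of the frame -/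
def Sym (f : Ev →* G) : Prop := ∀ π : Perm (Fin 8), Perm.sign π = 1 → ∃ g : G, ∀ ε, g * f ε * g⁻¹ = f (pmE π ε)

theorem Sym.le (H : Sym f) {s s' : Sg} {w : ℕ}
    (h : OddHalf.D9.EEight.wt s = w ∨ OddHalf.D9.EEight.wt s + w = 8)
    (h' : OddHalf.D9.EEight.wt s' = w ∨ OddHalf.D9.EEight.wt s' + w = 8) :
    finrank k (Wt (σ.comp f) s) ≤ finrank k (Wt (σ.comp f) s') := by
  have key : ∀ s s' : Sg, OddHalf.D9.EEight.wt s = OddHalf.D9.EEight.wt s' →
      finrank k (Wt (σ.comp f) s) ≤ finrank k (Wt (σ.comp f) s') := fun s s' e => by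
    obtain ⟨π, hπ, rfl⟩ := exists_even_perm e
    obtain ⟨g, hg⟩ := H π hπ
    rw [← finrank_map_rho (ρ := σ) g]
    exact Submodule.finrank_mono (by
      rintro _ ⟨v, hv, rfl⟩
      exact map_Wt hg hv)
  have h1 := wt_neg s
  by_cases e : OddHalf.D9.EEight.wt s = OddHalf.D9.EEight.wt s'
  · exact key s s' e
  · rw [← Wt_neg]
    exact key _ _ (by omega)

theorem card_mul_le (h2 : (2 : k) ≠ 0) (τ : Representation k Ev V) (T : Finset Sg) (hT : ∀ s ∈ T, s 7 = 1)
    {B : Subgroup Ev} (hB : ∀ s ∈ T, ∃ ε ∈ B, chiF s ε ≠ 1) {m : ℕ} (hm : ∀ s ∈ T, m ≤ finrank k (Wt τ s)) :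
    T.card * m ≤ cod τ B := by
  classical
  have h1 := sum_mlt_le_cod_of_le (ρ := τ) (R := ⊤) (B := B) le_top (T.image (ch k)) (fun χ hχ e => by
    obtain ⟨s, hs, rfl⟩ := Finset.mem_image.1 hχ
    obtain ⟨ε, hε, h3⟩ := hB s hs
    exact h3 (sk_inj h2 ((e ⟨ε, trivial⟩ hε).trans (map_one _).symm)))
  rw [Finset.sum_image fun s hs s' hs' e => ch_inj h2 (hT s hs) (hT s' hs') e] at h1
  exact (Finset.card_nsmul_le_sum T _ m hm).trans h1

theorem card_top_ne (h2 : (2 : k) ≠ 0) : (Nat.card (⊤ : Subgroup Ev) : k) ≠ 0 :=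
  card_ne_zero_of_exp Nat.prime_two (by exact_mod_cast h2) fun a _ => Ev_sq a

theorem iSup_Wt [IsAlgClosed k] (h2 : (2 : k) ≠ 0) (τ : Representation k Ev V) {U : Submodule k V}
    (h : ∀ s : Sg, s 7 = 1 → Wt τ s ≠ ⊥ → Wt τ s ≤ U) : U = ⊤ := by
  rw [eq_top_iff, ← iSup_wt (ρ := τ) (R := ⊤) (fun a _ b _ => mul_comm a b) (card_top_ne h2)]
  refine iSup_le fun χ => ?_
  obtain ⟨s, hs, rfl⟩ := exists_ch χ
  by_cases e : Wt τ s = ⊥
  · exact e.le.trans bot_le
  · exact h s hs e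

/-- the commutators with `c2` -/
def B2 : Subgroup Ev := ((pmE c2).toMonoidHom / MonoidHom.id Ev).range

/-- **`-1 ↦ 1`** -/
theorem plus_closed [IsAlgClosed k] (h2 : (2 : k) ≠ 0) (H : Sym f) (h1 : σ (f m1) = 1) {ε : Ev} (hε : σ (f ε) ≠ 1) :
    27 ≤ cod (σ.comp f : Representation k Ev V) B2 := by
  obtain ⟨χ, h3, h4⟩ := exists_wt (ρ := (σ.comp f : Representation k Ev V)) (R := ⊤) (fun a _ b _ => mul_comm a b)
    (card_top_ne h2) (r := ⟨ε, trivial⟩) hε
  obtain ⟨s, hs, rfl⟩ := exists_ch χ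
  have h5 : chiF s (-1) = 1 := sk_inj h2 (Units.ext ((chi_m1 (mlt_pos_iff.1 h4) (c := 1) fun v => by
    rw [one_smul]; exact LinearMap.congr_fun h1 v).trans (by simp)))
  have key : ∀ w, (OddHalf.D9.EEight.wt s = w ∨ OddHalf.D9.EEight.wt s + w = 8) →
      (Tm w).card * 1 ≤ cod (σ.comp f : Representation k Ev V) B2 := fun w hw =>
    card_mul_le h2 _ _ (fun s' hs' => (Finset.mem_filter.1 hs').2.1)
      (fun s' hs' => by
        obtain ⟨i, hi⟩ := (Finset.mem_filter.1 hs').2.2.2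
        exact ⟨_, ⟨dE i, rfl⟩, by rwa [← div_eq_mul_inv] at hi⟩)
      fun s' hs' => le_trans h4 (H.le hw (Finset.mem_filter.1 hs').2.2.1)
  rcases wt_even s hs h5 with h6 | h6 | h6
  · refine absurd ?_ h3
    show sk k (chiF s ε) = 1
    simp [h6, chiF]
  · simpa only [card_Tm_two] using key 2 h6
  · have := key 4 (Or.inl h6)
    rw [card_Tm_four] at this
    omega

theorem orbit_le (h2 : (2 : k) ≠ 0) (H : Sym f) {s : Sg} {w : ℕ} (hw : w = 1 ∨ w = 3)
    (h : OddHalf.D9.EEight.wt s = w ∨ OddHalf.D9.EEight.wt s + w = 8) :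
    (Tw w).card * finrank k (Wt (σ.comp f) s) ≤ finrank k V :=
  (card_mul_le h2 _ _ (B := ⊤) (fun s' hs' => (Finset.mem_filter.1 hs').2.1)
    (fun s' hs' => ⟨m1, trivial, odd_of_wt s' (by
      have := (Finset.mem_filter.1 hs').2.2
      (clear * - hw this; omega))⟩)
    fun s' hs' => H.le h (Finset.mem_filter.1 hs').2.2).trans (cod_le_finrank _)

omit [FiniteDimensional k V] in
theorem odd_wt (h2 : (2 : k) ≠ 0) (h1 : ∀ v, σ (f m1) v = -v) {s : Sg} (h : Wt (σ.comp f) s ≠ ⊥) :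
    chiF s (-1) ≠ 1 := fun e => by
  have h3 := chi_m1 h (c := -1) fun v => by rw [neg_one_smul]; exact h1 v
  rw [e, map_one, Units.val_one] at h3
  exact h2 (by linear_combination h3)

/-- **`-1 ↦ -1`**: the dimension -/
theorem minus_closed [IsAlgClosed k] (h2 : (2 : k) ≠ 0) (H : Sym f) (h1 : ∀ v, σ (f m1) v = -v)
    (h0 : 0 < finrank k V) : 8 ≤ finrank k V := by
  by_contra h3
  have h4 := iSup_Wt h2 (σ.comp f) (U := ⊥) fun s _ hs => by
    have h5 : 0 < finrank k (Wt (σ.comp f) s) := Submodule.one_le_finrank_iff.2 hs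
    rcases wt_odd s (odd_wt h2 h1 hs) with ⟨i, h6⟩ | h6
    · have h7 := orbit_le (σ := σ) h2 H (s := s) (Or.inl rfl) (by
        have := wt_neg (sg i)
        have := wt_sg i
        rcases h6 with rfl | rfl <;> omega)
      rw [card_Tw_one] at h7
      omega
    · have h7 := orbit_le (σ := σ) h2 H (Or.inr rfl) h6
      rw [card_Tw_three] at h7
      omega
  rw [← finrank_top, ← h4, finrank_bot] at h0
  exact lt_irrefl _ h0

omit [FiniteDimensional k V] in
theorem inv_zpowers [Finite G] {y : G} {U : Submodule k V} (h : ∀ v ∈ U, σ y v ∈ U) : Inv σ (zpowers y) U := by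
  intro g hg
  obtain ⟨n, rfl⟩ := mem_powers_iff_mem_zpowers.2 hg
  intro v hv
  induction n with
  | zero => simpa only [_root_.pow_zero, _root_.map_one, _root_.Module.End.one_apply] using hv
  | succ n ih =>
    change σ (y ^ (n + 1)) v ∈ U
    rw [pow_succ', rho_mul]
    exact h _ (ih (npow_mem_zpowers y n))

/-- **`-1 ↦ -1`**, small dimension: the 3-cycle -/
theorem small_closed [IsAlgClosed k] [CharP k 3] [Finite G] (h2 : (2 : k) ≠ 0) (H : Sym f) (h1 : ∀ v, σ (f m1) v = -v)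
    (h0 : finrank k V < 16) {x : G} (hx : x ^ 3 = 1) (h : ∀ ε, x * f ε * x⁻¹ = f (pmE c1 ε)) :
    cod σ (zpowers x) ≤ 2 := by
  have hP : IsPGroup 3 (zpowers x) := elemAb_isPGroup (elemAb_zpowers hx)
  have h3 : ∀ i, finrank k (Wt (σ.comp f) (sg i)) ≤ 1 := fun i => by
    have h7 := orbit_le (σ := σ) h2 H (Or.inl rfl) (Or.inl (wt_sg i))
    rw [card_Tw_one] at h7
    omega
  obtain ⟨p0, p1, p2, p3⟩ := pm_c1_sg
  set U := Wt (σ.comp f) (sg 0) ⊔ Wt (σ.comp f) (sg 1) ⊔ Wt (σ.comp f) (sg 2) with hU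
  have h4 : finrank k U ≤ 3 := by
    have e1 := Submodule.finrank_add_le_finrank_add_finrank (Wt (σ.comp f) (sg 0) ⊔ Wt (σ.comp f) (sg 1))
      (Wt (σ.comp f) (sg 2))
    have e2 := Submodule.finrank_add_le_finrank_add_finrank (Wt (σ.comp f) (sg 0)) (Wt (σ.comp f) (sg 1))
    have e3 := h3 0
    have e4 := h3 1
    have e5 := h3 2
    rw [← hU] at e1
    omega
  have h5 : Inv σ (zpowers x) U := inv_zpowers fun v hv => by
    have e : U ≤ U.comap (σ x) :=
      sup_le (sup_le (fun v hv => Submodule.mem_sup_left (Submodule.mem_sup_right (p0 ▸ map_Wt h hv)))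
        fun v hv => Submodule.mem_sup_right (p1 ▸ map_Wt h hv))
        fun v hv => Submodule.mem_sup_left (Submodule.mem_sup_left (p2 ▸ map_Wt h hv))
    exact e hv
  have h6 : U ⊔ fx σ (zpowers x) = ⊤ := iSup_Wt h2 (σ.comp f) fun s _ hs => by
    rcases wt_odd s (odd_wt h2 h1 hs) with ⟨i, h6⟩ | h6
    · have e : Wt (σ.comp f) s = Wt (σ.comp f) (sg i) := by
        rcases h6 with rfl | rfl
        · rfl
        · exact Wt_neg _ _
      rw [e] at hs ⊢
      rcases p3 i with rfl | rfl | rfl | h7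
      · exact le_sup_of_le_left (le_sup_of_le_left le_sup_left)
      · exact le_sup_of_le_left (le_sup_of_le_left le_sup_right)
      · exact le_sup_of_le_left le_sup_right
      · have h8 := inf_fx_ne_bot (ρ := σ) hP (inv_zpowers fun v hv => h7 ▸ map_Wt h hv) hs
        refine le_sup_of_le_right (inf_eq_left.1 (Submodule.eq_of_le_of_finrank_le inf_le_left ?_))
        exact (h3 i).trans (Submodule.one_le_finrank_iff.2 h8)
    · have h7 := orbit_le (σ := σ) h2 H (Or.inr rfl) h6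
      have h5 : 0 < finrank k (Wt (σ.comp f) s) := Submodule.one_le_finrank_iff.2 hs
      rw [card_Tw_three] at h7
      omega
  have h7 := Submodule.finrank_sup_add_finrank_inf_eq U (fx σ (zpowers x))
  have h8 := cod_add (ρ := σ) (zpowers x)
  rw [h6, finrank_top] at h7
  by_cases h9 : U = ⊥
  · rw [h9, finrank_bot] at h7
    omega
  · have := Submodule.one_le_finrank_iff.2 (inf_fx_ne_bot hP h5 h9)
    omega

/-! ### over the field with three elements -/

section Three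

variable {V : Type*} [AddCommGroup V] [Module (ZMod 3) V] [FiniteDimensional (ZMod 3) V] [Finite G]
  {σ : Representation (ZMod 3) G V}

theorem two_ne : (2 : AlgebraicClosure (ZMod 3)) ≠ 0 := by
  exact_mod_cast card_ne_zero_closure (k := ZMod 3) (n := 2) (by decide)

theorem plus (H : Sym f) (h1 : σ (f m1) = 1) {ε : Ev} (hε : σ (f ε) ≠ 1) {e : G} (he : e ^ 3 = 1)
    (h : ∀ ε, e * f ε * e⁻¹ = f (pmE c2 ε)) : 27 ≤ finrank (ZMod 3) V ∧ 18 ≤ cod σ (zpowers e) := by
  have h2 := plus_closed (σ := bc (AlgebraicClosure (ZMod 3)) σ) two_ne H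
    (by rw [bc_apply, h1, LinearMap.baseChange_one]) (XL.bc_ne_one _ hε)
  rw [cod_comp, cod_bc] at h2
  refine ⟨h2.trans (cod_le_finrank _), ?_⟩
  have h3 := XL.cod_comm_le (ρ := σ) (R := f.range) (B := B2.map f) (a := e) (s := 3) (n := 1)
    (by
      rintro _ ⟨a, rfl⟩ _ ⟨b, rfl⟩
      rw [← map_mul, mul_comm, map_mul])
    (card_ne_zero_of_exp Nat.prime_two (by decide) (by
      rintro _ ⟨a, rfl⟩
      rw [← map_pow, Ev_sq, map_one]))
    he (by
      rintro _ ⟨a, rfl⟩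
      exact ⟨_, (h a).symm⟩)
    (by
      rintro L hL _ ⟨_, ⟨a, rfl⟩, rfl⟩
      have := hL _ ⟨a, rfl⟩
      rwa [h, ← map_inv, ← map_mul, ← div_eq_mul_inv] at this)
  omega

omit [FiniteDimensional (ZMod 3) V] [Finite G] in
theorem bc_neg {z : G} (h1 : ∀ v, σ z v = -v) (v) : bc (AlgebraicClosure (ZMod 3)) σ z v = -v := by
  rw [bc_apply, show σ z = -1 from LinearMap.ext h1, LinearMap.baseChange_neg, LinearMap.baseChange_one]
  rfl

omit [Finite G] in
theorem minus (H : Sym f) (h1 : ∀ v, σ (f m1) v = -v) (h0 : 0 < finrank (ZMod 3) V) : 8 ≤ finrank (ZMod 3) V := by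
  have h2 := minus_closed (σ := bc (AlgebraicClosure (ZMod 3)) σ) two_ne H (bc_neg h1)
  rw [finrank_baseChange] at h2
  exact h2 h0

theorem small (H : Sym f) (h1 : ∀ v, σ (f m1) v = -v) (h0 : finrank (ZMod 3) V < 16) {x : G} (hx : x ^ 3 = 1)
    (h : ∀ ε, x * f ε * x⁻¹ = f (pmE c1 ε)) : cod σ (zpowers x) ≤ 2 := by
  have h2 := small_closed (σ := bc (AlgebraicClosure (ZMod 3)) σ) two_ne H (bc_neg h1)
    (by rwa [finrank_baseChange]) hx h
  rwa [cod_bc] at h2

end Three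

end Cfsg.Agent.TwoF.XS.O8p
end

-- part: TwoF/XS/O8p/KZero
section
/-!
# TwoF / XS / O8p: the modules of `K₀ = W(E₈)'` over the field with three elements (helper36)
-/

set_option autoImplicit false
set_option maxRecDepth 100000

namespace Cfsg.Agent.TwoF.XS.O8p

open Module Gen Subgroup Matrix
open Cfsg.Agent.OddHalf.D9.EEight Cfsg.Agent.OddHalf.D9.EEight.FtHom Cfsg.Agent.OddHalf.D9.EEight.Id
open Cfsg.Agent.OddHalf.D9.EEight.Id.Gen Cfsg.Agent.OddHalf.D9.EEight.Id.Onto Cfsg.Agent.OddHalf.D9.EEight.Id.Homs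
open Cfsg.Agent.OddHalf.D9.EEight.Id.Main Cfsg.Agent.OddHalf.D9.EEight.Id.HomData
open Cfsg.Agent.OddHalf.D9.EEight.Id.ModTwo (Q)
open Cfsg.Agent.SporadicRecognition.CosetCert Cfsg.Agent.SporadicRecognition.CosetCertHyp
open Cfsg.Agent.KFacts.OddLift.Basic

/-- the simple group -/
abbrev S8 : Type := ClassicalGeometry.OrthAut1.P Q

/-- words -/
noncomputable def kw (w : List ℕ) : K₀ := ev (lt (toK b1 rel1) 7) w

theorem kw_append (u v : List ℕ) : kw (u ++ v) = kw u * kw v := ev_append _ u v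

theorem kw_inv (u : List ℕ) : kw (invw iv u) = (kw u)⁻¹ := ev_invw_iv _ _ u

theorem kw_eq {u v : List ℕ} (h : isOne T1 (u ++ invw iv v) = true) : kw u = kw v := by
  rw [← mul_inv_eq_one, ← kw_inv, ← kw_append]
  exact val_toK rel1 (ev_of_isOne tab1 h)

theorem kw_neg {u : List ℕ} (h : isNeg T1 u = true) : kw u = negK := val_toK rel1 (ev_of_isNeg tab1 h)

theorem kw_cube {u : List ℕ} (h : isOne T1 (u ++ (u ++ u)) = true) : kw u ^ 3 = 1 := by
  rw [pow_three, ← kw_append, ← kw_append]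
  exact val_toK rel1 (ev_of_isOne tab1 h)

theorem kw_comm {u v : List ℕ} (h : isOne T1 (u ++ v ++ invw iv (v ++ u)) = true) : kw u * kw v = kw v * kw u := by
  rw [← kw_append, ← kw_append]
  exact kw_eq h

theorem kw_conj {g u v : List ℕ} (h : isOne T1 (g ++ u ++ invw iv g ++ invw iv v) = true) :
    kw g * kw u * (kw g)⁻¹ = kw v := by
  rw [← kw_inv, ← kw_append, ← kw_append]
  exact kw_eq h

theorem kw_conj' {g u v : List ℕ} (h : isOne T1 (g ++ u ++ invw iv g ++ invw iv (invw iv v)) = true) :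
    kw g * kw u * (kw g)⁻¹ = (kw v)⁻¹ := by
  rw [← kw_inv v]
  exact kw_conj h

/-- the word of `c` -/
def wc : List ℕ := [5, 0, 10, 6, 4, 0, 10, 9, 5, 1, 4, 8, 11, 1, 5, 7, 11, 1, 4]

/-- the word of `t` -/
def wτ : List ℕ := [13, 7, 10, 2, 6, 12, 3, 10]

/-- the word of `d` -/
def wd : List ℕ := wτ ++ wc ++ invw iv wτ

/-- the word of `s` -/
def ws : List ℕ := [0, 5, 11, 8, 6, 4, 0, 10, 0, 4, 3, 0]

/-- the word of `g` -/
def wg : List ℕ := [5, 0, 7, 8, 10, 4, 1]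

/-- the word of `h` -/
def wh : List ℕ := [6, 13, 1, 10, 4]

/-- the data in `K₀` -/
noncomputable def T0 : Str K₀ where
  a := kw [2]
  b := kw [8]
  c := kw wc
  d := kw wd
  s := kw ws
  p := kw [7, 5]
  q := kw [0, 10, 3, 0]
  t := kw wτ
  g := kw wg
  a3 := kw_cube (by decide +kernel)
  b3 := kw_cube (by decide +kernel)
  c3 := kw_cube (by decide +kernel)
  d3 := kw_cube (by decide +kernel)
  s3 := kw_cube (by decide +kernel)
  ab := kw_comm (by decide +kernel)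
  ac := kw_comm (by decide +kernel)
  ad := kw_comm (by decide +kernel)
  bc := kw_comm (by decide +kernel)
  bd := kw_comm (by decide +kernel)
  cd := kw_comm (by decide +kernel)
  sa := kw_conj (by decide +kernel)
  sb := kw_conj (by decide +kernel)
  sc := kw_conj (by decide +kernel)
  sd := kw_conj (by decide +kernel)
  pa := kw_conj' (by decide +kernel)
  pb := kw_conj' (by decide +kernel)
  pc := kw_conj (by decide +kernel)
  pd := kw_conj (by decide +kernel)
  qa := kw_conj' (by decide +kernel)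
  qb := kw_conj (by decide +kernel)
  qc := kw_conj' (by decide +kernel)
  qd := kw_conj (by decide +kernel)
  ta := kw_conj (by decide +kernel)
  tb := kw_conj (by decide +kernel)
  tc := kw_conj (by decide +kernel)
  td := kw_conj (by decide +kernel)
  gz := by
    rw [← kw_append, ← kw_append]
    exact kw_conj (by decide +kernel)
  gd := kw_conj (by decide +kernel)
  gs := by
    rw [← kw_inv [8], ← kw_append [2]]
    exact kw_conj (by decide +kernel)

theorem h_el : kw wh * (T0.a * (T0.b * (T0.c * T0.d))) * (kw wh)⁻¹ = T0.a * (T0.b * (T0.c⁻¹ * T0.d⁻¹)) := by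
  show kw wh * (kw [2] * (kw [8] * (kw wc * kw wd))) * (kw wh)⁻¹ = kw [2] * (kw [8] * ((kw wc)⁻¹ * (kw wd)⁻¹))
  rw [← kw_inv wc, ← kw_inv wd, ← kw_append wc, ← kw_append [8], ← kw_append [2], ← kw_append (invw iv wc),
    ← kw_append [8], ← kw_append [2]]
  exact kw_conj (by decide +kernel)

theorem neg_eq : (T0.a * (kw wh * T0.a * (kw wh)⁻¹)) ^ 3 * (T0.d * (kw wh * T0.d⁻¹ * (kw wh)⁻¹)) ^ 3 = negK := by
  show (kw [2] * (kw wh * kw [2] * (kw wh)⁻¹)) ^ 3 * (kw wd * (kw wh * (kw wd)⁻¹ * (kw wh)⁻¹)) ^ 3 = negK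
  simp only [pow_three, ← kw_inv, ← kw_append]
  exact kw_neg (by decide +kernel)

theorem coe_a : (T0.a : W) = t 1 := by
  show ((kw [2] : K₀) : W) = _
  rw [kw, coe_ev_toK, ev_cons, ev_nil, mul_one, lt_even _ _ (by norm_num) (by norm_num)]
  rfl

theorem coe_b : (T0.b : W) = t 4 := by
  show ((kw [8] : K₀) : W) = _
  rw [kw, coe_ev_toK, ev_cons, ev_nil, mul_one, lt_even _ _ (by norm_num) (by norm_num)]
  rfl

/-- the frame -/
def nv : Fin 8 → Fin 8 → ℤ := ![![0, 1, -1, 0, 0, 0, 0, 0], ![0, 1, 1, 0, 0, 0, 0, 0], ![0, 1, 1, 2, 0, 0, 0, 0],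
  ![0, 1, 1, 2, 2, 0, 0, 0], ![0, 1, 1, 2, 2, 2, 0, 0], ![0, 1, 1, 2, 2, 2, 2, 0], ![0, 1, 1, 2, 2, 2, 2, 2],
  ![4, 5, 7, 10, 8, 6, 4, 2]]

theorem fr4 : Fr4 nv where
  gram := by
    unfold form
    decide +kernel
  cong := fun i j => ⟨fun k => (nv i k - nv j k) / 2, by
    revert i j
    decide +kernel⟩

/-- the frame group -/
noncomputable def fK : Ev →* K₀ := (fh fr4).codRestrict K₀ (det_fh fr4)

theorem sym_fK : Sym fK := fun π hπ => by
  obtain ⟨w, h1, h2⟩ := (isFt fr4).sym π hπ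
  exact ⟨⟨w, h1⟩, fun ε => Subtype.ext (h2 ε)⟩

theorem fK_inj : Function.Injective fK := fun _ _ e => fh_inj fr4 (congrArg Subtype.val e)

theorem fK_m1 : fK m1 = negK := Subtype.ext (fh_m1 fr4)

theorem conj_a (ε : Ev) : T0.a * fK ε * T0.a⁻¹ = fK (pmE c1 ε) := Subtype.ext (conj_eq4 fr4 (fun i => by
  rw [coe_a, t_eq, ap_mkW]
  revert i
  decide +kernel) ε)

private noncomputable def _root_.Cfsg.Agent.LsF.f941114_9 : {f // @Cfsg.Agent.OddHalf.D9.EEight.Id.HomData.M1 = f} := ⟨_, by first | (delta Cfsg.Agent.OddHalf.D9.EEight.Id.HomData.M1; rewrite [Cfsg.Agent.LsF.mof_pat, Cfsg.Agent.LsF.ineg_pat, Cfsg.Agent.LsF.vecCons_eq, Cfsg.Agent.LsF.instMOne_eq, Cfsg.Agent.LsF.dFinEq_eq]; (try delta Cfsg.Agent.OddHalf.D9.EEight.Id.HomData.M1.match_1); (try rewrite [Cfsg.Agent.LsF.instDecEq_eq, Cfsg.Agent.LsF.dite_eq]); exact rfl) | exact rfl⟩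
private noncomputable def _root_.Cfsg.Agent.LsF.f941114_10 : {f // @Cfsg.Agent.TwoF.XS.O8p.nv = f} := ⟨_, by first | (delta Cfsg.Agent.TwoF.XS.O8p.nv; rewrite [Cfsg.Agent.LsF.ineg_pat, Cfsg.Agent.LsF.vecCons_eq]; exact rfl) | exact rfl⟩
theorem conj_ab (ε : Ev) : T0.a * T0.b * fK ε * (T0.a * T0.b)⁻¹ = fK (pmE c2 ε) :=
  Subtype.ext (conj_eq4 fr4 (w := T0.a * T0.b) (fun i => by
    rw [ap_mul, coe_a, coe_b, t_eq, t_eq, ap_mkW, ap_mkW]
    revert i
    (refine of_decide_eq_true ?_; (try (rewrite [Cfsg.Agent.LsF.mulVecF_pat, Cfsg.Agent.LsF.dPiF_pat, Cfsg.Agent.LsF.f941114_9.2, Cfsg.Agent.LsF.f941114_10.2, Cfsg.Agent.LsF.f941114_6.2, Cfsg.Agent.LsF.iadd_pat, Cfsg.Agent.LsF.imul_pat, Cfsg.Agent.LsF.instIDecEq_eq, Cfsg.Agent.LsF.dForallFin_eq, Cfsg.Agent.LsF.decide_eq])); decide +kernel)) ε)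

seal _root_.Finset.sum _root_.dotProduct in
theorem a_ne : T0.a ≠ 1 := fun h => by
  have h1 := conj_a (dE 0)
  rw [h, one_mul, inv_one, mul_one] at h1
  have h2 : dl 0 = pm c1 (dl 0) := congrArg Subtype.val (fK_inj h1)
  exact absurd h2 (by decide +kernel)

theorem pi1_a_ne : (T0.map pi1).a ≠ 1 := fun h => by
  rcases pi1_eq_one.1 h with e | e
  · exact a_ne e
  · have h1 := T0.a3
    rw [e, pow_three, negK_mul_self, mul_one] at h1
    exact negK_ne_one h1

theorem pi1_dE_ne : pi1 (fK (dE 0)) ≠ 1 := fun h => by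
  rcases pi1_eq_one.1 h with e | e
  · rw [← map_one fK] at e
    have h2 : dl 0 = 1 := congrArg Subtype.val (fK_inj e)
    exact absurd h2 (by decide +kernel)
  · rw [← fK_m1] at e
    have h2 : dl 0 = -1 := congrArg Subtype.val (fK_inj e)
    exact absurd h2 (by decide +kernel)

theorem card_K0 : Nat.card K₀ = 348364800 := by rw [card_K, card_P]

theorem finite_K0 : Finite K₀ := Nat.finite_of_card_ne_zero (by rw [card_K0]; norm_num)

theorem not_dvd_K0 : ¬ 3 ^ 6 ∣ Nat.card K₀ := by rw [card_K0]; norm_num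

theorem not_dvd_S8 : ¬ 3 ^ 6 ∣ Nat.card S8 := by rw [card_P]; norm_num

variable {V : Type*} [AddCommGroup V] [Module (ZMod 3) V] [FiniteDimensional (ZMod 3) V]

/-- **faithful modules of the simple group** -/
theorem plus_S {σ : Representation (ZMod 3) S8 V} (hσ : Function.Injective σ) :
    27 ≤ finrank (ZMod 3) V ∧
      ∀ A : Subgroup S8, IsElementaryAbelian 3 A → A ≠ ⊥ → ¬ 3 ^ cod σ A ≤ Nat.card A ^ 4 := by
  have := finite_K0
  obtain ⟨h1, h2⟩ := plus (σ := (σ.comp pi1 : Representation (ZMod 3) K₀ V)) sym_fK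
    (by rw [fK_m1, MonoidHom.comp_apply, pi1_eq_one.2 (Or.inr rfl), map_one]) (ε := dE 0)
    (fun e => pi1_dE_ne (hσ (e.trans (map_one σ).symm))) (T0.cube (mul_mem T0.a_mem T0.b_mem)) conj_ab
  refine ⟨h1, fun A hA h3 h4 => ?_⟩
  have h5 := Str.core pi1_a_ne not_dvd_S8 σ hA h3 h4
  rw [cod_comp, MonoidHom.map_zpowers, map_mul] at h2
  have h6 := cod_mono (ρ := σ) (zpowers_le.2 (mul_mem (T0.map pi1).a_mem (T0.map pi1).b_mem))
  have h7 : 18 ≤ cod σ (T0.map pi1).E := h2.trans h6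
  omega

omit [FiniteDimensional (ZMod 3) V] in
theorem cod_neg {σ : Representation (ZMod 3) K₀ V} (h : ∀ v, σ negK v = -v) :
    cod σ (zpowers negK) = finrank (ZMod 3) V := cod_of_fx_eq_bot (eq_bot_iff.2 fun v hv => by
  have h1 := mem_fx_zpowers.1 hv
  rw [h, neg_eq_iff_add_eq_zero, ← two_smul (ZMod 3), smul_eq_zero] at h1
  exact h1.resolve_left (by decide))

/-- **modules on which `-1` acts as `-1`** -/
theorem lt_two_mul {σ : Representation (ZMod 3) K₀ V} (h : ∀ v, σ negK v = -v) (h0 : 0 < finrank (ZMod 3) V) :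
    finrank (ZMod 3) V < 2 * cod σ T0.E := by
  set E' := T0.E.map (MulAut.conj (kw wh)).toMonoidHom with hE'
  have h1 : cod σ E' = cod σ T0.E := cod_conj _ _
  have mem : ∀ x ∈ T0.E, kw wh * x * (kw wh)⁻¹ ∈ E' := fun x hx => ⟨x, hx, rfl⟩
  have h2 : zpowers negK ≤ T0.E ⊔ E' := zpowers_le.2 (neg_eq ▸ mul_mem
    (pow_mem (mul_mem (mem_sup_left T0.a_mem) (mem_sup_right (mem _ T0.a_mem))) 3)
    (pow_mem (mul_mem (mem_sup_left T0.d_mem) (mem_sup_right (mem _ (inv_mem T0.d_mem)))) 3))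
  have h3 := cod_mono (ρ := σ) h2
  have h4 := cod_sup_add_inf (ρ := σ) T0.E E'
  rw [cod_neg h] at h3
  rcases Nat.eq_zero_or_pos (cod σ (T0.E ⊓ E')) with h5 | h5
  · have h6 : T0.a * (T0.b * (T0.c⁻¹ * T0.d⁻¹)) ∈ T0.E :=
      mul_mem T0.a_mem (mul_mem T0.b_mem (mul_mem (inv_mem T0.c_mem) (inv_mem T0.d_mem)))
    have h7 := cod_eq_zero_iff.1 h5 (mem_inf.2 ⟨h6,
      h_el ▸ mem _ (mul_mem T0.a_mem (mul_mem T0.b_mem (mul_mem T0.c_mem T0.d_mem)))⟩)
    have hn := (MonoidHom.normal_ker σ).conj_mem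
    have h8 := T0.irr (N := σ.ker) (fun u hu => hn u hu _) (fun u hu => hn u hu _) (fun u hu => hn u hu _)
      (fun u hu => hn u hu _) h7 h6 fun e => by
        have := (Str.el_eq_one a_ne (i := 1) (j := 1) (k := -1) (l := -1) (by simpa only [Str.el, _root_.zpow_ofNat, _root_.pow_one, _root_.Int.reduceNeg, _root_.zpow_neg] using e)).1
        omega
    have h9 := cod_eq_zero_iff.2 h8
    omega
  · omega

theorem minus_K {σ : Representation (ZMod 3) K₀ V} (h : ∀ v, σ negK v = -v) (h0 : 0 < finrank (ZMod 3) V) :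
    8 ≤ finrank (ZMod 3) V ∧ ∀ A : Subgroup K₀, IsElementaryAbelian 3 A → A ≠ ⊥ →
      (¬ 3 ^ cod σ A ≤ Nat.card A) ∧ (3 ^ cod σ A ≤ Nat.card A ^ 2 → cod σ (zpowers T0.a) ≤ 2) := by
  have := finite_K0
  have h1 := minus sym_fK (fK_m1 ▸ h) h0
  have h2 := lt_two_mul h h0
  refine ⟨h1, fun A hA h3 => ⟨fun h4 => ?_, fun h4 => ?_⟩⟩
  · have := Str.core a_ne not_dvd_K0 σ hA h3 (n := 1) (by rwa [pow_one])
    omega
  · have := Str.core a_ne not_dvd_K0 σ hA h3 h4
    exact small sym_fK (fK_m1 ▸ h) (by omega) T0.a3 conj_a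

end Cfsg.Agent.TwoF.XS.O8p
end

-- part: TwoF/XS/O8p/Four
section
/-!
# TwoF / XS / O8p: faithful modules of the cover `2².Ω₈⁺(2)` (helper36)
-/

set_option autoImplicit false

namespace Cfsg.Agent.TwoF.XS.O8p

open Module Gen Subgroup
open Cfsg.Agent.OddHalf.D9.EEight Cfsg.Agent.OddHalf.D9.EEight.Id Cfsg.Agent.OddHalf.D9.EEight.Id.Onto
open Cfsg.Agent.OddHalf.D9.EEight.Id.Main

theorem center_eq_bot_of {G : Type*} [Group G] [IsSimpleGroup G] {T : Str G} (ha : T.a ≠ 1) : center G = ⊥ := by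
  refine (normal_of_characteristic (center G)).eq_bot_or_eq_top.resolve_right fun e => ?_
  have h1 := T.s_el 1 0 0 0
  have h2 : T.el 1 0 0 0 ∈ center G := by rw [e]; exact mem_top _
  rw [mem_center_iff.1 h2, mul_inv_cancel_right] at h1
  have := (Str.el_inj ha h1).1
  omega

theorem center_S8 : center S8 = ⊥ := center_eq_bot_of pi1_a_ne

theorem central_K0 {z : K₀} (h : ∀ k, z * k = k * z) : z = 1 ∨ z = negK := by
  refine pi1_eq_one.1 (mem_bot.1 (center_S8 ▸ mem_center_iff.2 fun y => ?_))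
  obtain ⟨k, rfl⟩ := pi1_surj y
  rw [← map_mul, ← h, map_mul]

theorem exists_desc {D K M : Type*} [Group D] [Group K] [Monoid M] {q : D →* K} (hq : Function.Surjective q)
    (τ : D →* M) (h : ∀ d, q d = 1 → τ d = 1) : ∃ τ' : K →* M, ∀ d, τ' (q d) = τ d :=
  ⟨(Units.coeHom M).comp (q.liftOfSurjective hq ⟨τ.toHomUnits, fun d hd => Units.ext (h d hd)⟩), fun d =>
    congrArg Units.val (q.liftOfRightInverse_comp_apply _ (Function.rightInverse_surjInv hq)
      ⟨τ.toHomUnits, fun d hd => Units.ext (h d hd)⟩ d)⟩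

theorem card_map_eq {D K : Type*} [Group D] [Group K] {q : D →* K} (hq : ∀ d, q d = 1 → d * d = 1) {A : Subgroup D}
    (hA : IsElementaryAbelian 3 A) : Nat.card (A.map q) = Nat.card A := by
  have h1 : q.ker ⊓ A = ⊥ := eq_bot_iff.2 fun d hd => by
    have h2 := hA.2 d hd.2
    rwa [pow_three, hq d hd.1, mul_one] at h2
  rw [← relIndex_ker, ← inf_relIndex_right, h1, relIndex_bot_left]

theorem map_ne_bot {D K : Type*} [Group D] [Group K] {q : D →* K} (hq : ∀ d, q d = 1 → d * d = 1)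
    {A : Subgroup D} (hA : IsElementaryAbelian 3 A) (h : A ≠ ⊥) : A.map q ≠ ⊥ := fun e =>
  h (card_eq_one.1 (by rw [← card_map_eq hq hA, e, card_bot]))

variable {D : Type*} [Group D] {V : Type*} [AddCommGroup V] [Module (ZMod 3) V] {σ : Representation (ZMod 3) D V}

theorem neg_of {m m' : D} (hc : m * m' = m' * m) (h2 : m' * m' = 1) (h : ∀ v, σ m v = v → σ m' v = v → v = 0) {v : V}
    (hv : σ m v = v) : σ m' v = -v := by
  refine eq_neg_of_add_eq_zero_right (h _ ?_ ?_)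
  · rw [map_add, hv, ← rho_mul, hc, rho_mul, hv]
  · rw [map_add, ← rho_mul, h2, rho_one, add_comm]

theorem inv_of_central {m : D} (hm : ∀ d, d * m = m * d) (B : Subgroup D) : Inv σ B (fx σ (zpowers m)) :=
  inv_fx fun d _ => XL.mem_normalizer_zpowers_of_comm (hm d)

variable [FiniteDimensional (ZMod 3) V]

/-- the statement on one weight space of the centre -/
def Good (σ : Representation (ZMod 3) D V) (m : D) : Prop :=
  fx σ (zpowers m) ≠ ⊥ → 8 ≤ finrank (ZMod 3) (fx σ (zpowers m)) ∧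
    ∀ A : Subgroup D, IsElementaryAbelian 3 A → A ≠ ⊥ → ¬ 3 ^ codOn σ (fx σ (zpowers m)) A ≤ Nat.card A

theorem good {q : D →* K₀} (hq : Function.Surjective q) {m m' : D} (hm : ∀ d, d * m = m * d) (h2 : m * m = 1)
    (h2' : m' * m' = 1) (hk : ∀ d, q d = 1 → d = 1 ∨ d = m) (hm' : q m' = negK)
    (h : ∀ v, σ m v = v → σ m' v = v → v = 0) : Good σ m := fun h0 => by
  obtain ⟨τ, hτ⟩ := exists_desc hq (Representation.subrepresentation σ (fx σ (zpowers m))
    fun g v hv => inv_of_central hm ⊤ g trivial v hv) fun d hd => by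
      rcases hk d hd with rfl | rfl
      · exact map_one _
      · exact LinearMap.ext fun v => Subtype.ext (mem_fx_zpowers.1 v.2)
  have hτ' : ∀ d (v : fx σ (zpowers m)), (τ (q d) v : V) = σ d v := fun d v => by rw [hτ]; rfl
  have hq2 : ∀ d, q d = 1 → d * d = 1 := fun d hd => by
    rcases hk d hd with rfl | rfl
    · exact one_mul _
    · exact h2
  obtain ⟨h3, h4⟩ := minus_K (σ := τ) (fun v => Subtype.ext (by
    rw [← hm', hτ']
    exact neg_of (hm m').symm h2' h (mem_fx_zpowers.1 v.2))) (Submodule.one_le_finrank_iff.2 h0)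
  refine ⟨h3, fun A hA h5 => ?_⟩
  have h6 := (h4 _ (elemAb_map hA q) (map_ne_bot hq2 hA h5)).1
  rwa [card_map_eq hq2 hA, cod_eq_codOn_range (ρ := σ) (fx σ (zpowers m)).subtype Subtype.val_injective (B := A)
    (B' := A.map q) (ρ' := τ)
    (fun b hb => ⟨q b, ⟨b, hb, rfl⟩, hτ' b⟩) (by
      rintro _ ⟨b, hb, rfl⟩
      exact ⟨b, hb, hτ' b⟩), Submodule.range_subtype] at h6

theorem pair [Finite D] {m m' : D} (hm : ∀ d, d * m = m * d) (hm' : ∀ d, d * m' = m' * d) (g : Good σ m)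
    (g' : Good σ m') (h : ∀ v, σ m v = v → σ m' v = v → v = 0) (h0 : fx σ (zpowers m) ≠ ⊥)
    (h0' : fx σ (zpowers m') ≠ ⊥) : 16 ≤ finrank (ZMod 3) V ∧ ∀ A : Subgroup D, ¬ Off 3 σ A := by
  obtain ⟨h1, h2⟩ := g h0
  obtain ⟨h1', h2'⟩ := g' h0'
  have h3 : fx σ (zpowers m) ⊓ fx σ (zpowers m') = ⊥ :=
    eq_bot_iff.2 fun v hv => h v (mem_fx_zpowers.1 hv.1) (mem_fx_zpowers.1 hv.2)
  refine ⟨?_, fun A hA => ?_⟩
  · have h4 := Submodule.finrank_sup_add_finrank_inf_eq (fx σ (zpowers m)) (fx σ (zpowers m'))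
    have h5 := Submodule.finrank_le (fx σ (zpowers m) ⊔ fx σ (zpowers m'))
    rw [h3, finrank_bot] at h4
    omega
  · obtain ⟨r, -, h4, h5⟩ := hA.exists_card
    have h6 := (codOn_sup_ge (inv_of_central hm A) (inv_of_central hm' A) h3).trans (codOn_le_cod (ρ := σ) _ A)
    have h7 := h2 A hA.1 hA.2.1
    have h8 := h2' A hA.1 hA.2.1
    rw [h4, Nat.pow_le_pow_iff_right (by norm_num)] at h7 h8
    omega

omit [FiniteDimensional (ZMod 3) V] in
theorem mul_eq_one_of (hσ : Function.Injective σ) {m m' : D} (h2 : m * m = 1) (h2' : m' * m' = 1)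
    (h0 : fx σ (zpowers m) = ⊥) (h0' : fx σ (zpowers m') = ⊥) : m * m' = 1 := by
  have key : ∀ x : D, x * x = 1 → fx σ (zpowers x) = ⊥ → ∀ v, σ x v = -v := fun x hx h v =>
    neg_of (m := 1) (by rw [one_mul, mul_one]) hx
      (fun w _ hw => (Submodule.mem_bot _).1 (h ▸ mem_fx_zpowers.2 hw)) (rho_one σ v)
  refine hσ (LinearMap.ext fun v => ?_)
  rw [rho_mul, key m h2 h0, key m' h2' h0', neg_neg, rho_one]

variable [Finite D] {L : Type*} [Group L] (S : Core.Dat D L S8 K₀)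

omit [Finite D] in
theorem n_eq : S.n = negK := (central_K0 S.ncomm).resolve_left S.hn

include S in
theorem card_le_D {A : Subgroup D} (hA : IsElementaryAbelian 3 A) : Nat.card A ≤ 81 := by
  rw [← card_map_eq (q := S.θ) (fun d hd => S.sq_θ hd) hA]
  exact Str.card_le pi1_a_ne not_dvd_S8 (elemAb_map hA _)

/-- **faithful modules of the universal cover** -/
theorem four (hσ : Function.Injective σ) (h : ∀ v, σ S.n1 v = v → σ S.n2 v = v → v = 0) :
    16 ≤ finrank (ZMod 3) V ∧ ∀ A : Subgroup D, ¬ Off 3 σ A := by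
  have m3 := mul_mem S.n1_mem S.n2_mem
  have c1 := S.comm_θ S.n1_mem
  have c2 := S.comm_θ S.n2_mem
  have c3 := S.comm_θ m3
  have s1 := S.sq_θ S.n1_mem
  have s2 := S.sq_θ S.n2_mem
  have s3 := S.sq_θ m3
  have h31 : ∀ v, σ (S.n1 * S.n2) v = v → σ S.n1 v = v → v = 0 := fun v e1 e2 =>
    h v e2 (rho_injective σ S.n1 (by rw [← rho_mul, e1, e2]))
  have h32 : ∀ v, σ (S.n1 * S.n2) v = v → σ S.n2 v = v → v = 0 := fun v e1 e2 =>
    h v (by rwa [rho_mul, e2] at e1) e2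
  have g1 : Good σ S.n1 := by
    have e : S.q1 S.n2 ≠ 1 := S.c1 ▸ S.hn
    refine good (S.surj_of_val S.n2_mem e card_K) c1 s1 s2 (fun d hd => ?_) (S.c1.trans (n_eq S)) h
    rcases S.mem_ker (S.ker_le S.n2_mem e hd) with rfl | rfl | rfl | rfl
    · exact Or.inl rfl
    · exact Or.inr rfl
    · exact absurd hd e
    · rw [map_mul, S.a1, one_mul] at hd
      exact absurd hd e
  have g2 : Good σ S.n2 := by
    have e : S.q3 S.n1 ≠ 1 := S.a3 ▸ S.hn
    refine good (S.surj_of_val S.n1_mem e card_K) c2 s2 s1 (fun d hd => ?_) (S.a3.trans (n_eq S))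
      fun v e1 e2 => h v e2 e1
    rcases S.mem_ker (S.ker_le S.n1_mem e hd) with rfl | rfl | rfl | rfl
    · exact Or.inl rfl
    · exact absurd hd e
    · exact Or.inr rfl
    · rw [map_mul, S.c3, mul_one] at hd
      exact absurd hd e
  have g3 : Good σ (S.n1 * S.n2) := by
    have e : S.q2 S.n1 ≠ 1 := S.a2 ▸ S.hn
    refine good (S.surj_of_val S.n1_mem e card_K) c3 s3 s1 (fun d hd => ?_) (S.a2.trans (n_eq S)) h31
    rcases S.mem_ker (S.ker_le S.n1_mem e hd) with rfl | rfl | rfl | rfl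
    · exact Or.inl rfl
    · exact absurd hd e
    · exact absurd hd (S.c2 ▸ S.hn)
    · exact Or.inr rfl
  by_cases z1 : fx σ (zpowers S.n1) = ⊥
  · refine pair c3 c2 g3 g2 h32 (fun z => S.ne2 ?_) fun z => S.ne3 (mul_eq_one_of hσ s1 s2 z1 z).symm
    have := mul_eq_one_of hσ s1 s3 z1 z
    rwa [← mul_assoc, s1, one_mul, eq_comm] at this
  · by_cases z2 : fx σ (zpowers S.n2) = ⊥
    · refine pair c3 c1 g3 g1 h31 (fun z => S.ne1 ?_) z1
      have := mul_eq_one_of hσ s3 s2 z z2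
      rwa [mul_assoc, s2, mul_one, eq_comm] at this
    · exact pair c1 c2 g1 g2 h z1 z2

end Cfsg.Agent.TwoF.XS.O8p
end

-- part: TwoF/XS/O8p/Main
section
/-!
# TwoF / XS / O8p: `Ω₈⁺(2)`, `p = 3` (helper36)

`Z(K) = 1`, `|Z(K)| = 4`: no offenders.  `|Z(K)| = 2`: an offender lies in `K = W(E₈)'`, the dimension is less than 16 and a
3-cycle generates a cubic offender.
-/

set_option autoImplicit false

namespace Cfsg.Agent.TwoF.XS.O8p

open Module Gen Subgroup
open Cfsg.Agent.OddHalf.D9.EEight Cfsg.Agent.OddHalf.D9.EEight.Id Cfsg.Agent.OddHalf.D9.EEight.Id.Onto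
open Cfsg.Agent.OddHalf.D9.EEight.Id.Main
open Cfsg.Agent.KFacts.OddLift.Basic (Cov)

theorem card_out : Nat.card (Out S8) = 6 := by
  obtain ⟨e⟩ := H63.EightTwo.exists_equiv
  have h := S0817.result (F := ZMod 2) 2 1 le_rfl (by simp) 4 le_rfl
  rw [Nat.card_congr (MulAut.congr e).toEquiv, Nat.card_congr e.toEquiv, XE.card_aut center_S8, card_P] at h
  norm_num only [_root_.ite_true, _root_.mul_one] at h
  omega

theorem reach {x : MulAut S8} (hx : orderOf x = 3) : ∃ k ≤ 11, H915.Gs.Reach x k ⊤ := by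
  obtain ⟨e⟩ := H63.EightTwo.exists_equiv
  rcases (H100.Gs.omega_plus (ZMod 2) 4 le_rfl).congr e 11 x (by norm_num) (by norm_num) (hx ▸ Nat.prime_three) with
    h | ⟨-, h⟩ | ⟨h, -⟩
  · exact ⟨11, le_rfl, h⟩
  · exact ⟨_, by norm_num, h⟩
  · rw [card_P] at h
    exact absurd h (by norm_num)

theorem inner_K0 {α : MulAut K₀} (h : α ^ 3 = 1) : ∃ x : K₀, ∀ k, α k = x * k * x⁻¹ := by
  obtain ⟨w, hw⟩ := RowFinal.autConj α
  refine ⟨⟨w * (w * (w * w)), ?_⟩, fun k => Subtype.ext ?_⟩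
  · rw [mem_K₀, map_mul, map_mul, map_mul, Int.units_mul_self, mul_one, Int.units_mul_self]
  · have h1 : α k = α (α (α (α k))) := by
      have := DFunLike.congr_fun h (α k)
      rw [pow_three] at this
      exact this.symm
    rw [h1, hw, hw, hw, hw]
    simp only [Subgroup.coe_mul, InvMemClass.coe_inv, mul_inv_rev, mul_assoc]

/-- an element of order 3 that does not centralise a four-group -/
theorem klein {Y : Type*} [Group Y] [Finite Y] {Z : Subgroup Y} (h4 : Nat.card Z = 4) (h2 : ∀ z ∈ Z, z * z = 1) {a z : Y}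
    (ha : a ^ 3 = 1) (hn : ∀ x ∈ Z, a * x * a⁻¹ ∈ Z) (hz : z ∈ Z) (h : a * z * a⁻¹ ≠ z) {L : Subgroup Y}
    (hL : ∀ x ∈ Z, a * x * a⁻¹ * x⁻¹ ∈ L) : Z ≤ L := by
  set g := a * z * a⁻¹ * z⁻¹ with hg
  have g1 : g ∈ Z := mul_mem (hn z hz) (inv_mem hz)
  have g2 : g ≠ 1 := fun e => h (mul_inv_eq_one.1 e)
  have g3 : a * g * a⁻¹ ≠ g := fun e => h (by
    have e1 : a * z * a⁻¹ = g * z := by rw [hg, inv_mul_cancel_right]
    have e2 : a * (a * z * a⁻¹) * a⁻¹ = z := by
      rw [e1, show a * (g * z) * a⁻¹ = a * g * a⁻¹ * (a * z * a⁻¹) by group, e, e1, ← mul_assoc, h2 g g1, one_mul]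
    calc a * z * a⁻¹ = a * (a * (a * z * a⁻¹) * a⁻¹) * a⁻¹ := by rw [e2]
      _ = a ^ 3 * z * (a ^ 3)⁻¹ := by simp only [pow_three, mul_inv_rev, mul_assoc]
      _ = z := by rw [ha, one_mul, inv_one, mul_one])
  have g4 : a * g * a⁻¹ ≠ 1 := fun e => g2 (by simpa only [_root_.conj_eq_one_iff] using e)
  have g5 : a * g * a⁻¹ ∈ L := by simpa only [inv_mul_cancel_right] using mul_mem (hL g g1) (show g ∈ L from hL z hz)
  have h5 : 2 < Nat.card ↥(L ⊓ Z) := by
    have := Fintype.ofFinite ↥(L ⊓ Z)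
    rw [Nat.card_eq_fintype_card, Fintype.two_lt_card_iff]
    exact ⟨1, ⟨g, hL z hz, g1⟩, ⟨_, g5, hn g g1⟩, fun e => g2 (congrArg Subtype.val e).symm,
      fun e => g4 (congrArg Subtype.val e).symm, fun e => g3 (congrArg Subtype.val e).symm⟩
  have h6 : Nat.card ↥(L ⊓ Z) ∣ 4 := h4 ▸ card_dvd_of_le inf_le_right
  have h7 := Nat.le_of_dvd (by norm_num) h6
  have h8 : Nat.card ↥(L ⊓ Z) ≠ 3 := fun e => by rw [e] at h6; exact absurd h6 (by norm_num)
  exact inf_eq_right.1 (eq_of_le_of_card_ge inf_le_right (by omega))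

variable {Y : Type} [Group Y] [Finite Y] {V : Type} [AddCommGroup V] [Module (ZMod 3) V] [Finite V]
  {K : Subgroup Y} {ρ : Representation (ZMod 3) Y V} {π : K →* S8} {φ : Y →* MulAut S8} {A : Subgroup Y}

omit [Finite Y] in
theorem elemAb_sub (hA : IsElementaryAbelian 3 A) : IsElementaryAbelian 3 (A.subgroupOf K) :=
  elemAb_of (fun _ ha _ hb => Subtype.ext (elemAb_comm hA ha hb)) fun _ ha => Subtype.ext (hA.2 _ ha)

omit [Finite Y] in
theorem cod_sub : cod (ρ.comp K.subtype : Representation (ZMod 3) K V) (A.subgroupOf K) ≤ cod ρ A := by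
  rw [cod_comp]
  exact cod_mono (map_comap_le _ _)

omit [Finite Y] in
theorem card_sub : Nat.card (A.subgroupOf K) * K.relIndex A = Nat.card A := by
  rw [← card_map_of_injective K.subtype_injective, subgroupOf_map_subtype, inf_comm, ← subgroupOf_map_subtype,
    card_map_of_injective A.subtype_injective]
  exact card_mul_index _

variable (H : Sit 3 K ρ π φ)
include H

omit [Finite V] in
theorem card_ker_dvd : Nat.card π.ker ∣ 4 := by
  have := H.toFrm.card_center_dvd H.toStp.perfect H63.EightTwo.main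
  rw [H.ker_π]
  simpa only [_root_.Nat.card_eq_fintype_card, _root_.IsKleinFour.card_four'] using this

omit [Finite V] in
theorem cov : Cov π where
  surj := H.surj
  central := H.ker_π.le
  two := by
    obtain ⟨n, -, hn⟩ := (Nat.dvd_prime_pow Nat.prime_two).1 (show Nat.card π.ker ∣ 2 ^ 2 from card_ker_dvd H)
    exact IsPGroup.of_card hn
  perfect := H.toStp.perfect.commutator_eq_top

omit [Finite V] in
theorem rel_le (hA : IsElementaryAbelian 3 A) : K.relIndex A ≤ 3 := by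
  have h := H.toFrm.relIndex_dvd A
  obtain ⟨n, hn⟩ := (elemAb_isPGroup hA).exists_card_eq
  obtain ⟨m, -, hm⟩ := (Nat.dvd_prime_pow Nat.prime_three).1 (hn ▸ relIndex_dvd_card K A)
  rw [card_out, hm] at h
  rw [hm]
  rcases m with _ | _ | m
  · norm_num
  · norm_num
  · exact absurd ((pow_dvd_pow 3 (by omega : 2 ≤ m + 1 + 1)).trans h) (by norm_num)

omit [Finite Y] [Finite V] in
theorem fx_center (h : π.ker ≠ ⊥) {v : V} (hv : ∀ z : K, π z = 1 → ρ z v = v) : v = 0 := by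
  have := H.normal
  have h1 : fx ρ (centralizer (K : Set Y)) = ⊥ := H.irr.fx_eq_bot H.faithful (by rw [normalizer_eq_top]) fun e => h (by
    rwa [H.toStp.centralizer_eq, map_eq_bot_iff_of_injective _ K.subtype_injective, ← H.ker_π] at e)
  refine (Submodule.mem_bot _).1 (h1 ▸ mem_fx.2 fun b hb => ?_)
  exact hv ⟨b, H.toStp.cent hb⟩ (H.toFrm.π_eq_one_iff.2 hb)

/-- trivial centre -/
theorem case_one (h1 : π.ker = ⊥) : ¬ Off 3 ρ A := fun hA => by
  let e := MulEquiv.ofBijective π ⟨(MonoidHom.ker_eq_bot_iff π).1 h1, H.surj⟩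
  have hφ : Function.Injective φ := by
    rw [← MonoidHom.ker_eq_bot_iff, H.ker_φ, H.toStp.centralizer_eq, ← H.ker_π, h1, Subgroup.map_bot]
  obtain ⟨h2, h3⟩ := plus_S (σ := ((ρ.comp K.subtype).comp e.symm.toMonoidHom : Representation (ZMod 3) S8 V))
    ((H.faithful.comp K.subtype_injective).comp e.symm.injective)
  obtain ⟨r, hr, h4, h5⟩ := hA.exists_card
  have h6 := card_sub (K := K) (A := A)
  have h7 := rel_le H hA.1
  by_cases h0 : A.subgroupOf K = ⊥
  · rw [h0, card_bot, one_mul, h4] at h6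
    have h8 : r ≤ 1 := (Nat.pow_le_pow_iff_right (by norm_num : 1 < 3)).1 (by omega)
    obtain ⟨⟨a, ha⟩, ha1⟩ := ne_bot_iff_exists_ne_one.1 hA.2.1
    obtain ⟨k, hk, f, hf⟩ := reach (x := φ a) (orderOf_eq_prime (by rw [← map_pow, hA.1.2 a ha, map_one])
      fun e' => ha1 (Subtype.ext (hφ (e'.trans (map_one φ).symm))))
    have h9 := H.toStp.finrank_le_mul (Finset.univ : Finset (Fin k)) (fun i => (e.symm (f i) : Y)) A fun y hy => by
      have m1 : φ y ∈ H915.Gs.Gn (φ a) f := hf ⟨π ⟨y, hy⟩, trivial, (H.toFrm.φ_coe ⟨y, hy⟩).symm⟩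
      have m2 : H915.Gs.Gn (φ a) f ≤
          (⨆ i ∈ (Finset.univ : Finset (Fin k)), A.map (MulAut.conj (e.symm (f i) : Y)).toMonoidHom).map φ :=
        (closure_le _).2 (by
          rintro _ ⟨i, rfl⟩
          refine ⟨(e.symm (f i) : Y) * a * (e.symm (f i) : Y)⁻¹,
            (le_iSup₂_of_le i (Finset.mem_univ i) le_rfl : A.map (MulAut.conj (e.symm (f i) : Y)).toMonoidHom ≤ _)
              ⟨a, ha, rfl⟩, ?_⟩
          rw [map_mul, map_mul, map_inv, H.toFrm.φ_coe, show π (e.symm (f i)) = f i from e.apply_symm_apply _])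
      obtain ⟨y', hy', e'⟩ := m2 m1
      exact hφ e' ▸ hy'
    rw [Finset.card_univ, Fintype.card_fin] at h9
    have h10 : k * cod ρ A ≤ 11 * 2 := Nat.mul_le_mul hk (by omega)
    omega
  · obtain ⟨s, hs⟩ := (elemAb_isPGroup (elemAb_sub (K := K) hA.1)).exists_card_eq
    have h8 : s ≠ 0 := fun e' => h0 (card_eq_one.1 (by rw [hs, e', pow_zero]))
    have h9 : r ≤ s + 1 := (Nat.pow_le_pow_iff_right (by norm_num : 1 < 3)).1 (by
      rw [← h4, ← h6, hs, pow_succ]
      exact Nat.mul_le_mul_left _ h7)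
    refine h3 ((A.subgroupOf K).map e.toMonoidHom) (elemAb_map (elemAb_sub hA.1) _)
      (fun e' => h0 ((map_eq_bot_iff_of_injective _ e.injective).1 e')) ?_
    rw [card_map_of_injective (f := e.toMonoidHom) e.injective, cod_comp, map_map, MulEquiv.toMonoidHom_eq_coe,
      MulEquiv.toMonoidHom_eq_coe,
      MulEquiv.coe_monoidHom_symm_comp_coe_monoidHom, Subgroup.map_id, hs, ← pow_mul]
    have := cod_sub (K := K) (ρ := ρ) (A := A)
    exact Nat.pow_le_pow_right (by norm_num) (by omega)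

/-- centre of order two -/
theorem case_two (h2 : Nat.card π.ker = 2) (hA : Off 3 ρ A) : A ≤ K ∧ ∃ B, Off 3 ρ B ∧ Cub ρ B := by
  have := H.normal
  have hne : π.ker ≠ ⊥ := fun e => by rw [e, card_bot] at h2; omega
  obtain ⟨ψ⟩ := exists_iso (cov H) hne (isCyclic_of_prime_card (p := 2) h2)
  have h1 : A ≤ K := fun a ha => by
    obtain ⟨x, hx⟩ := inner_K0 (α := MulAut.congr ψ (MulAut.conjNormal a))
      (by rw [← map_pow, ← map_pow, hA.1.2 a ha, map_one, map_one])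
    have h3 : (ψ.symm x : Y)⁻¹ * a ∈ centralizer (K : Set Y) := fun y hy => by
      have h4 := congrArg (fun k => (ψ.symm k : Y)) (hx (ψ ⟨y, hy⟩))
      simp only [MulAut.congr_apply, MulEquiv.trans_apply, MulEquiv.symm_apply_apply, map_mul, map_inv,
        MulAut.conjNormal_apply, Subgroup.coe_mul, InvMemClass.coe_inv] at h4
      calc y * ((ψ.symm x : Y)⁻¹ * a) = (ψ.symm x : Y)⁻¹ * ((ψ.symm x : Y) * y * (ψ.symm x : Y)⁻¹) * a := by group
        _ = _ := by rw [← h4]; group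
    simpa only [mul_inv_cancel_left] using mul_mem (ψ.symm x).2 (H.toStp.cent h3)
  have := H.toStp.nontrivial
  obtain ⟨-, h3⟩ := minus_K (σ := ((ρ.comp K.subtype).comp ψ.symm.toMonoidHom : Representation (ZMod 3) K₀ V))
    (fun v => neg_of (m := 1) (by rw [one_mul, mul_one]) negK_mul_self (fun w _ hw => fx_center H hne fun z hz => by
      rcases central_K0 (z := ψ z) (fun k => by
        obtain ⟨k, rfl⟩ := ψ.surjective k
        rw [← map_mul, ← map_mul, mem_center_iff.1 (H.ker_π.le hz) k]) with e | e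
      · rw [(MulEquiv.map_eq_one_iff ψ).1 e]
        exact rho_one ρ w
      · rw [← ψ.symm_apply_apply z, e]
        exact hw) (rho_one _ v)) finrank_pos
  have h4 := card_sub (K := K) (A := A)
  rw [relIndex_eq_one.2 h1, mul_one] at h4
  have h5 := (h3 ((A.subgroupOf K).map ψ.toMonoidHom) (elemAb_map (elemAb_sub hA.1) _) fun e' => hA.2.1 (card_eq_one.1 (by
    rw [← h4, (map_eq_bot_iff_of_injective _ ψ.injective).1 e', card_bot]))).2 (by
    rw [card_map_of_injective ψ.injective, cod_comp, map_map, MulEquiv.toMonoidHom_eq_coe, MulEquiv.toMonoidHom_eq_coe,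
      MulEquiv.coe_monoidHom_symm_comp_coe_monoidHom, Subgroup.map_id, h4]
    exact (Nat.pow_le_pow_right (by norm_num) cod_sub).trans hA.2.2)
  rw [cod_comp, cod_comp, MonoidHom.map_zpowers, MonoidHom.map_zpowers] at h5
  have h6 : (K.subtype (ψ.symm.toMonoidHom T0.a)) ^ 3 = 1 := by rw [← map_pow, ← map_pow, T0.a3, map_one, map_one]
  exact ⟨h1, _, off_zpowers (orderOf_eq_prime h6 fun e => a_ne (ψ.symm.injective (Subtype.ext
    (e.trans (by rw [map_one]; rfl))))) h5, cub_of_cod_le_two (elemAb_isPGroup (elemAb_zpowers h6)) h5⟩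

/-- centre of order four -/
theorem case_four (h4 : Nat.card π.ker = 4) : ¬ Off 3 ρ A := fun hA => by
  have := H.normal
  have hne : π.ker ≠ ⊥ := fun e => by rw [e, card_bot] at h4; omega
  obtain ⟨D, _, _, S, hS⟩ := exists_dat (cov H)
  have hp : Function.Bijective S.p := S.psurj.bijective_of_nat_card_le (by
    rw [H.toFrm.card_K, ← H.ker_π, h4]
    exact S.card_le)
  let e := MulEquiv.ofBijective S.p hp
  obtain ⟨h1, h2⟩ := four (σ := ((ρ.comp K.subtype).comp S.p : Representation (ZMod 3) D V)) S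
    ((H.faithful.comp K.subtype_injective).comp hp.1) fun v e1 e2 => fx_center H hne fun z hz => by
      obtain ⟨m, rfl⟩ := S.psurj z
      rcases S.mem_ker (m := m) (by rw [← hS] at hz; exact hz) with rfl | rfl | rfl | rfl
      · rw [map_one]; exact rho_one ρ v
      · exact e1
      · exact e2
      · exact (rho_mul ((ρ.comp K.subtype).comp S.p) _ _ v).trans (by rw [e2, e1])
  have h3 := card_sub (K := K) (A := A)
  have hE := elemAb_map (elemAb_sub (K := K) hA.1) e.symm.toMonoidHom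
  have hc : Nat.card ((A.subgroupOf K).map e.symm.toMonoidHom) = Nat.card (A.subgroupOf K) :=
    card_map_of_injective e.symm.injective
  by_cases h0 : A ≤ K
  · rw [relIndex_eq_one.2 h0, mul_one] at h3
    refine h2 _ ⟨hE, fun e' => hA.2.1 (card_eq_one.1 (by rw [← h3, ← hc, e', card_bot])), ?_⟩
    rw [hc, h3, cod_comp, map_map, show S.p.comp e.symm.toMonoidHom = MonoidHom.id K from
      MonoidHom.ext e.apply_symm_apply, Subgroup.map_id]
    exact (Nat.pow_le_pow_right (by norm_num) cod_sub).trans hA.2.2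
  obtain ⟨a, ha, ha'⟩ := SetLike.not_le_iff_exists.1 h0
  by_cases h5 : ∀ z ∈ π.ker, MulAut.conjNormal a z = z
  · obtain ⟨x, hx⟩ := InnerCore.inner_bar RowFinal.autConj (cov H) h4 _ h5
    refine ha' (H.toFrm.mem_inn_iff.1 ⟨x, MulEquiv.ext fun s => ?_⟩)
    obtain ⟨y, rfl⟩ := H.surj s
    rw [H.conj a y (MulAut.conjNormal a y) rfl, hx, MulAut.conj_apply]
  push Not at h5
  obtain ⟨z, hz, h5⟩ := h5
  have sq : ∀ z ∈ centralizer (K : Set Y), z * z = 1 := fun z hz =>
    congrArg Subtype.val (ker_sq (cov H) (z := ⟨z, H.toStp.cent hz⟩) (H.toFrm.π_eq_one_iff.2 hz))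
  have hn : ∀ x ∈ centralizer (K : Set Y), a * x * a⁻¹ ∈ centralizer (K : Set Y) := fun x hx =>
    (inferInstance : (centralizer (K : Set Y)).Normal).conj_mem x hx a
  have h6 := XL.cod_comm_le (ρ := ρ) (R := centralizer (K : Set Y)) (B := centralizer (K : Set Y)) (a := a) (s := 3)
    (n := 1) (fun x hx y hy => hy x (H.toStp.cent hx))
    (card_ne_zero_of_exp Nat.prime_two (by decide) fun x hx => by rw [pow_two, sq x hx]) (hA.1.2 a ha) hn
    fun L hL => klein (by rw [H.toStp.card_centralizer, ← H.ker_π, h4]) sq (hA.1.2 a ha) hn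
      (H.toFrm.π_eq_one_iff.1 hz) (fun e' => h5 (Subtype.ext e')) hL
  rw [cod_of_fx_eq_bot (B := centralizer (K : Set Y)) (eq_bot_iff.2 fun v hv =>
    fx_center H hne fun z hz => hv z (H.toFrm.π_eq_one_iff.1 hz))] at h6
  obtain ⟨r, -, h7, h8⟩ := hA.exists_card
  have h9 := cod_mono (ρ := ρ) (zpowers_le.2 ha)
  have h10 := card_le_D S hE
  have h11 : r ≤ 5 := (Nat.pow_le_pow_iff_right (by norm_num : 1 < 3)).1 (by
    rw [← h7, ← h3, ← hc]
    exact Nat.mul_le_mul h10 (rel_le H hA.1))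
  omega

theorem main (hA : Off 3 ρ A) : A ≤ K ∧ ∃ B, Off 3 ρ B ∧ Cub ρ B := by
  have h := card_ker_dvd H
  have h1 := Nat.le_of_dvd (by norm_num) h
  have h2 : 0 < Nat.card π.ker := Nat.card_pos
  have h3 : Nat.card π.ker ≠ 3 := fun e => by rw [e] at h; exact absurd h (by norm_num)
  rcases (by omega : Nat.card π.ker = 1 ∨ Nat.card π.ker = 2 ∨ Nat.card π.ker = 4) with e | e | e
  · exact absurd hA (case_one H (card_eq_one.1 e))
  · exact case_two H e hA
  · exact absurd hA (case_four H e)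

omit H in
theorem row : Row 3 S8 :=
  ⟨row88_of_sit fun _ _ _ _ _ _ _ _ _ _ _ H _ hA => (main H hA).2,
    row89_of_sit fun _ _ _ _ _ _ _ _ _ _ _ H _ hA _ _ _ h => absurd (main H hA).1 h⟩

end Cfsg.Agent.TwoF.XS.O8p

namespace Cfsg.Agent.TwoF.XS

/-- **`Ω₈⁺(2)`, `p = 3`** -/
theorem o8p : O8p := fun F _ _ hF => by
  obtain ⟨e⟩ := H63.EightTwo.exists_equiv
  obtain ⟨e'⟩ := UGT.U2.Rec.Congr.nonempty_POmega (ZMod.ringEquivOfPrime F Nat.prime_two hF).symm
    (Q := quadFormPlus 4 F) (Q' := quadFormPlus 4 (ZMod 2)) fun v => by simp only [quadFormPlus, map_sum, map_mul, _root_.Function.comp_apply]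
  exact O8p.row.of_equiv (e'.trans e)

end Cfsg.Agent.TwoF.XS
end

private theorem dce_43e578da7357 : _root_.True := by
  try have : _root_.True := by simp only [_root_.Cfsg.Agent.TwoF.XS.O8p.chiF.eq_1]
  try have : _root_.True := by simp only [_root_.Cfsg.Agent.TwoF.XS.O8p.kw.eq_1]
  try have : _root_.True := by simp only [_root_.Cfsg.Agent.TwoF.XS.S62.wd.eq_1]
  try have : _root_.True := by simp only [_root_.Cfsg.Agent.TwoF.XS.O8p.sk.eq_1]
  try have : _root_.True := by simp only [_root_.Cfsg.Agent.TwoF.XS.O8p.Wt.eq_1]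
  try have : _root_.True := by simp only [_root_.Cfsg.Agent.TwoF.XS.O8p.Str.el.eq_1]
  try have : _root_.True := by simp only [_root_.Cfsg.Agent.TwoF.XS.S62.Dt.E.congr_simp]
  exact _root_.True.intro
end

-- part: H379/TD/Seven
section
prune_inst 0x4f1307d440d62100000000586d1003e26f2000000000b8000c8200f000480ec238502ae60bc001002182888040039016813540089c20000000a000400011d01a0108252023200a10c200096800882000000000000000000000000000000010004000000000
set_option linter.all false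
open scoped Cfsg.Agent.FastGrp

/-!
# The 7-elements and 13-elements of `³D₄(2)` on the natural module
-/

set_option autoImplicit false

namespace Cfsg.Agent.H379.TD

open Cfsg.Agent.TypeD4Two Module

/-- The property of 7-elements. -/
def Prop7 (w : M) : Prop := (∀ v, ap w v = v → v = 0) ∨
  (∀ u : M, Commute u w → ∀ m : ℕ, Nat.Coprime m 7 → u ^ m = 1 → u = 1)

theorem Prop7.conj {w : M} (h : Prop7 w) (g : M) : Prop7 (g * w * g⁻¹) := by
  rcases h with h | h
  · left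
    intro v hv
    have := congrArg (ap g⁻¹) hv
    rw [ap_mul, ap_mul, ap_inv_ap] at this
    have h3 := h _ this
    rw [← ap_ap_inv g v, h3, map_zero]
  · right
    intro u hu m hm hum
    have hc : Commute (g⁻¹ * u * g) w := by
      have := hu.eq
      unfold Commute SemiconjBy
      calc g⁻¹ * u * g * w = g⁻¹ * (u * (g * w * g⁻¹)) * g := by group
        _ = g⁻¹ * ((g * w * g⁻¹) * u) * g := by rw [this]
        _ = w * (g⁻¹ * u * g) := by group
    have h3 : g⁻¹ * u * g = MulAut.conj g⁻¹ u := by simp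
    have hp : (g⁻¹ * u * g) ^ m = 1 := by rw [h3, ← map_pow, hum, map_one]
    have h4 := h _ hc m hm hp
    have : u = g * (g⁻¹ * u * g) * g⁻¹ := by group
    rw [this, h4]
    group

theorem Prop7.of_pow {r : M} (h : Prop7 r) {j j' : ℕ} (hj : (r ^ j) ^ j' = r) : Prop7 (r ^ j) := by
  rcases h with h | h
  · left
    intro v hv
    apply h
    have := fix_pow hv j'
    rwa [hj] at this
  · right
    intro u hu m hm hum
    apply h u _ m hm hum
    have := hu.pow_right j'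
    rwa [hj] at this

/-- word of the second generator of the Sylow 7-subgroup -/
def wy2 : List ℕ := [3, 4, 2, 4, 2]
/-- first generator -/
def d : M := wm [0]
/-- second generator -/
def y2 : M := wm wy2

theorem d_pow : d ^ 7 = 1 := by rw [d, ← wm_wp]; exact wm_one (wv_of (by decide +kernel))
theorem y2_pow : y2 ^ 7 = 1 := by rw [y2, ← wm_wp]; exact wm_one (wv_of (by decide +kernel))
theorem d_y2 : Commute d y2 := by
  show d * y2 = y2 * d
  rw [d, y2, ← wm_append, ← wm_append]; exact wm_eq (wv_of2 (by decide +kernel))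

end Cfsg.Agent.H379.TD

private theorem dce_ca9f8724fae0 : _root_.True := by
  try have : _root_.True := by simp only [_root_.Cfsg.Agent.H379.TD.d.eq_1]
  try have : _root_.True := by simp only [_root_.Cfsg.Agent.H379.TD.y2.eq_1]
  exact _root_.True.intro
end

-- part: TwoF/XS/O73/Main
section
prune_inst 0x4c11018000962100000000514c0001e42920000020008800000e0030004804c600502a860a020000208a0800400310168134400808200000000000000011801a010004200b208a008000090000000000000000000000000000000000000000000000000000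
set_option linter.all false
open scoped Cfsg.Agent.FastGrp

-- part: TwoF/XS/O73/Tri
section
/-!
# TwoF / XS, `Ω₇(3)` in characteristic 2 (helper76): the bound for a pair of root elements, from the data `Dat`
-/

set_option autoImplicit false

namespace Cfsg.Agent.TwoF.XS.O73x

open Module Subgroup Cfsg.Agent.TwoF.Gen Cfsg.Agent.TwoF.XE Cfsg.Agent.TwoF.SpE Cfsg.Agent.Omega.TwoF.OLift

/-- central factors of order three do not matter -/
theorem tri_modify {Y : Type*} [Group Y] {c σ : Y} {z x y : Fin 3 → Y} (h : SpE.Tri c σ z x y) {k : Fin 3 → Y}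
    (hk : ∀ i g, Commute g (k i)) (h3 : ∀ i, k i ^ 3 = 1) : SpE.Tri c σ z (fun i => x i * k i) y :=
  { h with
    x3 := fun i => by rw [(hk i _).mul_pow, h.x3, h3, one_mul]
    zx := fun i j => Commute.mul_right (h.zx i j) (hk j _)
    xx := fun i j => Commute.mul_left (Commute.mul_right (h.xx i j) (hk j _)) (hk i _).symm
    xy := fun i j hij => Commute.mul_left (h.xy i j hij) (hk i _).symm
    conj := fun i => by
      calc y i * (x i * k i) * (y i)⁻¹ = y i * x i * (k i * (y i)⁻¹) := by group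
        _ = y i * x i * (y i)⁻¹ * k i := by rw [← (hk i _).eq]; group
        _ = x i * k i * z i := by rw [h.conj, mul_assoc, (hk i _).eq, mul_assoc] }

theorem pow_three_of_add {L F : Type*} [Group L] [Field F] (h3 : (3 : F) = 0) {f : F → L}
    (hf : ∀ s t, f (s + t) = f s * f t) (s : F) : f s ^ 3 = 1 := by
  have h0 : f 0 = 1 := by
    have := hf 0 0
    rw [add_zero] at this
    exact left_eq_mul.1 this
  have h1 : s + s + s = 0 := by linear_combination s * h3
  rw [pow_succ, pow_two, ← hf, ← hf, h1, h0]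

/-- the configuration in a cover -/
theorem tri_of_cov {L S F : Type*} [Group L] [Group S] [Field F] (h3 : (3 : F) = 0) {π : L →* S} {z : F → S}
    {x y : (Fin 3 → F) → S} {g : S} {γ : L} {X Y : (Fin 3 → F) → L} (c : Cov π z x y g γ X Y)
    (hk : ∀ k ∈ π.ker, k ^ 3 = 1) {σ : S} (hσ : σ * g = g * σ) (hx : ∀ p, σ * x p * σ⁻¹ = x (rot p))
    (hy : ∀ p, σ * y p * σ⁻¹ = y (rot p)) :
    ∃ χ T, SpE.Tri χ T (fun i => Cov.zi X Y i 1) (fun i => X (Pi.single i 1)) fun i => Y (Pi.single i 1) := by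
  obtain ⟨T, rfl⟩ := c.odd.surj σ
  have hT := c.zi_rot hσ hx hy
  have hχ : (Cov.zi X Y 0 1)⁻¹ * Cov.zi X Y 1 1 ∈ π.ker := by
    rw [MonoidHom.mem_ker, map_mul, map_inv, c.map_zi, c.map_zi, inv_mul_cancel]
  obtain ⟨χ, e⟩ : ∃ χ, χ = (Cov.zi X Y 0 1)⁻¹ * Cov.zi X Y 1 1 := ⟨_, rfl⟩
  rw [← e] at hχ
  have e1 : Cov.zi X Y 1 1 = Cov.zi X Y 0 1 * χ := by rw [e, mul_inv_cancel_left]
  refine ⟨χ, T, hk χ hχ, fun i => pow_three_of_add h3 (c.zi_add i) 1,
    fun i => pow_three_of_add h3 (f := fun s => X (Pi.single i s)) (fun s t => by rw [Pi.single_add, c.X_add]) 1,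
    fun l => (ker_comm c.odd hχ l).symm, fun i j => c.zi_comm i j 1 1, fun i j => c.comm_X (c.map_zi i 1) _,
    fun i j => c.comm_Y (c.map_zi i 1) _, fun i j => c.X_comm _ _, fun i j hij => ?_, fun i => ?_, e1, ?_, hT 0 1⟩
  · have h1 := c.bet_conj' (Pi.single i 1) (Pi.single j 1)
    rw [c.bet_off hij, mul_one] at h1
    exact (mul_inv_eq_iff_eq_mul.1 h1).symm
  · exact c.bet_conj' _ _
  · have h1 : T * Cov.zi X Y 1 1 * T⁻¹ = Cov.zi X Y 2 1 := hT 1 1
    have h0 : T * Cov.zi X Y 0 1 * T⁻¹ = Cov.zi X Y 1 1 := hT 0 1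
    show Cov.zi X Y 2 1 = Cov.zi X Y 0 1 * χ ^ 2
    rw [← h1, pow_two, ← mul_assoc, ← e1]
    conv_lhs => rw [e1]
    conv_rhs => rw [← h0]
    rw [← mul_assoc, mul_assoc _ χ, ← ker_comm c.odd hχ T⁻¹, ← mul_assoc]

/-- **the bound for a pair** -/
theorem lo_of_dat {S : Type} [Group S] (hS : center S = ⊥) (hZ : Zc 2 S 6) {F : Type*} [Field F] (h3 : (3 : F) = 0)
    {z : F → S} {x y : (Fin 3 → F) → S} {g σ : S} (d : Dat z x y g) (hz : z 1 ≠ 1) (hσ : σ * g = g * σ)
    (hx : ∀ p, σ * x p * σ⁻¹ = x (rot p)) (hy : ∀ p, σ * y p * σ⁻¹ = y (rot p)) :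
    Lo 2 (zpowers (MulAut.conj (x (Pi.single 1 1))) ⊔ zpowers (MulAut.conj (x (Pi.single 2 1)))) 40 := by
  intro Y _ _ V _ _ _ K ρ π φ H A hA
  have hc : ¬ 2 ∣ Nat.card π.ker := by
    rw [H.ker_π]
    exact H.cop
  have hk : ∀ k ∈ π.ker, k ^ 3 = 1 := fun k hk => by
    have h1 := hZ K π (H.toFrm.stem H.toStp.perfect) hc
    have h2 : Nat.card π.ker ∣ 3 :=
      (Nat.Coprime.symm ((Nat.Prime.coprime_iff_not_dvd Nat.prime_two).2 hc)).dvd_of_dvd_mul_left h1
    exact orderOf_dvd_iff_pow_eq_one.1 ((Subgroup.orderOf_dvd_natCard _ hk).trans h2)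
  obtain ⟨γ, X, Y', c⟩ := d.exists_cov (π := π)
    ⟨H.toStp.perfect.commutator_eq_top, H.surj, H.ker_π.le, Nat.odd_iff.2 (Nat.two_dvd_ne_zero.1 hc)⟩
  obtain ⟨χ, T, t⟩ := tri_of_cov h3 c hk hσ hx hy
  have key : ∀ p, MulAut.conj (x p) ∈ A.map φ → ∃ k ∈ π.ker, ((X p * k : K) : Y) ∈ A := by
    rintro p ⟨u, hu, e⟩
    have h1 : u ∈ K := H.toFrm.mem_inn_iff.1 ⟨_, e.symm⟩
    have h2 : π ⟨u, h1⟩ = x p := by
      have h2 := (H.toFrm.φ_coe ⟨u, h1⟩).symm.trans e
      rwa [← mul_inv_eq_one, ← map_inv, ← map_mul, conj_eq_one_iff hS, mul_inv_eq_one] at h2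
    refine ⟨(X p)⁻¹ * ⟨u, h1⟩, ?_, by rwa [mul_inv_cancel_left]⟩
    rw [MonoidHom.mem_ker, map_mul, map_inv, c.liftX.map, h2, inv_mul_cancel]
  obtain ⟨k1, m1, a1⟩ := key _ (hA (mem_sup_left (mem_zpowers _)))
  obtain ⟨k2, m2, a2⟩ := key _ (hA (mem_sup_right (mem_zpowers _)))
  have hm : ∀ i, (![1, k1, k2] : Fin 3 → K) i ∈ π.ker := fun i => by
    fin_cases i
    exacts [one_mem _, m1, m2]
  have t' := tri_modify t (fun i g => ker_comm c.odd (hm i) g) fun i => hk _ (hm i)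
  have h1 := (t'.bound (ρ := ρ.comp K.subtype) (H.faithful.comp Subtype.val_injective) fun e => hz (by
    rw [← c.map_zi 0 1, show Cov.zi X Y' 0 1 = 1 from e, map_one])).2.1
  have h2 := le_cod_add (ρ := ρ.comp K.subtype) (B := A.subgroupOf K)
    (l := [X (Pi.single 1 1) * k1, X (Pi.single 2 1) * k2]) fun g hg => by
      rcases List.mem_cons.1 hg with rfl | hg
      · exact a1
      · rw [List.mem_singleton.1 hg]
        exact a2
  have h4 : cod (ρ.comp K.subtype : Representation (ZMod 2) K V) (A.subgroupOf K) ≤ cod ρ A := by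
    rw [cod_comp]
    exact cod_mono (map_le_iff_le_comap.2 le_rfl)
  change 40 + dl (ρ.comp K.subtype : Representation (ZMod 2) K V)
    [X (Pi.single 1 1) * k1, X (Pi.single 2 1) * k2] ≤ _ at h1
  omega

end Cfsg.Agent.TwoF.XS.O73x
end

-- part: TwoF/XS/O73/Aut
section
/-!
# TwoF / XS, `Ω₇(3)` in characteristic 2 (helper76): the automorphisms are induced by isometries; rank at most six
-/

set_option autoImplicit false
set_option linter.unusedSectionVars false

namespace Cfsg.Agent.TwoF.XS.O73x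

open Module Subgroup QuadraticMap Matrix Cfsg.Agent.TwoF.XE
open Cfsg.Agent.ClassicalGeometry.Reflection
open Cfsg.Agent.ClassicalGeometry.GenReflections (act act_apply act_mul act_one act_isometry act_polar act_ext
  act_reflIso act_inv_eq)

variable {ι : Type} [Fintype ι] [DecidableEq ι] {F : Type} [Field F] [Finite F] {Q : QuadraticForm F (ι → F)}

/-- the standing hypotheses -/
structure St (Q : QuadraticForm F (ι → F)) : Prop where
  hF : Nat.card F = 3
  nd : (polarBilin Q).Nondegenerate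
  h7 : Fintype.card ι = 7
  zc : Zc 2 (Omega F ⇑Q) 6
  aut : Nat.card (MulAut (Omega F ⇑Q)) = 2 * Nat.card (Omega F ⇑Q)

/-- conjugation -/
def cj (Q : QuadraticForm F (ι → F)) : isometryGroup F ⇑Q →* MulAut (Omega F ⇑Q) := MulAut.conjNormal

theorem coe_cj (M : isometryGroup F ⇑Q) (g : Omega F ⇑Q) : (cj Q M g : isometryGroup F ⇑Q) = M * g * M⁻¹ := rfl

/-- the determinant -/
def dt (Q : QuadraticForm F (ι → F)) : isometryGroup F ⇑Q →* F :=
  Matrix.detMonoidHom.comp ((Units.coeHom _).comp (isometryGroup F ⇑Q).subtype)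

theorem dt_refl {v : ι → F} (hv : Q v ≠ 0) : dt Q (reflIso Q v hv) = -1 := det_reflIso Q v hv

theorem cj_eq_one {M : isometryGroup F ⇑Q} {c : F} (h : ∀ x, act Q M x = c • x) : cj Q M = 1 :=
  MulEquiv.ext fun g => Subtype.ext ((coe_cj M g).trans (mul_inv_eq_of_eq_mul (act_ext Q _ _ fun x => by
    rw [act_mul, h, MulAut.one_apply, act_mul, h, map_smul])))

theorem cj_eq {M N : isometryGroup F ⇑Q} {c : F} (h : ∀ x, act Q M x = c • act Q N x) : cj Q M = cj Q N := by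
  rw [← inv_mul_eq_one, ← map_inv, ← map_mul]
  have h1 : cj Q (N⁻¹ * M) = 1 := cj_eq_one (c := c) fun x => by
    rw [act_mul, h, map_smul, act_inv_eq Q N x _ rfl]
  rw [← inv_eq_one, ← map_inv, _root_.mul_inv_rev, inv_inv, h1]

theorem sq_eq_one (hF : Nat.card F = 3) {a : F} (ha : a ≠ 0) : a * a = 1 := by
  have := Fintype.ofFinite F
  have h := FiniteField.pow_card_sub_one_eq_one a ha
  rwa [← Nat.card_eq_fintype_card, hF, pow_two] at h

theorem three_eq (hF : Nat.card F = 3) : (3 : F) = 0 := by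
  have := Fintype.ofFinite F
  have h := FiniteField.cast_card_eq_zero F
  rwa [← Nat.card_eq_fintype_card, hF, Nat.cast_ofNat] at h

theorem two_ne (hF : Nat.card F = 3) : (2 : F) ≠ 0 := fun h =>
  one_ne_zero (α := F) (by linear_combination three_eq hF - h)

theorem sing (hF : Nat.card F = 3) (h7 : Fintype.card ι = 7) (Q : QuadraticForm F (ι → F)) :
    ∃ u : ι → F, u ≠ 0 ∧ Q u = 0 :=
  ClassicalGeometry.SiegelGen.exists_singular (two_ne hF) Q (by rw [finrank_fintype_fun_eq_card, h7]; norm_num)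

theorem dt_neg (h7 : Fintype.card ι = 7) {M : isometryGroup F ⇑Q}
    (h : ((M : GL ι F) : Matrix ι ι F) = -1) : dt Q M = -1 := by
  show ((M : GL ι F) : Matrix ι ι F).det = -1
  rw [h, det_neg, det_one, h7]
  norm_num

theorem center_eq_bot (hF : Nat.card F = 3) (nd : (polarBilin Q).Nondegenerate) (h7 : Fintype.card ι = 7) :
    center (Omega F ⇑Q) = ⊥ :=
  card_eq_one.1 (LieClassical.OrthCenter.card_center_omega_of_not_mem nd (by omega) (sing hF h7 Q) fun g hg e =>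
    two_ne hF (by linear_combination (LieClassical.OrthCenter.det_of_mem_omega g hg).symm.trans (dt_neg h7 e)))

namespace St

variable (h : St Q)
include h

theorem h2 : (2 : F) ≠ 0 := two_ne h.hF

theorem h3 : (3 : F) = 0 := three_eq h.hF

theorem cen : center (Omega F ⇑Q) = ⊥ := center_eq_bot h.hF h.nd h.h7

theorem of_cj {M : isometryGroup F ⇑Q} (e : cj Q M = 1) :
    ((M : GL ι F) : Matrix ι ι F) = 1 ∨ ((M : GL ι F) : Matrix ι ι F) = -1 :=
  LieClassical.OrthCenter.eq_one_or_neg_one_of_commute_omega h.nd (by rw [h.h7]; norm_num) (sing h.hF h.h7 Q) M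
    fun g hg => mul_inv_eq_iff_eq_mul.1 ((coe_cj M ⟨g, hg⟩).symm.trans (by rw [e, MulAut.one_apply]))

theorem eq_one {M : isometryGroup F ⇑Q} (e : cj Q M = 1) (hd : dt Q M = 1) : M = 1 :=
  (h.of_cj e).elim (fun e => Subtype.ext (Units.ext e)) fun e =>
    absurd (by linear_combination hd.symm.trans (dt_neg h.h7 e)) h.h2

theorem mul_self {M : isometryGroup F ⇑Q} (e : cj Q M * cj Q M = 1) : M * M = 1 :=
  h.eq_one (by rw [map_mul, e]) (by
    rw [map_mul]
    exact sq_eq_one h.hF ((Group.isUnit M).map (dt Q)).ne_zero)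

theorem surj : Function.Surjective (cj Q) := by
  classical
  have h1 : Nat.card (cj Q).ker ≤ 2 := by
    have h1 := Nat.card_le_card_of_injective
      (fun M : (cj Q).ker => decide ((((M : isometryGroup F ⇑Q) : GL ι F) : Matrix ι ι F) = 1)) fun M N e => by
        have e' := decide_eq_decide.1 e
        refine Subtype.ext (Subtype.ext (Units.ext ?_))
        by_cases hM : (((M : isometryGroup F ⇑Q) : GL ι F) : Matrix ι ι F) = 1
        · rw [hM, e'.1 hM]
        · rw [(h.of_cj M.2).resolve_left hM, (h.of_cj N.2).resolve_left (mt e'.2 hM)]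
    rwa [Nat.card_eq_fintype_card (α := Bool), Fintype.card_bool] at h1
  have h2 := card_mul_index (cj Q).ker
  have h3 := card_mul_index (Omega F ⇑Q)
  rw [ClassicalGeometry.OmegaIndex.index_Omega h.h2 (by rw [h.h7]; norm_num) Q h.nd] at h3
  rw [index_ker] at h2
  have h4 := Nat.mul_le_mul_right (Nat.card (cj Q).range) h1
  rw [← MonoidHom.range_eq_top]
  exact eq_top_of_le_card _ (by rw [h.aut]; omega)

theorem rank {E : Subgroup (MulAut (Omega F ⇑Q))} (hE : ∀ a ∈ E, a * a = 1) : Nat.card E ≤ 2 ^ 6 := by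
  choose M hM using h.surj
  refine Omega.TwoF.RkLin.card_le_matrix h.h2 h.h7 (by norm_num) (fun a : E => (M a : GL ι F)) (fun a b => ?_)
    (fun a => Subtype.ext (hE a a.2)) ?_
  · have h1 : cj Q (M a * M b * (M (a * b : E))⁻¹) = 1 := by
      simp only [map_mul, map_mul, map_inv, hM, hM, hM, coe_mul, mul_inv_cancel]
    have h2 : ((M a : GL ι F) : Matrix ι ι F) * (M b : GL ι F) =
        ((M a * M b * (M (a * b : E))⁻¹ : isometryGroup F ⇑Q) : GL ι F) * (M (a * b : E) : GL ι F) := by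
      simp only [← Units.val_mul, ← Units.val_mul, ← coe_mul, ← coe_mul, inv_mul_cancel_right]
    (have h_ob := h.of_cj h1
     revert h_ob; rintro (e | e))
    · exact ⟨1, by simp only [h2, e, one_mul, one_smul]⟩
    · exact ⟨-1, by simp only [h2, e, neg_one_mul, neg_one_smul]⟩
  · rintro a ⟨c, hc⟩
    refine Subtype.ext ((hM a).symm.trans (cj_eq_one (c := c) fun x => ?_))
    rw [act_apply, hc, smul_mulVec, one_mulVec]

/-- three reflections -/
theorem three_refl {u v w : ι → F} (hu : Q u ≠ 0) (hv : Q v ≠ 0) (hw : Q w ≠ 0) :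
    cj Q (reflIso Q u hu) * cj Q (reflIso Q v hv) ≠ cj Q (reflIso Q w hw) := by
  intro e
  (rewrite [← mul_inv_eq_one] at e; simp only [← map_inv] at e; simp only [reflIso_inv] at e; (conv at e => enter [@2, @5]; rw [← map_mul]); rewrite [← map_mul] at e)
  rcases h.of_cj e with e | e
  · have h1 : dt Q (reflIso Q u hu * reflIso Q v hv * reflIso Q w hw) = 1 := by
      rw [show reflIso Q u hu * reflIso Q v hv * reflIso Q w hw = 1 from Subtype.ext (Units.ext e), map_one]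
    rw [map_mul, map_mul, dt_refl, dt_refl, dt_refl] at h1
    exact h.h2 (by linear_combination -h1)
  · let L : (ι → F) →ₗ[F] (Fin 3 → F) := LinearMap.pi ![polarBilin Q u, polarBilin Q v, polarBilin Q w]
    obtain ⟨x, hx, x0⟩ := (Submodule.ne_bot_iff _).1 (LinearMap.ker_ne_bot_of_finrank_lt (f := L) (by
      rw [finrank_fintype_fun_eq_card, finrank_fintype_fun_eq_card, h.h7, Fintype.card_fin]
      norm_num))
    have h1 := act_apply Q (reflIso Q u hu * reflIso Q v hv * reflIso Q w hw) x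
    rw [e, act_mul, act_mul, Omega.TwoF.OrthEl.refl_fix hw (congrFun hx 2),
      Omega.TwoF.OrthEl.refl_fix hv (congrFun hx 1), Omega.TwoF.OrthEl.refl_fix hu (congrFun hx 0), neg_mulVec,
      one_mulVec, eq_neg_iff_add_eq_zero, ← two_smul F, smul_eq_zero] at h1
    exact h1.elim h.h2 x0

end St

end Cfsg.Agent.TwoF.XS.O73x
end

-- part: TwoF/XS/O73/Plane
section
/-!
# TwoF / XS, `Ω₇(3)` in characteristic 2 (helper76): pairs of Eichler transformations `E(e, w)`, `E(e, w')`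
-/

set_option autoImplicit false
set_option linter.unusedSectionVars false

namespace Cfsg.Agent.TwoF.XS.O73x

open Module Subgroup QuadraticMap Cfsg.Agent.TwoF.XE Cfsg.Agent.Omega.TwoF.OrthEl
open Cfsg.Agent.ClassicalGeometry.Reflection
open Cfsg.Agent.ClassicalGeometry.GenReflections (act act_apply act_mul act_one act_isometry act_polar act_ext
  act_reflIso act_inv_eq)

section calc_

variable {p : ℕ} [Fact p.Prime] {S : Type} [Group S] {x y : S} {α : MulAut S} {n c : ℕ}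

theorem li_of_pair {g : S} (h : Lo p (zpowers (MulAut.conj x) ⊔ zpowers (MulAut.conj y)) n) (e : g * x * g⁻¹ = y)
    (hc : 2 * (c - 1) < n) : Li p x c := by
  classical
  refine Lo.of_gen {1, g} (h.mono (sup_le (zpowers_le.2 ?_) (zpowers_le.2 ?_)))
    ((Nat.mul_le_mul_right _ Finset.card_le_two).trans_lt hc)
  · exact mem_iSup_of_mem 1 (mem_iSup_of_mem (by simp) ⟨_, mem_zpowers _, by simp only [_root_.map_one, _root_.MulEquiv.toMonoidHom_eq_coe, _root_.MonoidHom.coe_coe, _root_.MulAut.one_apply]⟩)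
  · exact mem_iSup_of_mem g (mem_iSup_of_mem (by simp) ⟨_, mem_zpowers _, by simp only [← e, _root_.MulEquiv.toMonoidHom_eq_coe, _root_.MonoidHom.coe_coe, _root_.MulAut.conj_apply, _root_.map_mul, _root_.map_inv]⟩)

theorem le_of_pair (h : Lo p (zpowers (MulAut.conj x) ⊔ zpowers (MulAut.conj y)) n) (hx : α x * x⁻¹ = x)
    (hy : α y * y⁻¹ = y) (hc : 3 * (c - 1) < n) : Le p α c := by
  classical
  have key : ∀ g ∈ ({1, x, y} : Finset S), α g * g⁻¹ = g → MulAut.conj g ∈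
      ⨆ g ∈ ({1, x, y} : Finset S), (zpowers α).map (MulAut.conj (MulAut.conj g)).toMonoidHom := fun g hg e => by
    have h1 : MulAut.conj g = α * (MulAut.conj g * α * (MulAut.conj g)⁻¹)⁻¹ := by
      conv_lhs => rw [← e, map_mul, conj_apply, map_inv]
      group
    rw [h1]
    exact mul_mem (mem_iSup_of_mem 1 (mem_iSup_of_mem (by simp) ⟨_, mem_zpowers _, by simp only [_root_.map_one, _root_.MulEquiv.toMonoidHom_eq_coe, _root_.MonoidHom.coe_coe, _root_.MulAut.one_apply]⟩))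
      (inv_mem (mem_iSup_of_mem g (mem_iSup_of_mem hg ⟨_, mem_zpowers _, rfl⟩)))
  exact Lo.of_gen {1, x, y} (h.mono (sup_le (zpowers_le.2 (key x (by simp) hx)) (zpowers_le.2 (key y (by simp) hy))))
    ((Nat.mul_le_mul_right _ Finset.card_le_three).trans_lt hc)

end calc_

variable {ι : Type} [Fintype ι] [DecidableEq ι] {F : Type} [Field F] [Finite F] {Q : QuadraticForm F (ι → F)}

/-- a singular vector and two orthogonal vectors of the same norm -/
structure Pl (Q : QuadraticForm F (ι → F)) (e w w' : ι → F) : Prop where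
  e0 : e ≠ 0
  qe : Q e = 0
  ew : polar Q e w = 0
  ew' : polar Q e w' = 0
  ww : polar Q w w' = 0
  qw : Q w ≠ 0
  qq : Q w' = Q w

variable {e w w' : ι → F}

theorem Pl.indep (P : Pl Q e w w') (h2 : (2 : F) ≠ 0) : LinearIndependent F ![e, w, w'] := by
  rw [Fintype.linearIndependent_iff]
  intro g hg
  rw [Fin.sum_univ_three] at hg
  change g 0 • e + g 1 • w + g 2 • w' = 0 at hg
  have h1 := congrArg (polar Q w) hg
  have h3 := congrArg (polar Q w') hg
  simp only [polar_add_right, polar_smul_right, polar_self', polar_zero_right, polar_comm Q w e, polar_comm Q w' e,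
    polar_comm Q w' w, P.ew, P.ew', P.ww, P.qq, smul_eq_mul, mul_zero, zero_add, add_zero, mul_eq_zero, h2, P.qw,
    or_false] at h1 h3
  rw [h1, h3, zero_smul, zero_smul, add_zero, add_zero, smul_eq_zero] at hg
  intro i
  fin_cases i
  exacts [hg.resolve_right P.e0, h1, h3]

theorem Pl.q_add (P : Pl Q e w w') : Q (w + w') = 2 * Q w := by
  rw [map_add', P.ww, P.qq]
  ring

theorem Pl.rot (P : Pl Q e w w') (h2 : (2 : F) ≠ 0) : Pl Q e (w + w') (w - w') where
  e0 := P.e0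
  qe := P.qe
  ew := by rw [polar_add_right, P.ew, P.ew', add_zero]
  ew' := by rw [polar_sub_right, P.ew, P.ew', sub_zero]
  ww := by
    rw [polar_add_left, polar_sub_right, polar_sub_right, polar_self', polar_self', polar_comm Q w' w, P.ww, P.qq]
    ring
  qw := by rw [P.q_add]; exact mul_ne_zero h2 P.qw
  qq := by
    rw [P.q_add, sub_eq_add_neg, map_add', QuadraticMap.map_neg, polar_neg_right, P.ww, P.qq]
    ring

theorem frame_map {f e' f' : ι → F} {b : Fin 3 → ι → F} (H : Frame Q e f e' f' b) (g : (ι → F) ≃ₗ[F] (ι → F))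
    (hg : ∀ v, Q (g v) = Q v) : Frame Q (g e) (g f) (g e') (g f') fun i => g (b i) := by
  have hp : ∀ u v, polar Q (g u) (g v) = polar Q u v := fun u v => by rw [polar, polar, ← map_add, hg, hg, hg]
  exact ⟨⟨(hg _).trans H.hyp.qe, (hg _).trans H.hyp.qf, (hp _ _).trans H.hyp.ef⟩,
    ⟨(hg _).trans H.hyp'.qe, (hg _).trans H.hyp'.qf, (hp _ _).trans H.hyp'.ef⟩, (hp _ _).trans H.o1,
    (hp _ _).trans H.o2, (hp _ _).trans H.o3, (hp _ _).trans H.o4, fun i => (hp _ _).trans (H.eb i),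
    fun i => (hp _ _).trans (H.fb i), fun i => (hp _ _).trans (H.eb' i), fun i => (hp _ _).trans (H.fb' i),
    fun i j hij => (hp _ _).trans (H.orth i j hij), fun i => (hg _).trans_ne (H.nz i)⟩

namespace St

variable (h : St Q)

/-- the Eichler transformation in `Ω` -/
noncomputable def el (u v : ι → F) : Omega F ⇑Q := ⟨E Q u v, E_mem h.h2 h.nd u v⟩

theorem el_add {u v v' : ι → F} (hu : Q u = 0) (hv : polar Q u v = 0) (hv' : polar Q u v' = 0) :
    h.el u (v + v') = h.el u v * h.el u v' := Subtype.ext (E_add hu hv hv').symm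

theorem el_neg {u v : ι → F} (hu : Q u = 0) (hv : polar Q u v = 0) : h.el u (-v) = (h.el u v)⁻¹ :=
  (eq_inv_of_mul_eq_one_left (by
    rw [← h.el_add hu (by rw [polar_neg_right, hv, neg_zero]) hv, neg_add_cancel]
    exact Subtype.ext (E_zero u)) :)

theorem cj_el (M : isometryGroup F ⇑Q) (u v : ι → F) : cj Q M (h.el u v) = h.el (act Q M u) (act Q M v) :=
  Subtype.ext ((coe_cj M _).trans (E_conj M u v))

theorem cj_comm {M : isometryGroup F ⇑Q} {u v : ι → F} {c : F} (hc : c * c = 1) (hu : Q u = 0) (hv : polar Q u v = 0)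
    (e1 : act Q M u = c • u) (e2 : act Q M v = -c • v) : cj Q M (h.el u v) * (h.el u v)⁻¹ = h.el u v := by
  have h1 : polar Q u (-v) = 0 := by rw [polar_neg_right, hv, neg_zero]
  have h2 : h.el (c • u) (-c • v) = h.el u (-v) := Subtype.ext (by
    show E Q _ _ = E Q _ _
    rw [E_smul hu (by rw [polar_smul_right, hv, smul_zero]), smul_smul, mul_neg, hc, neg_one_smul])
  rw [cj_el, e1, e2, h2, ← h.el_neg hu hv, ← h.el_add hu h1 h1]
  congr 1
  have h3 : -v + -v = v - (3 : F) • v := by module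
  rw [h3, h.h3, zero_smul, sub_zero]

theorem lo_frame {f e' f' : ι → F} {b : Fin 3 → ι → F} (H : Frame Q e f e' f' b) (hb : ∀ i, Q (b i) = Q (b 0)) :
    Lo 2 (zpowers (MulAut.conj (h.el e (b 1))) ⊔ zpowers (MulAut.conj (h.el e (b 2)))) 40 := by
  have : Fact (Nat.Prime 3) := ⟨Nat.prime_three⟩
  have : CharP F 3 := (CharP.charP_iff_prime_eq_zero Nat.prime_three).2 (by exact_mod_cast h.h3)
  have d := H.dat h.h2 h.nd 3 fun i j hij => by
    obtain ⟨k, hki, hkj⟩ : ∃ k : Fin 3, k ≠ i ∧ k ≠ j := by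
      revert i j
      decide
    refine ⟨Pi.single k 1, Pi.single_eq_of_ne hki.symm _, Pi.single_eq_of_ne hkj.symm _, ?_, ?_⟩
    · rw [Frame.vec_one]
      exact H.nz k
    · rw [Frame.vec_one, hb i, hb k]
      exact ⟨_, rfl⟩
  (have h_ob := H.exists_rot h.h2 h.nd hb
   revert h_ob; rintro (⟨σ, h1, h2, h3⟩))
  have h4 := lo_of_dat h.cen h.zc h.h3 d (fun e => H.z_not_central h.h2 h.nd 0 one_ne_zero (e ▸ one_mem _)) h1 h2 h3
  have h5 : ∀ i, H.xO h.h2 h.nd (Pi.single i 1) = h.el e (b i) := fun i =>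
    Subtype.ext (congrArg (E Q e) (Frame.vec_one b i))
  ((conv at h4 => enter [@5, @3, @3, @6]; rw [h5]); (conv at h4 => enter [@5, @4, @3, @6]; rw [h5]); assumption)

include h in
theorem exists_frame : ∃ (e f e' f' : ι → F) (b : Fin 3 → ι → F), Frame Q e f e' f' b ∧ ∀ i, Q (b i) = Q (b 0) := by
  obtain ⟨m, e, f, e', f', b, H, hm⟩ := exists_frame_aux h.h2 Q h.nd (by rw [h.h7]; norm_num)
  rw [h.h7] at hm
  obtain ⟨c, H', hc⟩ := exists_frame_three h.h2 (H.comp (Fin.castLE_injective (show 3 ≤ m by omega)))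
  refine ⟨e, f, e', f', c, H', fun i => ?_⟩
  obtain ⟨t, ht⟩ := hc i 0
  have h1 : t ≠ 0 := by
    rintro rfl
    exact mul_ne_zero (H'.nz i) (H'.nz 0) (ht.trans (mul_zero _))
  exact mul_right_cancel₀ (H'.nz 0) (ht.trans ((sq_eq_one h.hF h1).trans (sq_eq_one h.hF (H'.nz 0)).symm))

/-- **the bound for a plane** -/
theorem lo_pl (P : Pl Q e w w') :
    Lo 2 (zpowers (MulAut.conj (h.el e w)) ⊔ zpowers (MulAut.conj (h.el e w'))) 40 := by
  (have h_ob := h.exists_frame; revert h_ob; rintro (⟨e₀, f, e', f', b, H, hb⟩))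
  have P₀ : Pl Q e₀ (b 1) (b 2) := ⟨fun e => zero_ne_one (by rw [← H.hyp.ef, e, polar_zero_left]), H.hyp.qe, H.eb 1,
    H.eb 2, H.orth 1 2 (by decide), H.nz 1, (hb 2).trans (hb 1).symm⟩
  have key : ∀ w w', Pl Q e w w' → Q w = Q (b 1) →
      Lo 2 (zpowers (MulAut.conj (h.el e w)) ⊔ zpowers (MulAut.conj (h.el e w'))) 40 := fun w w' P hw => by
    (have h_ob := ClassicalGeometry.WittQuad.extend_family Q h.nd 3 _ _ (P₀.indep h.h2) (P.indep h.h2)
      (fun i => by
        fin_cases i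
        exacts [P₀.qe.trans P.qe.symm, hw.symm, P₀.qq.trans (hw.symm.trans P.qq.symm)])
      fun i j => by
        fin_cases i <;> fin_cases j <;>
          simp [polar_comm Q w e, polar_comm Q w' e, polar_comm Q w' w, polar_comm Q (b 1) e₀,
            polar_comm Q (b 2) e₀, polar_comm Q (b 2) (b 1), P.qe, P.ew, P.ew', P.ww, P.qq, P₀.qe, P₀.ew, P₀.ew', P₀.ww,
            P₀.qq, hw]
     revert h_ob; rintro (⟨g, hg, hx⟩))
    have h1 := h.lo_frame (frame_map H g hg) fun i => by rw [hg, hg, hb]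
    rwa [show g e₀ = e from hx 0, show g (b 1) = w from hx 1, show g (b 2) = w' from hx 2] at h1
  by_cases hw : Q w = Q (b 1)
  · exact key w w' P hw
  · have h1 : Q (w + w') = Q (b 1) := by
      have h1 := sq_eq_one h.hF P.qw
      have h2 := sq_eq_one h.hF P₀.qw
      have h3 : (Q w - Q (b 1)) * (Q w + Q (b 1)) = 0 := by linear_combination h1 - h2
      rw [P.q_add]
      linear_combination Q w * h.h3 - (mul_eq_zero.1 h3).resolve_left (sub_ne_zero.2 hw)
    refine (key _ _ (P.rot h.h2) h1).mono (sup_le (zpowers_le.2 ?_) (zpowers_le.2 ?_))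
    · rw [h.el_add P.qe P.ew P.ew', _root_.MonoidHom.map_mul]
      exact mul_mem (mem_sup_left (mem_zpowers _)) (mem_sup_right (mem_zpowers _))
    · rw [sub_eq_add_neg, h.el_add P.qe P.ew (by rw [polar_neg_right, P.ew', neg_zero]), h.el_neg P.qe P.ew', _root_.MonoidHom.map_mul,
        _root_.MonoidHom.map_inv]
      exact mul_mem (mem_sup_left (mem_zpowers _)) (inv_mem (mem_sup_right (mem_zpowers _)))

include h

/-- an isometry that inverts the plane -/
theorem le_pl (P : Pl Q e w w') {M : isometryGroup F ⇑Q} {c : F} (hc : c * c = 1) (e1 : act Q M e = c • e)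
    (e2 : act Q M w = -c • w) (e3 : act Q M w' = -c • w') : Le 2 (cj Q M) 14 :=
  le_of_pair (h.lo_pl P) (h.cj_comm hc P.qe P.ew e1 e2) (h.cj_comm hc P.qe P.ew' e1 e3) (by norm_num)

/-- an isometry that inverts one element -/
theorem le_one (P : Pl Q e w w') {v : ι → F} (ve : polar Q v e = 0) (vw : polar Q v w = 0)
    (qv : Q v = -Q w) {M : isometryGroup F ⇑Q} {c : F} (hc : c * c = 1) (e1 : act Q M e = c • e)
    (e2 : act Q M w = -c • w) : Le 2 (cj Q M) 10 := by
  obtain ⟨n1, q1, s1, -⟩ := refl_swap h.h2 P.qw P.qq.symm P.ww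
  have n2 : Q v ≠ 0 := by
    rw [qv]
    exact neg_ne_zero.2 P.qw
  have m := refl_mul_mem h.h2 h.nd n1 n2 ⟨Q w, by rw [q1, qv]; linear_combination (-(Q w * Q w)) * h.h3⟩
  refine Le.comm (h.el e w) (n := 20) ?_ (by norm_num)
  rw [h.cj_comm hc P.qe P.ew e1 e2]
  refine li_of_pair (h.lo_pl P) (g := ⟨_, m⟩) (Subtype.ext ((E_conj _ e w).trans ?_)) (by norm_num)
  rw [act_mul, act_mul, refl_fix n2 ve, refl_fix n2 vw, s1,
    refl_fix n1 (by rw [polar_comm, polar_sub_right, P.ew, P.ew', sub_zero])]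
  rfl

end St

end Cfsg.Agent.TwoF.XS.O73x
end

-- part: TwoF/XS/O73/Main
section
/-!
# TwoF / XS, `Ω₇(3)` in characteristic 2 (helper76): involutions of the isometry group; no offenders; `o73`
-/

set_option autoImplicit false
set_option linter.unusedSectionVars false

namespace Cfsg.Agent.TwoF.XS.O73x

open Module Subgroup QuadraticMap Cfsg.Agent.TwoF.Gen Cfsg.Agent.TwoF.XE Cfsg.Agent.Omega.TwoF.OrthEl
open Cfsg.Agent.ClassicalGeometry.Reflection
open Cfsg.Agent.ClassicalGeometry.GenReflections (act act_apply act_mul act_one act_isometry act_polar act_ext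
  act_reflIso act_inv_eq)
open Cfsg.Agent.H926 (NdOn cut mem_cut ndOn_cut finrank_cut split)

variable {ι : Type} [Fintype ι] [DecidableEq ι] {F : Type} [Field F] [Finite F] {Q : QuadraticForm F (ι → F)}
  {U W : Submodule F (ι → F)}

/-- an orthogonal decomposition -/
structure Dec (Q : QuadraticForm F (ι → F)) (U W : Submodule F (ι → F)) : Prop where
  sum : ∀ v, ∃ u ∈ U, ∃ w ∈ W, v = u + w
  orth : ∀ u ∈ U, ∀ w ∈ W, polar Q u w = 0

theorem Dec.symm (D : Dec Q U W) : Dec Q W U :=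
  ⟨fun v => by
    obtain ⟨u, hu, w, hw, e⟩ := D.sum v
    exact ⟨w, hw, u, hu, e.trans (add_comm _ _)⟩, fun w hw u hu => (polar_comm _ _ _).trans (D.orth u hu w hw)⟩

theorem Dec.ndOn (D : Dec Q U W) (nd : (polarBilin Q).Nondegenerate) : NdOn Q U := fun u hu u0 => by
  by_contra hc
  refine u0 (nd.1 u fun v => ?_)
  obtain ⟨a, ha, w, hw, rfl⟩ := D.sum v
  rw [polarBilin_apply_apply, polar_add_right, D.orth u hu w hw, add_zero]
  exact of_not_not fun e => hc ⟨a, ha, e⟩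

theorem Dec.finrank_add (D : Dec Q U W) (nd : (polarBilin Q).Nondegenerate) :
    finrank F U + finrank F W = Fintype.card ι := by
  have h1 : U ⊓ W = ⊥ := eq_bot_iff.2 fun v hv => by
    by_contra v0
    obtain ⟨x, hx, e⟩ := D.ndOn nd v hv.1 v0
    exact e (D.symm.orth v hv.2 x hx)
  have h2 : U ⊔ W = ⊤ := eq_top_iff.2 fun v _ => by
    obtain ⟨u, hu, w, hw, rfl⟩ := D.sum v
    exact Submodule.add_mem_sup hu hw
  rw [← Submodule.finrank_sup_add_finrank_inf_eq, h1, h2, finrank_bot, finrank_top, finrank_fintype_fun_eq_card,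
    add_zero]

theorem exists_nonsing (hW : NdOn Q W) (h1 : 1 ≤ finrank F W) : ∃ w ∈ W, Q w ≠ 0 := by
  obtain ⟨u, hu, u0⟩ := (Submodule.ne_bot_iff W).1 (by
    rintro rfl
    rw [finrank_bot] at h1
    omega)
  obtain ⟨x, hx, e⟩ := hW u hu u0
  by_contra hc
  have h2 : ∀ w ∈ W, Q w = 0 := fun w hw => of_not_not fun e => hc ⟨w, hw, e⟩
  exact e (by rw [polar, h2 _ (add_mem hu hx), h2 u hu, h2 x hx, sub_zero, sub_zero])

theorem q_hyp {e f : ι → F} (H : LieClassical.OrthTrans.Hyp Q e f) (a : F) : Q (e + a • f) = a := by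
  have := Q_sub_smul H.left H.right H.pair (-a)
  rwa [neg_smul, sub_neg_eq_add, neg_neg] at this

theorem ne_zero_of_hyp {e f : ι → F} (H : LieClassical.OrthTrans.Hyp Q e f) : e ≠ 0 := fun h =>
  zero_ne_one (by rw [← H.pair, h, polar_zero_left])

/-- a plane adapted to the decomposition -/
theorem Dec.exists_pl (D : Dec Q U W) (h : St Q) (hU : 2 ≤ finrank F U) (hW : 3 ≤ finrank F W) :
    (∃ e ∈ U, ∃ w ∈ W, ∃ w' ∈ W, Pl Q e w w') ∨ ∃ e ∈ W, ∃ w ∈ U, ∃ w' ∈ U, Pl Q e w w' := by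
  have nW := D.symm.ndOn h.nd
  obtain ⟨e', he', f', hf', H⟩ := split nW hW
  by_cases hs : ∃ e ∈ U, e ≠ 0 ∧ Q e = 0
  · obtain ⟨e, he, e0, qe⟩ := hs
    obtain ⟨w, hw, qw⟩ := exists_nonsing (ndOn_cut nW H he' hf') (by
      have := finrank_cut H he' hf'
      omega)
    have hw' : e' + Q w • f' ∈ W := add_mem he' (W.smul_mem _ hf')
    refine Or.inl ⟨e, he, w, hw.1, _, hw', e0, qe, D.orth e he w hw.1, D.orth e he _ hw', ?_, qw, q_hyp H _⟩
    rw [polar_comm, polar_add_left, polar_smul_left, (mem_cut.1 hw).2.1, (mem_cut.1 hw).2.2, smul_zero, add_zero]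
  · have an : ∀ u ∈ U, u ≠ 0 → Q u ≠ 0 := fun u hu u0 e => hs ⟨u, hu, u0, e⟩
    obtain ⟨w, hw, qw⟩ := exists_nonsing (D.ndOn h.nd) (by omega)
    obtain ⟨w', hw', w0⟩ := (Submodule.ne_bot_iff _).1 (LinearMap.ker_ne_bot_of_finrank_lt
      (f := (polarBilin Q w).comp U.subtype) (by rw [finrank_self]; omega))
    have ww : polar Q w w' = 0 := hw'
    have q1 := an w' w'.2 fun e => w0 (Subtype.ext e)
    have q2 := an (w + w') (add_mem hw w'.2) fun e => mul_ne_zero h.h2 qw (by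
      have h1 := polar_add_right Q w w w'
      rwa [e, polar_zero_right, ww, add_zero, polar_self', eq_comm] at h1)
    rw [map_add', ww, add_zero] at q2
    have q3 : (Q w + Q w') * (Q w' - Q w) = 0 := by linear_combination sq_eq_one h.hF q1 - sq_eq_one h.hF qw
    exact Or.inr ⟨e', he', w, hw, w', w'.2, ne_zero_of_hyp H, H.left, D.symm.orth e' he' w hw,
      D.symm.orth e' he' w' w'.2, ww, qw, sub_eq_zero.1 ((mul_eq_zero.1 q3).resolve_left q2)⟩

/-- eigenspaces -/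
def eig (M : isometryGroup F ⇑Q) (c : F) : Submodule F (ι → F) := LinearMap.eqLocus (act Q M) (c • LinearMap.id)

theorem mem_eig {M : isometryGroup F ⇑Q} {c : F} {v : ι → F} : v ∈ eig M c ↔ act Q M v = c • v := Iff.rfl

namespace St

variable (h : St Q) {M : isometryGroup F ⇑Q} {c : F}
include h

theorem dec (hM : M * M = 1) (hc : c * c = 1) : Dec Q (eig M c) (eig M (-c)) where
  sum v := by
    have h1 : act Q M (act Q M v) = v := by rw [← act_mul, hM, act_one]
    refine ⟨-(v + c • act Q M v), mem_eig.2 ?_, -(v - c • act Q M v), mem_eig.2 ?_, ?_⟩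
    · rw [map_neg, map_add, map_smul, h1, smul_neg, smul_add, smul_smul, hc, one_smul, add_comm]
    · rw [map_neg, map_sub, map_smul, h1, neg_smul_neg, smul_sub, smul_smul, hc, one_smul, neg_sub]
    · have h2 : -(v + c • act Q M v) + -(v - c • act Q M v) = v - (3 : F) • v := by module
      rw [h2, h.h3, zero_smul, sub_zero]
  orth u hu w hw := by
    have h1 := act_polar Q M u w
    rw [mem_eig.1 hu, mem_eig.1 hw, polar_smul_left, polar_smul_right, smul_eq_mul, smul_eq_mul] at h1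
    exact (mul_eq_zero.1 (by linear_combination -h1 - polar Q u w * hc : 2 * polar Q u w = 0)).resolve_left h.h2

theorem cls_aux (hM : M * M = 1) (hc : c * c = 1) (hd : finrank F (eig M c) ≤ 3) :
    cj Q M = 1 ∨ (Le 2 (cj Q M) 10 ∧ ∃ u hu, cj Q M = cj Q (reflIso Q u hu)) ∨ Le 2 (cj Q M) 14 := by
  have D := h.dec hM hc
  have h7 := D.finrank_add h.nd
  rw [h.h7] at h7
  have hc' : -c * -c = 1 := by rw [neg_mul_neg, hc]
  (have h_ob := Nat.lt_or_ge (finrank F (eig M c)) 2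
   revert h_ob; rintro (h1 | h1))
  · (have h_ob := Nat.eq_zero_or_pos (finrank F (eig M c))
     revert h_ob; rintro (h0 | h0))
    · refine Or.inl (cj_eq_one (c := -c) fun x => ?_)
      obtain ⟨u, hu, w, hw, rfl⟩ := D.sum x
      rw [Submodule.finrank_eq_zero.1 h0, Submodule.mem_bot] at hu
      rw [hu, zero_add]
      exact hw
    · (have h_ob := exists_nonsing (D.ndOn h.nd) h0
       revert h_ob; rintro (⟨u, hu, qu⟩))
      have nW := D.symm.ndOn h.nd
      (have h_ob := split nW (by omega)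
       revert h_ob; rintro (⟨e, he, f, hf, H⟩))
      have h5 := finrank_cut H he hf
      (have h_ob := split (ndOn_cut nW H he hf) (by omega)
       revert h_ob; rintro (⟨e', he', f', hf', H'⟩))
      have hw : ∀ a : F, e' + a • f' ∈ cut Q (eig M (-c)) e f := fun a => add_mem he' (Submodule.smul_mem _ _ hf')
      refine Or.inr (Or.inl ⟨h.le_one (e := e) (w := u) (w' := e' + Q u • f') ⟨ne_zero_of_hyp H, H.left,
        D.symm.orth e he u hu, (hw _).2.1, D.orth u hu _ (hw _).1, qu, q_hyp H' _⟩ (v := e' + (-Q u) • f')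
        ((polar_comm _ _ _).trans (hw _).2.1) (D.symm.orth _ (hw _).1 u hu) (q_hyp H' _) hc' he
        (by rw [neg_neg]; exact hu), u, qu, cj_eq (c := -c) fun x => ?_⟩)
      obtain ⟨a, ha, w, hw, rfl⟩ := D.sum x
      obtain ⟨t, ht⟩ := (finrank_eq_one_iff_of_nonzero' (⟨u, hu⟩ : eig M c) fun e => qu (by
        rw [show u = 0 from congrArg Subtype.val e, map_zero])).1 (le_antisymm (Nat.le_of_lt_succ h1) h0) ⟨a, ha⟩
      rw [map_add, map_add, mem_eig.1 ha, mem_eig.1 hw, refl_fix qu (D.orth u hu w hw),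
        ← show t • u = a from congrArg Subtype.val ht, map_smul, refl_neg, smul_add, smul_neg t, neg_smul_neg]
  · refine Or.inr (Or.inr ?_)
    rcases D.exists_pl h h1 (by omega) with ⟨e, he, w, hw, w', hw', P⟩ | ⟨e, he, w, hw, w', hw', P⟩
    · exact h.le_pl P hc he hw hw'
    · exact h.le_pl P hc' he (by rw [neg_neg]; exact hw) (by rw [neg_neg]; exact hw')

/-- **the involutions** -/
theorem cls {α : MulAut (Omega F ⇑Q)} (h1 : α ≠ 1) (h2 : α * α = 1) :
    (Le 2 α 10 ∧ ∃ u hu, α = cj Q (reflIso Q u hu)) ∨ Le 2 α 14 := by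
  obtain ⟨M, rfl⟩ := h.surj α
  have hM := h.mul_self h2
  have h7 := (h.dec hM (mul_one 1)).finrank_add h.nd
  rw [h.h7] at h7
  rcases Nat.lt_or_ge 3 (finrank F (eig M 1)) with h3 | h3
  · exact (h.cls_aux hM (c := -1) (by rw [neg_mul_neg, mul_one]) (by omega)).resolve_left h1
  · exact (h.cls_aux hM (mul_one 1) h3).resolve_left h1

theorem noOff : NoOff 2 (Omega F ⇑Q) := by
  refine noOff_of_lo fun E hE r r0 hr => ?_
  have h2 : ∀ a ∈ E, a * a = 1 := fun a ha => (pow_two a).symm.trans (hE.2 a ha)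
  have h6 : r ≤ 6 := (Nat.pow_le_pow_iff_right one_lt_two).1 (hr ▸ h.rank h2)
  obtain ⟨a, ha, a1⟩ := exists_ne_one r0 hr
  rcases Nat.lt_or_ge r 2 with h1 | h1
  · exact ((h.cls a1 (h2 a ha)).elim (fun e => e.1) fun e => Lo.le e (by norm_num)).lo ha |>.le (by omega)
  obtain ⟨b, hb, b1⟩ : ∃ b ∈ E, b ∉ zpowers a := by
    by_contra hc
    have h3 := card_le_of_le (show E ≤ zpowers a from fun b hb => of_not_not fun e => hc ⟨b, hb, e⟩)
    have h4 := Nat.pow_le_pow_right two_pos h1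
    have : Fact (Nat.Prime 2) := ⟨Nat.prime_two⟩
    rw [Nat.card_zpowers, orderOf_eq_prime ((pow_two a).trans (h2 a ha)) a1] at h3
    omega
  suffices h3 : ∃ d ∈ E, Le 2 d 14 from h3.elim fun d hd => (hd.2.lo hd.1).le (by omega)
  rcases h.cls a1 (h2 a ha) with ⟨-, u, hu, e1⟩ | e
  · (have h_ob := h.cls (fun e : b = 1 => b1 (e ▸ one_mem _)) (h2 b hb)
     revert h_ob; rintro (⟨-, v, hv, e2⟩ | e))
    · (have h_ob := h.cls (fun e : a * b = 1 => b1 (eq_inv_of_mul_eq_one_right e ▸ inv_mem (mem_zpowers a)))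
        (h2 _ (mul_mem ha hb))
       revert h_ob; rintro (⟨-, w, hw, e3⟩ | e))
      · exact absurd (by rw [← e1, ← e2, e3]) (h.three_refl hu hv hw)
      · exact ⟨_, mul_mem ha hb, e⟩
    · exact ⟨b, hb, e⟩
  · exact ⟨a, ha, e⟩

end St

end Cfsg.Agent.TwoF.XS.O73x

namespace Cfsg.Agent.TwoF.XS

open O73x Cfsg.Agent.LieClassical

theorem O73x.row_congr {ι F : Type} [Fintype ι] [DecidableEq ι] [Field F] {Q Q' : (ι → F) → F} (e : Q = Q')
    (h : Row 2 (POmega F Q)) : Row 2 (POmega F Q') := by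
  subst e
  exact h

/-- **`Ω₇(3)`, `p = 2`** -/
theorem o73 : O73 := by
  intro F _ _ hF
  refine row_congr (OrthForms.coe_oddForm 3 F) ?_
  have : Fact (Nat.Prime 3) := ⟨Nat.prime_three⟩
  have h1 := S2095.result hF
  have h2 := S0816.result (F := F) 3 1 le_rfl hF (by decide) 3 le_rfl
  rw [← OrthForms.coe_oddForm] at h1 h2
  have hF' : Nat.card F = 3 := Nat.card_eq_fintype_card.trans hF
  have nd := Omega.TwoF.OrthEl.nondeg_polarBilin (OrthForms.nondeg_oddForm 3 F (two_ne hF'))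
  have h7 : Fintype.card (Unit ⊕ (Fin 3 ⊕ Fin 3)) = 7 := by simp
  let e : POmega F (OrthForms.oddForm 3 F) ≃* Omega F (OrthForms.oddForm 3 F) :=
    (QuotientGroup.quotientMulEquivOfEq (center_eq_bot hF' nd h7)).trans QuotientGroup.quotientBot
  refine (NoOff.of_equiv (St.noOff ⟨hF', nd, h7, (XE.zc_of_cyclic h1).of_equiv e.symm, ?_⟩) e).row
  rw [← Nat.card_congr (MulAut.congr e).toEquiv, ← Nat.card_congr e.toEquiv, h2]

end Cfsg.Agent.TwoF.XS
end
end

-- part: TwoF/DC/TFG/Ct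
section
prune_inst 0x4f13049407d62100000180096a30020243c0001000000000008e00502010902228543a0410e00040018028000000101200210008080000000000004000001012010a85200b208010c000096000000000000000000000000000000000000010000000000000
set_option linter.all false
open scoped Cfsg.Agent.FastGrp

-- part: TwoF/DC/TFG/Cmb
section
/-!
# TwoF, defining characteristic, types G2 and F4 (2): a certificate checker (helper25)

Roots are coded by numbers `c < 2 N`, sets of roots by bit masks.  `Act H ν x` : the root operator `x` does not kill the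
weight space `ν`.  Tables of Weyl orbits (`chkT`), base facts (`chkTop`, `chkSec`, `chkC`), enumeration of all abelian
ideals in characteristic `p` (`chkE`).
-/

set_option autoImplicit false
set_option linter.unusedSectionVars false
set_option linter.unusedVariables false

namespace Cfsg.Agent.TwoF.DC.TF

open Module TE

/-! ### weight spaces which are moved -/

section act

variable {ι Φ : Type} [Fintype ι] [DecidableEq ι] [Fintype Φ] [DecidableEq Φ] {R : RC ι Φ} {p : ℕ} {k L : Type}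
  [Field k] [AddCommGroup L] [Module k L] (H : HW R p k L)

/-- the root operator does not kill the weight space -/
def Act (ν : ι → ℤ) (x : Bool × Φ) : Prop := ∃ v ∈ H.w ν, H.E x 1 v ≠ 0

variable {H}

theorem Act.sw {ν : ι → ℤ} {x : Bool × Φ} (h : Act H ν x) (i : ι) : Act H (R.sw i ν) (R.sr i x) := by
  obtain ⟨v, hv, h0⟩ := h
  exact ⟨H.nnl [i] v, H.nnl_w [i] hv, fun h1 => h0 ((H.E_nnl_eq_zero [i] x 1 v).1 h1)⟩

theorem Act.ne {ν : ι → ℤ} {x : Bool × Φ} (h : Act H ν x) : H.E x 1 ≠ 0 := by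
  obtain ⟨v, -, h0⟩ := h
  exact fun h1 => h0 (by rw [h1]; rfl)

/-- at least `n` weights in the orbit of `ν₀` are moved by `S` -/
def Orb (H : HW R p k L) (S : Finset Φ) (ν₀ : ι → ℤ) (n : ℕ) : Prop :=
  ∃ A : Finset (ι → ℤ), A.card = n ∧ ∀ ν ∈ A, (∃ w, ν = R.swl w ν₀) ∧ ∃ b ∈ S, Act H ν (true, b)

theorem orb_disj {S : Finset Φ} {ν ν' : ι → ℤ} (hν : Dom ν) (hν' : Dom ν') (hne : ν ≠ ν') {A A' : Finset (ι → ℤ)}
    (h : ∀ μ ∈ A, ∃ w, μ = R.swl w ν) (h' : ∀ μ ∈ A', ∃ w, μ = R.swl w ν') : Disjoint A A' := by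
  refine Finset.disjoint_left.2 fun μ h1 h2 => hne ?_
  obtain ⟨w, hw⟩ := h μ h1
  obtain ⟨w', hw'⟩ := h' μ h2
  have h3 : R.swl (w'.reverse ++ w) ν = ν' := by rw [R.swl_append, ← hw, hw', R.swl_rev_swl]
  rw [← h3, R.swl_eq_of_dom hν _ (h3 ▸ hν')]

theorem Orb.le1 {S : Finset Φ} {ν : ι → ℤ} {n : ℕ} (h : Orb H S ν n) : n ≤ H.cL S := by
  obtain ⟨A, rfl, h⟩ := h
  exact H.card_le_cL S A fun μ hμ => (h μ hμ).2

theorem Orb.le2 {S : Finset Φ} {ν ν' : ι → ℤ} {n n' : ℕ} (h : Orb H S ν n) (h' : Orb H S ν' n') (hν : Dom ν)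
    (hν' : Dom ν') (hne : ν ≠ ν') : n + n' ≤ H.cL S := by
  classical
  obtain ⟨A, rfl, h⟩ := h
  obtain ⟨A', rfl, h'⟩ := h'
  rw [← Finset.card_union_of_disjoint (orb_disj (S := S) hν hν' hne (fun μ hμ => (h μ hμ).1) fun μ hμ => (h' μ hμ).1)]
  exact H.card_le_cL S _ fun μ hμ => (Finset.mem_union.1 hμ).elim (fun h1 => (h μ h1).2) fun h1 => (h' μ h1).2

theorem Orb.le3 {S : Finset Φ} {ν ν' ν'' : ι → ℤ} {n n' n'' : ℕ} (h : Orb H S ν n) (h' : Orb H S ν' n')
    (h'' : Orb H S ν'' n'') (hν : Dom ν) (hν' : Dom ν') (hν'' : Dom ν'') (h1 : ν ≠ ν') (h2 : ν ≠ ν'') (h3 : ν' ≠ ν'') :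
    n + n' + n'' ≤ H.cL S := by
  classical
  obtain ⟨A, rfl, h⟩ := h
  obtain ⟨A', rfl, h'⟩ := h'
  obtain ⟨A'', rfl, h''⟩ := h''
  rw [← Finset.card_union_of_disjoint (orb_disj (S := S) hν hν' h1 (fun μ hμ => (h μ hμ).1) fun μ hμ => (h' μ hμ).1),
    ← Finset.card_union_of_disjoint (Finset.disjoint_union_left.2
      ⟨orb_disj (S := S) hν hν'' h2 (fun μ hμ => (h μ hμ).1) fun μ hμ => (h'' μ hμ).1,
        orb_disj (S := S) hν' hν'' h3 (fun μ hμ => (h' μ hμ).1) fun μ hμ => (h'' μ hμ).1⟩)]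
  exact H.card_le_cL S _ fun μ hμ => (Finset.mem_union.1 hμ).elim (fun h0 => (Finset.mem_union.1 h0).elim
    (fun h1 => (h μ h1).2) fun h1 => (h' μ h1).2) fun h1 => (h'' μ h1).2

variable [CharP k p]

theorem br_top {v : L} (hv : v ∈ H.w H.lz) {a β a' : Φ} (h1 : R.cf a = R.cf β + R.cf a')
    (h2 : R.NZ p (true, β) (false, a)) (h3 : H.E (false, a') 1 v ≠ 0) : H.E (true, β) 1 (H.E (false, a) 1 v) ≠ 0 := by
  intro h
  obtain ⟨N, hN, hN'⟩ := H.br (true, β) (false, a) (false, a') (funext fun i => by simp [RC.vec, h1])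
  have h4 := congrArg (fun f : Module.End k L => f v) hN
  simp only [LinearMap.sub_apply, Module.End.mul_apply, h, H.E_top hv β Nat.one_pos, map_zero, sub_zero,
    LinearMap.smul_apply] at h4
  exact h3 ((smul_eq_zero.mp h4.symm).resolve_left (hN' h2))

theorem ef_top {v : L} (hv : v ∈ H.w H.lz) (h0 : v ≠ 0) {a : Φ} (h : ¬ (p : ℤ) ∣ R.pair H.lz (true, a)) :
    H.E (true, a) 1 (H.E (false, a) 1 v) ≠ 0 := by
  intro h1
  obtain ⟨ε, hε⟩ := H.ef a
  have h2 := hε _ v hv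
  rw [h1, H.E_top hv a Nat.one_pos, map_zero, sub_zero] at h2
  rcases smul_eq_zero.1 h2.symm with h3 | h3
  · exact h ((CharP.intCast_eq_zero_iff k p _).1 ((mul_eq_zero.1 h3).resolve_left ε.ne_zero))
  · exact h0 h3

/-- the negative roots which do not kill the highest weight vector -/
theorem top_ne {v : L} (hv : v ∈ H.w H.lz) (h0 : v ≠ 0) {M : Φ → Prop}
    (h : ∀ a, M a → ¬ (p : ℤ) ∣ R.pair H.lz (true, a) ∨
      ∃ β a', R.cf a = R.cf β + R.cf a' ∧ R.NZ p (true, β) (false, a) ∧ M a') (a : Φ) (ha : M a) :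
    H.E (false, a) 1 v ≠ 0 := by
  induction hn : ∑ j, R.cf a j using Nat.strong_induction_on generalizing a with
  | _ n ih =>
    intro h1
    rcases h a ha with h2 | ⟨β, a', h2, h3, h4⟩
    · exact ef_top hv h0 h2 (by rw [h1, map_zero])
    · refine br_top hv h2 h3 (ih _ ?_ a' h4 rfl) (by rw [h1, map_zero])
      rw [← hn, h2]
      simp only [Pi.add_apply, Finset.sum_add_distrib]
      obtain ⟨j, hj⟩ := Function.ne_iff.1 (R.vec_ne_zero (true, β))
      rw [R.vec_true] at hj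
      have : R.cf β j ≤ ∑ j, R.cf β j := Finset.single_le_sum (f := R.cf β) (fun _ _ => Nat.zero_le _) (Finset.mem_univ j)
      have h5 : R.cf β j ≠ 0 := fun h => hj (by rw [h]; rfl)
      omega

theorem sub_wt (β : Φ) : H.lz - R.wt (true, β) = H.lz + R.wt (false, β) := by rw [R.wt_false, sub_eq_add_neg]

/-- the end of a string -/
theorem act_end {v : L} (hv : v ∈ H.w H.lz) {β δ : Φ} (h1 : H.E (false, β) 1 v ≠ 0) {j : ι} (hj : R.cf β j < R.cf δ j)
    (h2 : ¬ (p : ℤ) ∣ R.pair (H.lz - R.wt (true, β)) (true, δ)) : Act H (H.lz - R.wt (true, β)) (false, δ) := by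
  have h3 : H.E (false, β) 1 v ∈ H.w (H.lz - R.wt (true, β)) := by rw [sub_wt]; exact H.E1_w _ hv
  refine ⟨_, h3, fun h4 => h1 (H.inj_of_ef (x := (false, δ)) (by rwa [R.pair_false, dvd_neg]) h3 ?_ h4)⟩
  refine H.eq_zero_of_not_isWt ?_ (H.E1_w _ h3)
  have h5 := H.not_isWt_of_dep (H.isWt_of_mem h3 h1) (n := 1) (x := (true, δ)) (j := j) (by
    rw [H.dep_eq (μ := H.lz - R.wt (true, β)) (c := R.vec (true, β)) rfl, R.vec_true, R.vec_true]; omega)
  rwa [one_smul] at h5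

end act

/-! ### bit masks -/

/-- the image of a mask -/
def img : List ℕ → ℕ → ℕ
  | [], _ => 0
  | a :: π, M => (bif (M % 2).beq 0 then 0 else 2 ^ a) ||| img π (M / 2)

theorem img_bit {π : List ℕ} {M a : ℕ} (h : (img π M).testBit a = true) : ∃ c, M.testBit c = true ∧ π[c]? = some a := by
  induction π generalizing M with
  | nil => simp [img] at h
  | cons b π ih =>
    rw [img, Nat.testBit_or, Bool.or_eq_true] at h
    rcases h with h | h
    · cases h1 : (M % 2).beq 0 with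
      | true => rw [h1] at h; simp at h
      | false =>
        rw [h1, cond_false, Nat.testBit_two_pow, decide_eq_true_eq] at h
        have h2 := Nat.ne_of_beq_eq_false h1
        exact ⟨0, by rw [Nat.testBit_zero, decide_eq_true_eq]; omega, by simp [h]⟩
    · obtain ⟨c, h1, h2⟩ := ih h
      exact ⟨c + 1, by rwa [Nat.testBit_succ], by simpa only [_root_.List.getElem?_cons_succ] using h2⟩

/-- inclusion of masks -/
def sub (M M' : ℕ) : Bool := (M &&& M').beq M

theorem sub_bit {M M' c : ℕ} (h : sub M M' = true) (hc : M.testBit c = true) : M'.testBit c = true := by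
  rw [← Nat.beq_eq.mp h, Nat.testBit_and, Bool.and_eq_true] at hc
  exact hc.2

theorem lt_of_bit {M n c : ℕ} (h : M < 2 ^ n) (hc : M.testBit c = true) : c < n := by
  by_contra h1
  rw [Nat.testBit_lt_two_pow (lt_of_lt_of_le h (Nat.pow_le_pow_right (by omega) (by omega)))] at hc
  exact absurd hc (by simp)

/-- the root with code `c` -/
def rc (N : ℕ) [NeZero N] (c : ℕ) : Bool × Fin N := (decide (c < N), Fin.ofNat N c)

theorem rc_pos {N : ℕ} [NeZero N] (b : Fin N) : rc N b = (true, b) := by simp [rc, b.2]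

theorem rc_neg {N : ℕ} [NeZero N] (b : Fin N) : rc N (N + b) = (false, b) := by
  simp only [rc, Prod.mk.injEq, decide_eq_false_iff_not]
  exact ⟨by omega, Fin.ext (by simp [Nat.mod_eq_of_lt b.2])⟩

theorem exists_rc {N : ℕ} [NeZero N] (x : Bool × Fin N) : ∃ c < 2 * N, rc N c = x := by
  obtain ⟨s, b⟩ := x
  have := b.2
  cases s
  · exact ⟨N + b, by omega, rc_neg b⟩
  · exact ⟨b, by omega, rc_pos b⟩

/-! ### the tables of a root system -/

/-- `v + w` -/
def ad (v w : List ℤ) : List ℤ := lin m1 v w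

/-- the entry of the root table -/
def rg (rl : List (List ℤ)) (c : ℕ) : List ℤ := rl.getD c []

/-- a root -/
def rt (rl : List (List ℤ)) (v : List ℤ) : Bool := rl.any (· == v)

/-- the structure constant is `± (r + 1)` with `ok r` -/
def nzb (rl : List (List ℤ)) (ok : ℕ → Bool) (x y : List ℤ) : Bool :=
  rt rl (ad x y) && (bif rt rl (lin p1 y x) then (bif rt rl (lin p2 y x) then (!rt rl (lin p3 y x) && ok 2) else ok 1)
    else ok 0)

/-- the tables: roots, simple roots as weights, simple reflections -/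
structure TB {l N : ℕ} [NeZero N] (R : RC (Fin l) (Fin N)) (rl cols : List (List ℤ)) (prm : List (List ℕ)) : Prop where
  len : rl.length = 2 * N
  hrl : ∀ c < 2 * N, (rg rl c).length = l ∧ tv l (rg rl c) = R.vec (rc N c)
  hcol : ∀ i : Fin l, (rg cols i).length = l ∧ tv l (rg cols i) = R.wt (true, R.zi i)
  hprm : ∀ i : Fin l, (prm.getD i []).length = 2 * N ∧ ∀ c < 2 * N, rc N ((prm.getD i []).getD c 0) = R.sr i (rc N c)

theorem length_lin (c : ℤ) {v w : List ℤ} (h : v.length = w.length) : (lin c v w).length = v.length := by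
  induction v generalizing w with
  | nil => cases w <;> rfl
  | cons a v ih =>
    cases w with
    | nil => simp at h
    | cons b w => simp only [lin, List.length_cons, ih (by simpa using h)]

/-- the check of a weight table -/
def chkT (l : ℕ) (cols : List (List ℤ)) (prm : List (List ℕ)) (μ : List ℤ) (M : ℕ) : List WE → Bool
  | [] => true
  | e :: W => (match W[e.2.1]? with
      | none => e.2.2.1 == μ && sub e.2.2.2 M
      | some q => e.1.blt l && e.2.2.1 == lin (gz q.2.2.1 e.1) q.2.2.1 (rg cols e.1) &&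
          sub e.2.2.2 (img (prm.getD e.1 []) q.2.2.2)) &&
      !(W.any fun e' => e'.2.2.1 == e.2.2.1) && chkT l cols prm μ M W

/-- closure under the stabiliser -/
def chkC (l : ℕ) (prm : List (List ℕ)) (μ : List ℤ) (M' : ℕ) : List (ℕ × ℕ) → ℕ → Bool
  | [], M => sub M' M
  | e :: r, M => e.1.blt l && gz μ e.1 == p0 && sub e.2 (M ||| img (prm.getD e.1 []) M) && chkC l prm μ M' r e.2

/-- the negative roots which move the highest weight vector -/
def chkTop (N : ℕ) (rl : List (List ℤ)) (ok : ℕ → Bool) (G M : ℕ) : Bool :=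
  M.blt (2 ^ N) && (List.range N).all fun a => !M.testBit a || G.testBit a ||
    (List.range N).any fun β => (List.range N).any fun a' => M.testBit a' && rg rl a == ad (rg rl β) (rg rl a') &&
      nzb rl ok (rg rl β) (rg rl (N + a))

/-- the roots which move the weight space `λ - β` -/
def chkSec (l N : ℕ) (rl : List (List ℤ)) (ok : ℕ → Bool) (G M β G' M' : ℕ) : Bool :=
  M'.blt (2 ^ (2 * N)) && β.blt N && M.testBit β &&
    ((List.range N).all fun c => !M'.testBit c || (c.beq β && G.testBit β) ||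
      (List.range N).any fun z => M.testBit z && rg rl β == ad (rg rl c) (rg rl z) &&
        nzb rl ok (rg rl c) (rg rl (N + β))) &&
    (List.range N).all fun c => !M'.testBit (N + c) || (G'.testBit c &&
      (List.range l).any fun j => isNeg (gz (rg rl β) j - gz (rg rl c) j))

/-- the masks of the enumeration -/
def chkE (N : ℕ) (rl : List (List ℤ)) (ok : ℕ → Bool) (F : List RE) : Bool :=
  F.length.beq N && (List.range N).all fun m => match F[m]? with
    | none => true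
    | some e => e.2.2.1.blt (2 ^ m) && e.2.2.2.blt (2 ^ N) &&
        ((List.range N).all fun a => !e.2.2.1.testBit a || (List.range N).any fun β =>
          rg rl a == ad (rg rl β) (rg rl m) && nzb rl ok (rg rl β) (rg rl m)) &&
        (List.range N).all fun a => !e.2.2.2.testBit a || nzb rl ok (rg rl a) (rg rl m)

/-- `I` is the mask of `S` -/
def Msk {N : ℕ} (S : Finset (Fin N)) (I : ℕ) : Prop := ∀ m, I.testBit m = true ↔ ∃ h : m < N, (⟨m, h⟩ : Fin N) ∈ S

theorem msk_single {N : ℕ} (b : Fin N) : Msk {b} (2 ^ (b : ℕ)) := fun m => by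
  rw [Nat.testBit_two_pow, decide_eq_true_eq]
  exact ⟨fun h => ⟨h ▸ b.2, Finset.mem_singleton.2 (Fin.ext h.symm)⟩,
    fun ⟨h, h1⟩ => (congrArg Fin.val (Finset.mem_singleton.1 h1)).symm⟩

theorem msk_univ (N : ℕ) : Msk (Finset.univ : Finset (Fin N)) (2 ^ N - 1) := fun m => by
  rw [Nat.testBit_two_pow_sub_one, decide_eq_true_eq]
  exact ⟨fun h => ⟨h, Finset.mem_univ _⟩, fun ⟨h, _⟩ => h⟩

theorem Msk.mem {N : ℕ} {S : Finset (Fin N)} {I J : ℕ} (h : Msk S I) (h' : sub I J = true) {b : Fin N} (hb : b ∈ S) :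
    J.testBit b = true := sub_bit h' ((h b).2 ⟨b.2, hb⟩)

namespace TB

variable {l N : ℕ} [NeZero N] {R : RC (Fin l) (Fin N)} {rl cols : List (List ℤ)} {prm : List (List ℕ)}
  (h : TB R rl cols prm)
include h

theorem rt_iff {v : List ℤ} (hv : v.length = l) : rt rl v = true ↔ R.IsRt (tv l v) := by
  rw [rt, List.any_eq_true]
  constructor
  · rintro ⟨e, he, h1⟩
    obtain ⟨c, hc, rfl⟩ := List.getElem_of_mem he
    refine ⟨rc N c, ?_⟩
    rw [← (h.hrl c (h.len ▸ hc)).2, ← eq_of_beq h1, rg, List.getD_eq_getElem _ _ hc]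
  · rintro ⟨x, hx⟩
    obtain ⟨c, hc, rfl⟩ := exists_rc x
    refine ⟨rg rl c, ?_, ?_⟩
    · rw [rg, List.getD_eq_getElem _ _ (h.len ▸ hc)]; exact List.getElem_mem _
    · rw [tv_inj (h.hrl c hc).1 hv ((h.hrl c hc).2.trans hx)]; exact beq_self_eq_true _

theorem tv_ad {c c' : ℕ} (hc : c < 2 * N) (hc' : c' < 2 * N) :
    tv l (ad (rg rl c) (rg rl c')) = R.vec (rc N c) + R.vec (rc N c') := by
  rw [ad, tv_lin _ _ _ _ ((h.hrl c hc).1.trans (h.hrl c' hc').1.symm), (h.hrl c hc).2, (h.hrl c' hc').2]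
  show _ - (-1 : ℤ) • _ = _
  rw [neg_smul, one_smul, sub_neg_eq_add]

theorem rt_lin {c c' : ℕ} (hc : c < 2 * N) (hc' : c' < 2 * N) (n : ℤ) :
    rt rl (lin n (rg rl c') (rg rl c)) = true ↔ R.IsRt (R.vec (rc N c') - n • R.vec (rc N c)) := by
  have h1 := (h.hrl c' hc').1.trans (h.hrl c hc).1.symm
  rw [h.rt_iff ((length_lin n h1).trans (h.hrl c' hc').1), tv_lin _ _ _ _ h1, (h.hrl c hc).2, (h.hrl c' hc').2]

theorem nz {p : ℕ} {ok : ℕ → Bool} (hok : ∀ r, ok r = true → ¬ p ∣ r + 1) {c c' : ℕ} (hc : c < 2 * N) (hc' : c' < 2 * N)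
    (h1 : nzb rl ok (rg rl c) (rg rl c') = true) : R.NZ p (rc N c) (rc N c') := by
  rw [nzb, Bool.and_eq_true] at h1
  obtain ⟨h1, h2⟩ := h1
  have h0 : R.IsRt (R.vec (rc N c') - ((0 : ℕ) : ℤ) • R.vec (rc N c)) := by
    rw [Nat.cast_zero, zero_smul, sub_zero]; exact ⟨_, rfl⟩
  have e1 := h.rt_lin hc hc' p1
  have e2 := h.rt_lin hc hc' p2
  have e3 := h.rt_lin hc hc' p3
  refine ⟨?_, ?_⟩
  · rw [← h.tv_ad hc hc']
    exact (h.rt_iff ((length_lin _ ((h.hrl c hc).1.trans (h.hrl c' hc').1.symm)).trans (h.hrl c hc).1)).1 h1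
  cases h3 : rt rl (lin p1 (rg rl c') (rg rl c)) with
  | false =>
    rw [h3, cond_false] at h2
    exact ⟨0, fun j hj => by obtain rfl := Nat.le_zero.1 hj; exact h0, fun h4 => by
      rw [e1.2 h4] at h3; exact absurd h3 (by simp), hok 0 h2⟩
  | true =>
    rw [h3, cond_true] at h2
    cases h4 : rt rl (lin p2 (rg rl c') (rg rl c)) with
    | false =>
      rw [h4, cond_false] at h2
      refine ⟨1, fun j hj => ?_, fun h5 => by rw [e2.2 h5] at h4; exact absurd h4 (by simp), hok 1 h2⟩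
      interval_cases j
      · exact h0
      · exact e1.1 h3
    | true =>
      rw [h4, cond_true, Bool.and_eq_true, Bool.not_eq_true'] at h2
      refine ⟨2, fun j hj => ?_, fun h5 => by rw [e3.2 h5] at h2; exact absurd h2.1 (by simp), hok 2 h2.2⟩
      interval_cases j
      · exact h0
      · exact e1.1 h3
      · exact e2.1 h4

theorem cf_eq {a β c : Fin N} (h1 : (rg rl a == ad (rg rl β) (rg rl c)) = true) : R.cf a = R.cf β + R.cf c := by
  have := a.2
  have := β.2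
  have := c.2
  refine R.cf_of_vec ?_
  rw [← rc_pos a, ← rc_pos β, ← rc_pos c, ← h.tv_ad (by omega) (by omega), ← eq_of_beq h1, (h.hrl a (by omega)).2]

theorem prm_bit (i : Fin l) {M a : ℕ} (h1 : (img (prm.getD i []) M).testBit a = true) :
    ∃ c, M.testBit c = true ∧ rc N a = R.sr i (rc N c) := by
  obtain ⟨c, h2, h3⟩ := img_bit h1
  obtain ⟨h4, h5⟩ := List.getElem?_eq_some_iff.1 h3
  exact ⟨c, h2, by rw [← (h.hprm i).2 c ((h.hprm i).1 ▸ h4), List.getD_eq_getElem _ _ h4, h5]⟩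

theorem tv_sw (i : Fin l) {v : List ℤ} (hv : v.length = l) : tv l (lin (gz v i) v (rg cols i)) = R.sw i (tv l v) := by
  rw [tv_lin _ _ _ _ (hv.trans (h.hcol i).1.symm), (h.hcol i).2]; rfl

/-- the enumeration reaches every abelian ideal -/
theorem ideal {p : ℕ} {ok : ℕ → Bool} (hok : ∀ r, ok r = true → ¬ p ∣ r + 1) {F : List RE} (hF : chkE N rl ok F = true)
    {P : ℕ → ℕ → Bool} (hP : enum P F 0 0 0 = true) {S : Finset (Fin N)} (hA : R.Ab p S) (hI : R.Idl p S) :
    ∃ I, Msk S I ∧ P I S.card = true := by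
  rw [chkE, Bool.and_eq_true, List.all_eq_true] at hF
  have hN := Nat.beq_eq.mp hF.1
  obtain ⟨I, h4, h5⟩ := enum_sound (S.image Fin.val) hP (fun m => by simp) (by simp) (fun m hm => by
      obtain ⟨b, _, rfl⟩ := Finset.mem_image.mp hm
      simp [hN]) fun m e he hm => by
    rw [zero_add] at hm ⊢
    obtain ⟨b, hb, rfl⟩ := Finset.mem_image.mp hm
    have hb2 := b.2
    have h1 := hF.2 b (List.mem_range.2 b.2)
    rw [he] at h1
    simp only [Bool.and_eq_true, List.all_eq_true, Bool.or_eq_true, Bool.not_eq_true', List.any_eq_true,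
      List.mem_range, Nat.blt_eq] at h1
    obtain ⟨⟨⟨h1, h2⟩, h3⟩, h6⟩ := h1
    refine ⟨fun a ha => ?_, fun a ha h7 => ?_⟩
    · have h7 := lt_of_bit h1 ha
      obtain ⟨β, hβ, h8, h9⟩ := (h3 a (by omega)).resolve_left (by rw [ha]; simp)
      have h10 := h.nz hok (by omega) (by omega) h9
      rw [show β = ((⟨β, hβ⟩ : Fin N) : ℕ) from rfl, rc_pos, rc_pos] at h10
      exact ⟨Finset.mem_image.2 ⟨⟨a, by omega⟩, hI b hb ⟨β, hβ⟩ _ (h.cf_eq h8) h10, rfl⟩, h7⟩
    · obtain ⟨a', ha', rfl⟩ := Finset.mem_image.mp h7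
      have h8 := a'.2
      have h10 := h.nz hok (by omega) (by omega) ((h6 a' a'.2).resolve_left (by rw [ha]; simp))
      rw [rc_pos, rc_pos] at h10
      exact hA a' ha' b hb h10
  rw [Finset.card_image_of_injective _ Fin.val_injective] at h5
  refine ⟨I, fun m => (h4 m).trans ⟨fun hm => ?_, fun ⟨h1, h2⟩ => Finset.mem_image.2 ⟨_, h2, rfl⟩⟩, h5⟩
  obtain ⟨b, hb, rfl⟩ := Finset.mem_image.mp hm
  exact ⟨b.2, hb⟩

variable {p : ℕ} {k L : Type} [Field k] [AddCommGroup L] [Module k L] {H : HW R p k L}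

/-- the base facts of a table: `μ` labels the orbit of `ν₀` -/
def Bs (H : HW R p k L) (ν₀ : Fin l → ℤ) (μ : List ℤ) (M : ℕ) : Prop :=
  ∀ c, M.testBit c = true → ∃ w, R.swl w (tv l μ) = tv l μ ∧ Act H (R.swl w ν₀) (rc N c)

theorem clo {ν₀ : Fin l → ℤ} {μ : List ℤ} {M M' : ℕ} {r : List (ℕ × ℕ)} (h1 : chkC l prm μ M' r M = true)
    (h2 : Bs H ν₀ μ M) : Bs H ν₀ μ M' := by
  induction r generalizing M with
  | nil => exact fun c hc => h2 c (sub_bit h1 hc)
  | cons e r ih =>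
    simp only [chkC, Bool.and_eq_true, Nat.blt_eq] at h1
    obtain ⟨⟨⟨h3, h4⟩, h5⟩, h6⟩ := h1
    refine ih h6 fun c hc => ?_
    have h7 := sub_bit h5 hc
    rw [Nat.testBit_or, Bool.or_eq_true] at h7
    rcases h7 with h7 | h7
    · exact h2 c h7
    · obtain ⟨c', h8, h9⟩ := h.prm_bit ⟨e.1, h3⟩ h7
      obtain ⟨w, h10, h11⟩ := h2 c' h8
      refine ⟨⟨e.1, h3⟩ :: w, ?_, by rw [h9]; exact h11.sw _⟩
      have h12 : tv l μ ⟨e.1, h3⟩ = 0 := eq_of_beq h4
      rw [R.swl_cons, h10, RC.sw, h12, zero_smul, sub_zero]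

theorem tab {ν₀ : Fin l → ℤ} {μ : List ℤ} (hμ : μ.length = l) {M : ℕ} (h2 : Bs H ν₀ μ M) {W : List WE}
    (hW : chkT l cols prm μ M W = true) : (W.map fun e => tv l e.2.2.1).Nodup ∧ ∀ e ∈ W, e.2.2.1.length = l ∧
      ∀ c, e.2.2.2.testBit c = true → ∃ w, R.swl w (tv l μ) = tv l e.2.2.1 ∧ Act H (R.swl w ν₀) (rc N c) := by
  induction W with
  | nil => simp only [_root_.List.map_nil, _root_.List.nodup_nil, _root_.List.not_mem_nil, _root_.IsEmpty.forall_iff, _root_.implies_true, _root_.and_self]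
  | cons e W ih =>
    simp only [chkT, Bool.and_eq_true] at hW
    obtain ⟨⟨h1, h4⟩, h5⟩ := hW
    obtain ⟨h6, h7⟩ := ih h5
    have h8 : e.2.2.1.length = l ∧
        ∀ c, e.2.2.2.testBit c = true → ∃ w, R.swl w (tv l μ) = tv l e.2.2.1 ∧ Act H (R.swl w ν₀) (rc N c) := by
      cases hq : W[e.2.1]? with
      | none =>
        rw [hq] at h1
        simp only [Bool.and_eq_true] at h1
        rw [eq_of_beq h1.1]
        exact ⟨hμ, fun c hc => h2 c (sub_bit h1.2 hc)⟩
      | some q =>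
        rw [hq] at h1
        simp only [Bool.and_eq_true, Nat.blt_eq] at h1
        obtain ⟨⟨h1, h3⟩, h9⟩ := h1
        obtain ⟨h10, h11⟩ := h7 q (List.mem_of_getElem? hq)
        rw [eq_of_beq h3]
        refine ⟨(length_lin _ (h10.trans (h.hcol ⟨e.1, h1⟩).1.symm)).trans h10, fun c hc => ?_⟩
        obtain ⟨c', h12, h13⟩ := h.prm_bit ⟨e.1, h1⟩ (sub_bit h9 hc)
        obtain ⟨w, h14, h15⟩ := h11 c' h12
        exact ⟨⟨e.1, h1⟩ :: w, by rw [R.swl_cons, h14]; exact (h.tv_sw ⟨e.1, h1⟩ h10).symm,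
          by rw [h13]; exact h15.sw _⟩
    refine ⟨?_, fun e' he' => ?_⟩
    · rw [List.map_cons, List.nodup_cons]
      refine ⟨fun h9 => ?_, h6⟩
      obtain ⟨e', he', h10⟩ := List.mem_map.mp h9
      rw [Bool.not_eq_true', ← Bool.not_eq_true, List.any_eq_true] at h4
      exact h4 ⟨e', he', by rw [tv_inj (h7 e' he').1 h8.1 h10]; exact beq_self_eq_true _⟩
    · rcases List.mem_cons.mp he' with rfl | he'
      · exact h8
      · exact h7 e' he'

/-- **the count** -/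
theorem orb {ν₀ : Fin l → ℤ} {μ : List ℤ} (hμ : μ.length = l) (h0 : ∀ i, 0 ≤ tv l μ i ∧ tv l μ i ≤ ν₀ i) {M : ℕ}
    (h2 : Bs H ν₀ μ M) {W : List WE} (hW : chkT l cols prm μ M W = true) {S : Finset (Fin N)} {I : ℕ} (hI : Msk S I) :
    Orb H S ν₀ (cnt I W) := by
  classical
  obtain ⟨h3, h4⟩ := h.tab hμ h2 hW
  have h5 : ∀ ν ∈ ((W.filter fun e => !(e.2.2.2 &&& I).beq 0).map fun e => tv l e.2.2.1).toFinset,
      ∃ w, R.swl w (tv l μ) = ν ∧ ∃ b ∈ S, Act H (R.swl w ν₀) (true, b) := fun ν hν => by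
    obtain ⟨e, he, rfl⟩ := List.mem_map.mp (List.mem_toFinset.mp hν)
    obtain ⟨he, h6⟩ := List.mem_filter.mp he
    have h10 : e.2.2.2 &&& I ≠ 0 := fun h => by rw [h] at h6; exact absurd h6 (by decide)
    obtain ⟨m, hm⟩ := Nat.exists_testBit_of_ne_zero h10
    rw [Nat.testBit_and, Bool.and_eq_true] at hm
    obtain ⟨h7, h8⟩ := (hI m).1 hm.2
    obtain ⟨w, h9, h11⟩ := (h4 e he).2 m hm.1
    exact ⟨w, h9, _, h8, by rwa [← rc_pos]⟩
  choose! f hf using h5
  refine ⟨(((W.filter fun e => !(e.2.2.2 &&& I).beq 0).map fun e => tv l e.2.2.1).toFinset).image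
    fun ν => R.swl (f ν) ν₀, ?_, fun ν hν => ?_⟩
  · rw [Finset.card_image_of_injOn, List.toFinset_card_of_nodup (h3.sublist (List.filter_sublist.map _)),
      List.length_map, cnt_eq]
    intro ν hν ν' hν' e
    rw [← (hf ν hν).1, ← (hf ν' hν').1]
    exact R.swl_eq_of_add (fun i => (h0 i).1) (ν := ν₀ - tv l μ)
      (fun i => by have := (h0 i).2; simp only [Pi.sub_apply]; omega) (by rwa [add_sub_cancel])
  · obtain ⟨ν', hν', rfl⟩ := Finset.mem_image.mp hν
    exact ⟨⟨_, rfl⟩, (hf ν' hν').2⟩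

variable [CharP k p] {ok : ℕ → Bool} (hok : ∀ r, ok r = true → ¬ p ∣ r + 1)
include hok

theorem top0 {G M : ℕ} (h1 : chkTop N rl ok G M = true)
    (hG : ∀ a : Fin N, G.testBit a = true → ¬ (p : ℤ) ∣ R.pair H.lz (true, a)) {v : L} (hv : v ∈ H.w H.lz) (h0 : v ≠ 0)
    (a : Fin N) (ha : M.testBit a = true) : H.E (false, a) 1 v ≠ 0 := by
  simp only [chkTop, Bool.and_eq_true, List.all_eq_true, Bool.or_eq_true, Bool.not_eq_true', List.any_eq_true,
    List.mem_range, Nat.blt_eq] at h1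
  refine top_ne hv h0 (M := fun a => M.testBit a = true) (fun a ha => ?_) a ha
  have := a.2
  rcases h1.2 a a.2 with (h2 | h2) | ⟨β, hβ, a', ha', ⟨h2, h3⟩, h4⟩
  · rw [ha] at h2; exact absurd h2 (by simp)
  · exact Or.inl (hG a h2)
  · have h5 := h.nz hok (by omega) (by omega) h4
    rw [show β = ((⟨β, hβ⟩ : Fin N) : ℕ) from rfl, rc_pos, rc_neg] at h5
    exact Or.inr ⟨⟨β, hβ⟩, ⟨a', ha'⟩, h.cf_eq h3, h5, h2⟩

theorem top {G M : ℕ} (h1 : chkTop N rl ok G M = true)
    (hG : ∀ a : Fin N, G.testBit a = true → ¬ (p : ℤ) ∣ R.pair H.lz (true, a)) (μ : List ℤ) :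
    Bs H H.lz μ (M <<< N) := by
  intro c hc
  obtain ⟨v, hv, h0⟩ := H.isWt_iff.1 H.isWt_lz
  rw [Nat.testBit_shiftLeft, Bool.and_eq_true, decide_eq_true_eq] at hc
  have h2 : M < 2 ^ N := by
    rw [chkTop, Bool.and_eq_true, Nat.blt_eq] at h1
    exact h1.1
  have h3 := lt_of_bit h2 hc.2
  refine ⟨[], rfl, v, hv, ?_⟩
  rw [show c = N + ((⟨c - N, h3⟩ : Fin N) : ℕ) by simp only []; omega, rc_neg]
  exact h.top0 hok h1 hG hv h0 _ hc.2

theorem sec {G M G' M' : ℕ} {β : Fin N} (h1 : chkTop N rl ok G M = true) (h2 : chkSec l N rl ok G M β G' M' = true)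
    (hG : ∀ a : Fin N, G.testBit a = true → ¬ (p : ℤ) ∣ R.pair H.lz (true, a))
    (hG' : ∀ a : Fin N, G'.testBit a = true → ¬ (p : ℤ) ∣ R.pair (H.lz - R.wt (true, β)) (true, a)) (μ : List ℤ) :
    Bs H (H.lz - R.wt (true, β)) μ M' := by
  intro c hc
  obtain ⟨v, hv, h0⟩ := H.isWt_iff.1 H.isWt_lz
  simp only [chkSec, Bool.and_eq_true, List.all_eq_true, Bool.or_eq_true, Bool.not_eq_true', List.any_eq_true,
    List.mem_range, Nat.blt_eq, Nat.beq_eq] at h2
  obtain ⟨⟨⟨⟨h2, -⟩, h3⟩, h4⟩, h5⟩ := h2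
  have h6 := lt_of_bit h2 hc
  have h7 : H.E (false, β) 1 v ∈ H.w (H.lz - R.wt (true, β)) := by rw [sub_wt]; exact H.E1_w _ hv
  have := β.2
  refine ⟨[], rfl, ?_⟩
  by_cases h8 : c < N
  · rw [show c = ((⟨c, h8⟩ : Fin N) : ℕ) from rfl, rc_pos]
    rcases h4 c h8 with (h9 | ⟨rfl, h9⟩) | ⟨z, hz, ⟨h9, h10⟩, h11⟩
    · rw [hc] at h9; exact absurd h9 (by simp)
    · exact ⟨_, h7, ef_top hv h0 (hG β h9)⟩
    · have h12 := h.nz hok (by omega) (by omega) h11
      rw [show c = ((⟨c, h8⟩ : Fin N) : ℕ) from rfl, rc_pos, rc_neg] at h12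
      exact ⟨_, h7, br_top hv (h.cf_eq (c := ⟨z, hz⟩) h10) h12 (h.top0 hok h1 hG hv h0 _ h9)⟩
  · have h9 : c - N < N := by omega
    have h10 : c = N + ((⟨c - N, h9⟩ : Fin N) : ℕ) := by simp only []; omega
    rcases h5 (c - N) h9 with h11 | ⟨h11, j, hj, h12⟩
    · rw [show N + (c - N) = c by omega, hc] at h11; exact absurd h11 (by simp)
    · rw [h10, rc_neg]
      refine act_end hv (h.top0 hok h1 hG hv h0 _ h3) (j := ⟨j, hj⟩) ?_ (hG' _ h11)
      have h13 := congrFun (h.hrl β (by omega)).2 ⟨j, hj⟩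
      have h14 := congrFun (h.hrl (c - N) (by omega)).2 ⟨j, hj⟩
      rw [rc_pos, R.vec_true] at h13
      rw [show c - N = ((⟨c - N, h9⟩ : Fin N) : ℕ) from rfl, rc_pos, R.vec_true] at h14
      have h15 := isNeg_iff.1 h12
      simp only [tv] at h13 h14
      omega

end TB

end Cfsg.Agent.TwoF.DC.TF
end

-- part: TwoF/DC/TFG/Ct
section
/-!
# TwoF, defining characteristic, types G2 and F4 (3): quasi-minuscule modules, assembly of `Comb` (helper25)
-/

set_option autoImplicit false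
set_option linter.unusedSectionVars false
set_option linter.unusedVariables false

namespace Cfsg.Agent.TwoF.DC.TF

open Module TE

section qm

variable {ι Φ : Type} [Fintype ι] [DecidableEq ι] [Fintype Φ] [DecidableEq Φ]

/-- `σ` is the highest short root, `ω` its weight -/
structure QM (R : RC ι Φ) (sh : Φ → Prop) (σ : Φ) (ω : ι → ℕ) : Prop where
  wt : R.wt (true, σ) = fun i => (ω i : ℤ)
  hσ : sh σ
  sh_s : ∀ i b, sh b → b = R.zi i ∨ sh (R.s i b)
  dom : ∀ c : ι → ℕ, Dom ((fun i => (ω i : ℤ)) - R.toWt fun j => c j) →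
    (∀ j, c j = 0) ∨ ((fun i => (ω i : ℤ)) - R.toWt fun j => c j) = 0

namespace QM

variable {R : RC ι Φ} {sh : Φ → Prop} {σ : Φ} {ω : ι → ℕ} (Q : QM R sh σ ω) {p : ℕ} {k L : Type} [Field k]
  [AddCommGroup L] [Module k L] {H : HW R p k L} (hl : H.lam = ω)
include Q

theorem sh_sr (i : ι) {x : Bool × Φ} (h : sh x.2) : sh (R.sr i x).2 := by
  unfold RC.sr
  split_ifs with h1
  · exact h
  · exact (Q.sh_s i _ h).resolve_left h1

include hl

theorem lz_eq : H.lz = R.wt (true, σ) := by rw [Q.wt, ← hl]; rfl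

theorem wts {μ : ι → ℤ} (h : H.IsWt μ) : μ = 0 ∨ H.Ext μ := by
  refine H.isWt_mem (A := {μ | μ = 0 ∨ H.Ext μ}) (fun μ h1 h2 => ?_) (fun μ h1 i => ?_) h
  · obtain ⟨c, rfl⟩ := H.le_top μ h1
    rw [hl] at h2 ⊢
    rcases Q.dom c h2 with h3 | h3
    · right
      rw [show (fun j => (c j : ℤ)) = 0 from funext fun j => by rw [h3]; rfl, R.toWt_zero, sub_zero, ← hl]
      exact H.ext_lz
    · exact Or.inl h3
  · rcases h1 with rfl | h1
    · exact Or.inl (R.swl_zero [i])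
    · exact Or.inr (h1.sw i)

theorem ext {μ : ι → ℤ} (h : H.Ext μ) : ∃ x : Bool × Φ, sh x.2 ∧ μ = R.wt x :=
  h.mem (A := {μ | ∃ x : Bool × Φ, sh x.2 ∧ μ = R.wt x}) ⟨_, Q.hσ, Q.lz_eq hl⟩ fun _ ⟨x, h1, h2⟩ i =>
    ⟨_, Q.sh_sr i h1, by rw [h2, R.wt_sr]⟩

theorem m_le {μ : ι → ℤ} (h : μ ≠ 0) : H.m μ ≤ 1 := by
  by_cases h1 : H.IsWt μ
  · exact (((Q.wts hl h1).resolve_left h).m_eq).le
  · rw [H.isWt_iff_m] at h1; omega

theorem not_wt {b : Φ} {n : ℕ} (hn : 0 < n) (h : H.IsWt ((n : ℤ) • R.wt (true, b))) :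
    ∃ x : Bool × Φ, sh x.2 ∧ R.vec x = (n : ℤ) • R.vec (true, b) := by
  obtain ⟨x, h1, h2⟩ := Q.ext hl ((Q.wts hl h).resolve_left (smul_ne_zero (by omega) (R.wt_ne_zero _)))
  exact ⟨x, h1, R.toWt_inj (by rw [R.toWt_smul]; exact h2.symm)⟩

theorem not_wt' {b : Φ} (hb : ¬ sh b) {n : ℕ} (hn : 0 < n) : ¬ H.IsWt ((n : ℤ) • R.wt (true, b)) := fun h => by
  obtain ⟨x, h1, h2⟩ := Q.not_wt hl hn h
  rcases R.eq_or_ng_of_smul (x := (true, b)) (y := x) (m := 1) (n := n) one_ne_zero (by rw [one_smul, h2]) with rfl | rfl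
  · exact hb h1
  · exact hb h1

theorem w0_le {i i' : ι} (h : ∀ j, sh (R.zi j) → j = i ∨ j = i') :
    H.w 0 ≤ (H.w (R.wt (true, R.zi i))).map (H.E (false, R.zi i) 1) ⊔
      (H.w (R.wt (true, R.zi i'))).map (H.E (false, R.zi i') 1) := by
  refine (H.gen 0 fun h0 => R.wt_ne_zero _ ((Q.lz_eq hl).symm.trans h0.symm)).trans
    (iSup_le fun j => iSup_le fun n => iSup_le fun hn => ?_)
  rw [zero_add]
  by_cases h1 : H.IsWt ((n : ℤ) • R.wt (true, R.zi j))
  swap
  · rw [not_not.1 h1, Submodule.map_bot]; exact bot_le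
  obtain ⟨x, h2, h3⟩ := Q.not_wt hl hn h1
  have h4 : x = (true, R.zi j) := by
    rcases R.eq_or_ng_of_smul (x := (true, R.zi j)) (y := x) (m := 1) (n := n) one_ne_zero (by rw [one_smul, h3])
      with h4 | h4
    · exact h4
    · have h5 := congrFun h3 j
      rw [h4, R.vec_ng, R.vec_zi] at h5
      simp at h5
  have h5 := congrFun h3 j
  rw [h4, R.vec_zi] at h5
  obtain rfl : n = 1 := by simp at h5; omega
  rw [Nat.cast_one, one_smul]
  rcases h j (by rwa [h4] at h2) with rfl | rfl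
  · exact le_sup_left
  · exact le_sup_right

theorem m0_le {i i' : ι} (h : ∀ j, sh (R.zi j) → j = i ∨ j = i') : H.m 0 ≤ 2 := by
  have := H.fd
  refine (Submodule.finrank_mono (Q.w0_le hl h)).trans ((Submodule.finrank_add_le_finrank_add_finrank _ _).trans ?_)
  exact add_le_add ((Submodule.finrank_map_le _ _).trans (Q.m_le hl (R.wt_ne_zero _)))
    ((Submodule.finrank_map_le _ _).trans (Q.m_le hl (R.wt_ne_zero _)))

/-- one short node, characteristic two -/
theorem not_wt_zero [CharP k p] (hp : p = 2) {i : ι} (h : ∀ j, sh (R.zi j) → j = i) : ¬ H.IsWt 0 := by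
  have h1 : ∀ j, ¬ Act H 0 (true, R.zi j) := by
    rintro j ⟨v, hv, h0⟩
    by_cases h2 : j = i
    · subst h2
      have h3 := Q.w0_le hl (i := j) (i' := j) (fun j' hj => Or.inl (h j' hj)) hv
      rw [sup_idem] at h3
      obtain ⟨u, hu, rfl⟩ := h3
      by_cases h4 : u = 0
      · exact h0 (by rw [h4, map_zero, map_zero])
      have h5 := (Q.wts hl (H.isWt_of_mem hu h4)).resolve_left (R.wt_ne_zero _)
      obtain ⟨ε, hε⟩ := H.ef (R.zi j)
      have h6 := hε _ u hu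
      rw [h5.E_eq_zero (x := (true, R.zi j)) (by rw [R.pair_wt_self]; omega) Nat.one_pos hu, map_zero, sub_zero, R.pair_wt_self,
        (CharP.intCast_eq_zero_iff k p 2).2 (by rw [hp]; rfl), mul_zero, zero_smul] at h6
      exact h0 h6
    · have h3 := H.E1_w (true, R.zi j) hv
      rw [zero_add] at h3
      have h4 := Q.not_wt' hl (fun h4 => h2 (h j h4)) Nat.one_pos
      rw [Nat.cast_one, one_smul] at h4
      exact h4 (H.isWt_of_mem h3 h0)
  have h2 : ∀ (l : List ι) x, Act H 0 x → Act H 0 (R.srl l x) := fun l x hx => by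
    induction l with
    | nil => exact hx
    | cons j l ih =>
      have h3 := ih.sw j
      rwa [show R.sw j 0 = 0 from R.swl_zero [j]] at h3
  intro h3
  obtain ⟨v, hv, h0⟩ := H.isWt_iff.1 h3
  have h4 : v ∈ H.w H.lz := H.curtis v fun b => by
    by_contra h4
    obtain ⟨l, j, h5⟩ := R.exists_srl_zi (true, b)
    have h6 := h2 l.reverse _ ⟨v, hv, h4⟩
    rw [h5, R.srl_rev_srl] at h6
    exact h1 j h6
  have h5 := H.pr_of_ne hv (ν := H.lz) fun h => R.wt_ne_zero _ ((Q.lz_eq hl).symm.trans h.symm)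
  rw [H.pr_of_mem h4] at h5
  exact h0 h5

theorem sum_m_le (A : Finset (Bool × Φ)) : ∑ μ ∈ A.image R.wt, H.m μ ≤ A.card := by
  classical
  refine le_trans (Finset.sum_le_card_nsmul _ _ 1 fun μ hμ => ?_) (by simpa using Finset.card_image_le)
  obtain ⟨x, -, rfl⟩ := Finset.mem_image.1 hμ
  exact Q.m_le hl (R.wt_ne_zero _)

theorem cG_le (S : Finset Φ) (A : Finset (Bool × Φ))
    (hA : ∀ x : Bool × Φ, sh x.2 → x ∈ A ∨ ∀ b ∈ S, 0 ≤ R.pair (R.wt x) (true, b)) : H.cG S ≤ H.m 0 + A.card := by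
  classical
  refine (H.cG_le_sum S (insert 0 (A.image R.wt)) fun μ h1 h2 b hb n hn => ?_).trans ?_
  · rw [Finset.mem_insert, not_or] at h2
    have h3 := (Q.wts hl h1).resolve_left h2.1
    obtain ⟨x, h4, rfl⟩ := Q.ext hl h3
    exact h3.not_isWt ((hA x h4).resolve_left (fun h => h2.2 (Finset.mem_image_of_mem _ h)) b hb) (by omega)
  · rw [Finset.sum_insert fun h => by
      obtain ⟨x, -, h⟩ := Finset.mem_image.1 h
      exact R.wt_ne_zero x h]
    exact Nat.add_le_add_left (Q.sum_m_le hl A) _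

theorem cG_le' (S : Finset Φ) (hS : ¬ H.IsWt 0 ∨ ∀ b ∈ S, ¬ sh b) (A : Finset (Bool × Φ))
    (hA : ∀ x : Bool × Φ, sh x.2 → x ∈ A ∨ ∀ b ∈ S, 0 ≤ R.pair (R.wt x) (true, b)) : H.cG S ≤ A.card := by
  classical
  refine (H.cG_le_sum S (A.image R.wt) fun μ h1 h2 b hb n hn => ?_).trans (Q.sum_m_le hl A)
  rcases Q.wts hl h1 with rfl | h3
  · rw [zero_add]
    exact Q.not_wt' hl (hS.resolve_left (not_not.2 h1) b hb) hn
  · obtain ⟨x, h4, rfl⟩ := Q.ext hl h3
    exact h3.not_isWt ((hA x h4).resolve_left (fun h => h2 (Finset.mem_image_of_mem _ h)) b hb) (by omega)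

theorem d_le (A : Finset (Bool × Φ)) (hA : ∀ x : Bool × Φ, sh x.2 → x ∈ A) : H.d ≤ H.m 0 + A.card := by
  classical
  refine (H.d_le_sum (insert 0 (A.image R.wt)) fun μ h1 => ?_).trans ?_
  · rcases Q.wts hl h1 with rfl | h3
    · exact Finset.mem_insert_self _ _
    · obtain ⟨x, h4, rfl⟩ := Q.ext hl h3
      exact Finset.mem_insert_of_mem (Finset.mem_image_of_mem _ (hA x h4))
  · rw [Finset.sum_insert fun h => by
      obtain ⟨x, -, h⟩ := Finset.mem_image.1 h
      exact R.wt_ne_zero x h]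
    exact Nat.add_le_add_left (Q.sum_m_le hl A) _

theorem lev {h : ι → ℤ} (h0 : ∀ i, 0 ≤ h i) (h1 : ∀ b, sh b → R.hv h b ≤ R.hv h σ) {μ : ι → ℤ} (hμ : H.IsWt μ) :
    0 ≤ H.lev h μ ∧ H.lev h μ ≤ 2 * R.hv h σ := by
  refine ⟨H.lev_nonneg h0 hμ, ?_⟩
  have h2 : ∀ b, 0 ≤ R.hv h b := fun b => Finset.sum_nonneg fun i _ => mul_nonneg (h0 i) (Int.natCast_nonneg _)
  rcases Q.wts hl hμ with rfl | h3
  · rw [HW.lev, H.dep_eq (c := R.vec (true, σ)) (by rw [Q.lz_eq hl, RC.wt, sub_self]), ← R.hv_eq]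
    have := h2 σ
    omega
  · obtain ⟨⟨s, b⟩, h4, rfl⟩ := Q.ext hl h3
    rw [HW.lev, H.dep_eq (c := R.vec (true, σ) - R.vec (s, b)) (by
      rw [Q.lz_eq hl, R.toWt_sub, RC.wt, RC.wt, sub_sub_cancel]), hd_sub, ← R.hv_eq]
    have := h1 b h4
    have := h2 b
    have := h2 σ
    cases s
    · rw [R.vec_false', hd_neg, ← R.hv_eq]; omega
    · rw [← R.hv_eq]; omega

theorem cubic {h : ι → ℤ} (h0 : ∀ i, 0 ≤ h i) (h1 : ∀ b, sh b → R.hv h b ≤ R.hv h σ) {t : ℤ} (ht : 2 * R.hv h σ < 3 * t)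
    {S : Finset Φ} (hS : ∀ b ∈ S, t ≤ R.hv h b) : (∀ a ∈ S, ∀ b ∈ S, ∀ c ∈ S, ∀ l m n, 0 < l → 0 < m → 0 < n →
      H.E (true, a) l * H.E (true, b) m * H.E (true, c) n = 0) ∧ ∀ b ∈ S, ∀ n, 3 ≤ n → H.E (true, b) n = 0 := by
  have h2 : ∀ μ, H.IsWt μ → 0 ≤ H.lev h μ ∧ H.lev h μ < 0 + 3 * t := fun μ hμ => by
    have := Q.lev hl h0 h1 hμ
    omega
  refine ⟨H.cubic_of_lev S h hS h2, fun b hb n hn => H.E_eq_zero_of_lev b h h2 ?_⟩
  have h3 : 0 ≤ R.hv h σ := Finset.sum_nonneg fun i _ => mul_nonneg (h0 i) (Int.natCast_nonneg _)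
  have := hS b hb
  nlinarith

end QM

end qm

section ct

variable {p : ℕ} {ι Φ k G : Type} [Fintype ι] [DecidableEq ι] [Fintype Φ] [DecidableEq Φ] [Field k] [Group G]

theorem comm_of_hv (D : RDat p ι Φ k G) {h : ι → ℤ} {t : ℤ} (ht : 0 < t) (h1 : ∀ a, D.R.hv h a < 2 * t) {b b' : Φ}
    (hb : t ≤ D.R.hv h b) (hb' : t ≤ D.R.hv h b') (s u : k) : Commute (D.z b s) (D.z b' u) := by
  have h2 := D.cm b b' s u
  rw [Set.eq_empty_of_forall_notMem (s := {g | ∃ a u, _ ∧ g = D.z a u}), Subgroup.closure_empty, Subgroup.mem_bot,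
    mul_inv_eq_one, mul_inv_eq_iff_eq_mul] at h2
  · exact h2
  rintro _ ⟨a, u, ⟨m, n, hm, hn, h3⟩, -⟩
  have h4 : D.R.hv h a = m * D.R.hv h b + n * D.R.hv h b' := by
    simp only [RC.hv, h3, Finset.mul_sum, ← Finset.sum_add_distrib, Pi.add_apply, Pi.smul_apply, smul_eq_mul]
    exact Finset.sum_congr rfl fun i _ => by push_cast; ring
  have := h1 a
  nlinarith

/-- the modules are large, with one exception; `e = 1` or `0` -/
def Dich (R : RC ι Φ) (p : ℕ) (k : Type) [Field k] (ok : (ι → ℕ) → Prop) (ω : ι → ℕ) (e : ℕ) : Prop :=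
  ∀ (L : Type) [AddCommGroup L] [Module k L] (H : HW R p k L), ok H.lam → 6 ≤ H.d ∧ (∀ b, H.E (true, b) 1 ≠ 0) ∧
    ∀ S : Finset Φ, S.Nonempty → R.Ab p S → R.Idl p S → 2 * S.card < H.cL S ∨ (H.lam = ω ∧ S.card + e ≤ H.cL S)

variable {D : RDat p ι Φ k G} {ok : (ι → ℕ) → Prop} {ω : ι → ℕ} {e : ℕ}

theorem Dich.fam (h : Dich D.R p k ok ω e) {σ : Equiv.Perm ι} (F : Fam D σ) (hok : ∀ j, ok (F.H j).lam) {S : Finset Φ}
    (hS : S.Nonempty) (hA : D.R.Ab p S) (hI : D.R.Idl p S) (hv : F.val S ≤ 4 * S.card) :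
    (∀ j, (F.H j).lam = ω ∧ F.dbl j = false) ∧ Fintype.card F.J * (S.card + e) ≤ 2 * S.card := by
  have h1 : ∀ j, (F.H j).lam = ω ∧ S.card + e ≤ (F.H j).cL S := fun j =>
    ((h _ (F.H j) (hok j)).2.2 S hS hA hI).resolve_left fun h1 => by
      have := one_le_val F S j
      omega
  refine ⟨fun j => ⟨(h1 j).1, ?_⟩, ?_⟩
  · by_contra h2
    have h3 := le_trans (Finset.single_le_sum (f := fun j => if F.dbl j then
      (F.H j).cL S * (2 * (F.H j).d - (F.H j).cL S) else 2 * (F.H j).cL S) (fun _ _ => Nat.zero_le _)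
      (Finset.mem_univ j)) hv
    rw [if_pos (by simpa using h2)] at h3
    have h4 := (h _ (F.H j) (hok j)).1
    have h5 := (F.H j).cL_lt_d S
    have h6 := (h1 j).2
    have h7 := hS.card_pos
    have h8 := Nat.mul_le_mul_left ((F.H j).cL S) (show 5 ≤ 2 * (F.H j).d - (F.H j).cL S by omega)
    omega
  · have h2 := (Finset.card_nsmul_le_sum Finset.univ (fun j => 2 * (F.H j).cL S) (2 * (S.card + e))
      fun j _ => Nat.mul_le_mul_left 2 (h1 j).2).trans ((two_cL_le_val F S).trans hv)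
    rw [Finset.card_univ, smul_eq_mul] at h2
    linarith only [h2]

theorem Dich.ctf (h : Dich D.R p k ok ω e) (σ : Equiv.Perm ι) (Q : Fam D σ → Prop) : CTF D ok σ Q := by
  intro J _ _ L _ _ H rep hok S hA hI sl hsl _ h1
  exfalso
  obtain ⟨j⟩ := ‹Nonempty J›
  have h2 := le_trans (Finset.single_le_sum (f := fun j => (H j).d * ((H j).d - 1) + if S.Nonempty then 2 else 0)
    (fun _ _ => Nat.zero_le _) (Finset.mem_univ j)) h1
  obtain ⟨h3, -, h4⟩ := h _ (H j) (hok j)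
  obtain ⟨c, hc⟩ := Nat.exists_eq_add_of_le h3
  have h5 : S.card ≤ 5 + c := by
    by_cases hS : S.Nonempty
    · have := (H j).cL_lt_d S
      rcases h4 S hS hA hI with h5 | h5 <;> omega
    · rw [Finset.not_nonempty_iff_eq_empty.mp hS]; simp
  simp only [hc, show 6 + c - 1 = 5 + c by omega] at h2
  nlinarith only [hsl, h5, h2, Nat.zero_le (if S.Nonempty then 2 else 0)]

theorem good_of {σ : Equiv.Perm ι} (F : Fam D σ) (hd : ∀ j, F.dbl j = false) {S : Finset Φ} (hS : S.Nonempty)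
    (hc : ∀ b ∈ S, ∀ b' ∈ S, ∀ s t, Commute (D.z b s) (D.z b' t))
    (h3 : ∀ j, ∀ a ∈ S, ∀ b ∈ S, ∀ c ∈ S, ∀ l m n, 0 < l → 0 < m → 0 < n →
      (F.H j).E (true, a) l * (F.H j).E (true, b) m * (F.H j).E (true, c) n = 0)
    (hv : ∑ j, 2 * (F.H j).cG S ≤ 4 * S.card) : F.Good 1 :=
  ⟨S, hS, fun b hb => hb, hc, fun j _ => h3 j, fun j hj => by rw [hd j] at hj; exact absurd hj (by simp), by
    simpa only [Fam.valG, hd, Bool.false_eq_true, if_false] using hv⟩

theorem good_fix {σ : Equiv.Perm ι} (F : Fam D σ) (hd : ∀ j, F.dbl j = false) {S : Finset Φ} (hS : S.Nonempty)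
    (hc : ∀ b ∈ S, ∀ b' ∈ S, ∀ s t, Commute (D.z b s) (D.z b' t))
    (h3 : ∀ j, ∀ a ∈ S, ∀ b ∈ S, ∀ c ∈ S, ∀ l m n, 0 < l → 0 < m → 0 < n →
      (F.H j).E (true, a) l * (F.H j).E (true, b) m * (F.H j).E (true, c) n = 0)
    {c : ℕ} (h4 : ∀ j, (F.H j).cG S ≤ c) (h5 : Fintype.card F.J * c ≤ 2 * S.card) : F.Good 1 := by
  refine good_of F hd hS hc h3 ((Finset.sum_le_card_nsmul _ _ (2 * c) fun j _ => Nat.mul_le_mul_left 2 (h4 j)).trans ?_)
  rw [Finset.card_univ, smul_eq_mul]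
  linarith only [h5]

/-- the conclusion for the exceptional module -/
def Gd (D : RDat p ι Φ k G) (ω : ι → ℕ) (e : ℕ) : Prop :=
  ∀ (σ : Equiv.Perm ι) (F : Fam D σ), (∀ j, (F.H j).lam = ω ∧ F.dbl j = false) → ∀ S : Finset Φ, S.Nonempty →
    D.R.Ab p S → D.R.Idl p S → F.val S ≤ 4 * S.card → Fintype.card F.J * (S.card + e) ≤ 2 * S.card → F.Good 1

theorem comb_of (P : Tws D) (hG : ∀ γ : P.Gr, γ = 1) (hex : ∃ l : ι → ℕ, (∀ i, l i < p) ∧ l ≠ 0 ∧ ok l)
    (h : Dich D.R p k ok ω e) (hg : Gd D ω e) : P.Comb ok where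
  ex := hex
  ok_gr γ l hl := by rw [hG γ, map_one]; exact hl
  faith L _ _ H hH := (h L H hH).2.1
  ct F hok _ _ S hS hA hI hv := by
    obtain ⟨h1, h2⟩ := h.fam F hok hS hA hI hv
    left
    rw [show P.gΦ P.σ = 1 by rw [hG P.σ, map_one]]
    exact hg _ F h1 S hS hA hI hv h2
  bg γ h1 := (h1 (hG γ)).elim
  ctg γ h1 := (h1 (hG γ)).elim
  ctf _ := h.ctf _ _
  eight := fun ⟨γ, γ', h1⟩ => (h1 (by rw [hG γ]; exact Commute.one_left _)).elim

end ct

section tb

variable {l N : ℕ} [NeZero N] {R : RC (Fin l) (Fin N)} {p : ℕ} {k L : Type} [Field k] [AddCommGroup L] [Module k L]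
  {H : HW R p k L}

theorem ne_of_orb {ν : Fin l → ℤ} {W : List WE} (h : ∀ S I, Msk S I → Orb H S ν (cnt I W))
    (h1 : ∀ b : Fin N, 0 < cnt (2 ^ (b : ℕ)) W) (b : Fin N) : H.E (true, b) 1 ≠ 0 := by
  obtain ⟨A, h2, h3⟩ := h _ _ (msk_single b)
  obtain ⟨μ, hμ⟩ := Finset.card_pos.1 (h2 ▸ h1 b)
  obtain ⟨b', h4, h5⟩ := (h3 μ hμ).2
  rw [← Finset.mem_singleton.1 h4]
  exact h5.ne

theorem d_of_orb {ν : Fin l → ℤ} {W : List WE} (h : ∀ S I, Msk S I → Orb H S ν (cnt I W)) :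
    cnt (2 ^ N - 1) W < H.d := lt_of_le_of_lt (h _ _ (msk_univ N)).le1 (H.cL_lt_d _)

/-- the base mask consists of simple roots of nodes with nonzero coordinate -/
theorem hG_zi {G : ℕ} (h : ∀ a : Fin N, G.testBit a = true → ∃ j, H.lam j ≠ 0 ∧ a = R.zi j) (a : Fin N)
    (ha : G.testBit a = true) : ¬ (p : ℤ) ∣ R.pair H.lz (true, a) := by
  obtain ⟨j, h1, rfl⟩ := h a ha
  rw [R.pair_zi, H.lz_apply, Int.natCast_dvd_natCast]
  exact Nat.not_dvd_of_pos_of_lt (Nat.pos_of_ne_zero h1) (H.lam_lt j)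

theorem of_en {n c m : ℕ} (hn : 0 < n) (h : (n.beq 0 || (m * n).blt c) = true) : m * n < c := by
  rw [Bool.or_eq_true, Nat.beq_eq, Nat.blt_eq] at h
  omega

theorem Msk.sub {S : Finset (Fin N)} {I J : ℕ} (h : Msk S I) (h' : ∀ b ∈ S, J.testBit b = true) : sub I J = true := by
  refine Nat.beq_eq.mpr (Nat.eq_of_testBit_eq fun m => ?_)
  rw [Nat.testBit_and]
  cases h1 : I.testBit m
  · rfl
  · obtain ⟨h2, h3⟩ := (h m).1 h1
    exact h' _ h3

end tb

end Cfsg.Agent.TwoF.DC.TF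
end

private theorem dce_4a3b0ecaa00a : _root_.True := by
  try have : _root_.True := by simp only [_root_.Cfsg.Agent.TwoF.DC.TF.rc.eq_1]
  try have : _root_.True := by simp only [_root_.Cfsg.Agent.TwoF.DC.TF.chkT.eq_2]
  try have : _root_.True := by simp only [_root_.Cfsg.Agent.TwoF.DC.TF.rt.eq_1]
  try have : _root_.True := by simp only [_root_.Cfsg.Agent.TwoF.DC.TF.chkT.eq_def]
  try have : _root_.True := by simp only [_root_.Cfsg.Agent.TwoF.DC.TF.img.eq_1]
  try have : _root_.True := by simp only [_root_.Cfsg.Agent.TwoF.DC.Fam.valG.eq_1]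
  try have : _root_.True := by simp only [_root_.Cfsg.Agent.TwoF.DC.TF.chkE.eq_1]
  try have : _root_.True := by simp only [_root_.Cfsg.Agent.TwoF.DC.TF.ad.eq_1]
  try have : _root_.True := by simp only [_root_.Cfsg.Agent.TwoF.DC.TF.nzb.eq_1]
  try have : _root_.True := by simp only [_root_.Cfsg.Agent.TwoF.DC.TF.chkTop.eq_1]
  try have : _root_.True := by simp only [_root_.Cfsg.Agent.TwoF.DC.TF.img.eq_def]
  try have : _root_.True := by simp only [_root_.Cfsg.Agent.TwoF.DC.TF.chkSec.eq_1]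
  try have : _root_.True := by simp only [_root_.Cfsg.Agent.TwoF.DC.TF.chkT.eq_1]
  try have : _root_.True := by simp only [_root_.Cfsg.Agent.TwoF.DC.TF.rc.congr_simp]
  try have : _root_.True := by simp only [_root_.Cfsg.Agent.TwoF.DC.TF.img.eq_2]
  try have : _root_.True := by simp only [_root_.Cfsg.Agent.TwoF.DC.TF.chkC.eq_2]
  try have : _root_.True := by simp only [_root_.Cfsg.Agent.TwoF.DC.TF.chkC.eq_def]
  try have : _root_.True := by simp only [_root_.Cfsg.Agent.TwoF.DC.TF.chkC.eq_1]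
  try have : _root_.True := by simp only [_root_.Cfsg.Agent.TwoF.DC.TF.rg.eq_1]
  exact _root_.True.intro
end

-- part: TwoF/DC/TC/ShortB
section
prune_inst 0x4f1307d447d62100000180596f30002243c00019200608000b8e00642014f53608543a9414e001c12182e92001801012813540080c20000000a0034000007012010a84200b208030c280096803083100000000000000000000000000000051004000000000
set_option linter.all false
open scoped Cfsg.Agent.FastGrp

-- part: TwoF/DC/TC/ShortA
section
/-!
# TwoF, defining characteristic, type C, `p = 2`, no spin factor (1): roots (helper89)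

A sum of two roots which is a short root has a nonzero structure constant; chains; the shape of the abelian ideals.
-/

set_option autoImplicit false
set_option linter.unusedSectionVars false

namespace Cfsg.Agent.TwoF.DC.TC.Sht

open Finset Matrix Sum

variable {m : ℕ}

theorem nrm_rv (b : PR m) : rv b ⬝ᵥ rv b = if b.1.1 = b.1.2 then 4 else 2 := by
  have := b.2
  rw [rv_dot, rv, xv_add, xv_add]
  simp only [xv_wv', ps_eq]
  (first | (lia; done) | (split_ifs <;> omega))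

theorem nrm_rx (x : Bool × PR m) : (eC m).rx x ⬝ᵥ (eC m).rx x = if x.2.1.1 = x.2.1.2 then 4 else 2 := by
  obtain ⟨_ | _, b⟩ := x
  · exact (neg_dotProduct_neg _ _).trans (nrm_rv b)
  · exact nrm_rv b

/-- a short sum has a nonzero structure constant -/
theorem nz_sh {x y z : Bool × PR m} (h : (eC m).rx z = (eC m).rx x + (eC m).rx y) (hz : z.2.1.1 ≠ z.2.1.2) :
    (eC m).rc.NZ 2 x y := by
  refine (eC m).rc.nz_of_zero (by decide) (((eC m).isRt_iff _).2 ⟨z, by rw [Euc.E_add, Euc.E_vec, Euc.E_vec, h]⟩)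
    fun h' => ?_
  obtain ⟨w, hw⟩ := ((eC m).isRt_iff _).1 h'
  rw [Euc.E_sub, Euc.E_vec, Euc.E_vec] at hw
  have h1 := nrm_rx x
  have h2 := nrm_rx y
  have h3 := nrm_rx w
  have h4 := nrm_rx z
  rw [hw, sub_dotProduct, dotProduct_sub, dotProduct_sub] at h3
  rw [h, if_neg hz, add_dotProduct, dotProduct_add, dotProduct_add] at h4
  split_ifs at h1 h2 h3 <;> omega

theorem mn_sh {i j : Fin m} (h : i < j) : (mn i j h).1.1 ≠ (mn i j h).1.2 := by simp [mn]
theorem pl_sh {i j : Fin m} (h : i ≤ j) (h' : i ≠ j) : (pl i j h).1.1 ≠ (pl i j h).1.2 := by simpa [pl] using h'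

theorem co_mn {i l : Fin m} (h : i < l) (j : Fin m) : 0 < (eC m).rc.co (mn i l h) j ↔ i ≤ j ∧ j < l := by
  have h1 := coC_eq (mn i l h) j
  rw [PS_cv, PS_wv, PS_wv] at h1
  show 0 < coC _ _ ↔ _
  simp only [mn, ps, Fin.le_def, Fin.lt_def] at h h1 ⊢
  (first | (lia; done) | (split_ifs at h1 <;> omega))

theorem co_pl {i l : Fin m} (h : i ≤ l) (j : Fin m) (h0 : 0 < (eC m).rc.co (pl i l h) j) : i ≤ j := by
  have h1 := coC_eq (pl i l h) j
  rw [PS_cv, PS_wv, PS_wv] at h1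
  change 0 < coC _ _ at h0
  simp only [pl, ps, Fin.le_def] at h h0 h1 ⊢
  (first | (lia; done) | (split_ifs at h1 <;> omega))

/-- the chain condition for the short nodes -/
theorem ch_two : (eC m).rc.Ch 2 fun j => j.1 + 1 < m := by
  refine (eC m).rc.ch_of_step fun a j hj h0 => ?_
  have key : ∀ (β : PR m) (i l : Fin m) (h : i < l), rv a = rv β + rv (mn i l h) → i ≤ j → j < l →
      ∃ β a', (eC m).rc.cf a = (eC m).rc.cf β + (eC m).rc.cf a' ∧ (eC m).rc.NZ 2 (true, β) (false, a) ∧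
        0 < (eC m).rc.co a' j := fun β i l h e h1 h2 =>
    ⟨β, _, (eC m).cf_add_iff'.2 e, nz_sh (z := (false, mn i l h)) (by
      show -rv _ = rv β + -rv a
      rw [e]; abel) (mn_sh h), (co_mn h j).2 ⟨h1, h2⟩⟩
  by_cases ha : a ∈ Sie m
  · obtain ⟨i, l, h, rfl⟩ := exists_pl ha
    have h1 := co_pl h j h0
    have h2 : j < ⟨m - 1, by omega⟩ := by rw [Fin.lt_def]; simp only; omega
    exact Or.inr (key (pl l ⟨m - 1, by omega⟩ (by rw [Fin.le_def]; simp only; omega)) i _ (h1.trans_lt h2)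
      (by rw [rv_pl, rv_pl, rv_mn]; abel) h1 h2)
  obtain ⟨i, l, h, rfl⟩ := exists_mn ha
  obtain ⟨h1, h2⟩ := (co_mn h j).1 h0
  rcases h1.eq_or_lt with rfl | h1
  · by_cases h3 : i.1 + 1 = l
    · exact Or.inl (PR.ext' rfl (by show 2 * m - 1 - l = ps (nb i); rw [ps_nb]; omega))
    · have h4 : i < ⟨i.1 + 1, hj⟩ := Nat.lt_succ_self _
      exact Or.inr (key (mn ⟨i.1 + 1, hj⟩ l (by rw [Fin.lt_def] at h ⊢; simp only; omega)) i _ h4
        (by rw [rv_mn, rv_mn, rv_mn]; abel) le_rfl h4)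
  · exact Or.inr (key (mn i j h1) j l h2 (by rw [rv_mn, rv_mn, rv_mn]; abel) le_rfl h2)

theorem s_pl' {i j : Fin m} (h : i < j) (hj : j.1 + 1 < m) :
    (eC m).rc.s j (pl i j h.le) = pl i ⟨j.1 + 1, hj⟩ (h.le.trans (Nat.le_succ _)) := by
  have h0 := Fin.lt_def.1 h
  have h1 : rI j (inl j) = inl ⟨j.1 + 1, hj⟩ := ps_inj (by rw [ps_rI, if_pos (ps_inl j)]; rfl)
  have h2 : rI j (inl i) = inl i := ps_inj (by rw [ps_rI, ps_inl]; (first | (lia; done) | (split_ifs <;> omega)))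
  refine rv_inj ?_
  show rv (mkR (rI j (inl i)) (rI j (inl j)) _) = _
  rw [h1, h2, rv_mkR (by simp only [ps]; omega)]
  rfl

section shape

variable {S : Finset (PR m)}

theorem idl (hI : (eC m).rc.Idl 2 S) {a b : PR m} (β : PR m) (hb : b ∈ S) (h : rv a = rv β + rv b)
    (ha : a.1.1 ≠ a.1.2) : a ∈ S :=
  hI b hb β a ((eC m).cf_add_iff'.2 h) (nz_sh (z := (true, a)) h ha)

theorem ab (hA : (eC m).rc.Ab 2 S) {b b' : PR m} (a : PR m) (hb : b ∈ S) (hb' : b' ∈ S) (h : rv a = rv b + rv b')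
    (ha : a.1.1 ≠ a.1.2) : False :=
  hA b hb b' hb' (nz_sh (z := (true, a)) h ha)

theorem pl_of_mn (hI : (eC m).rc.Idl 2 S) {i j l : Fin m} {h : i < j} (hb : mn i j h ∈ S) (hl : i < l) :
    pl i l hl.le ∈ S := by
  rcases le_total j l with e | e
  · exact idl hI (pl j l e) hb (by rw [rv_pl, rv_pl, rv_mn]; abel) (pl_sh _ hl.ne)
  · exact idl hI (pl l j e) hb (by rw [rv_pl, rv_pl, rv_mn]; abel) (pl_sh _ hl.ne)

/-- the data used for the counts: `S` contains the roots `ε_o + ε_l`, and it is small -/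
structure Shp (o l : Fin m) (S : Finset (PR m)) : Prop where
  mem : ∀ j (h : o < j), pl o j h.le ∈ S
  card : S.card + m ≤ (Sie m).card ∨ (∃ h, mn o l h ∈ S) ∧ S.card + m ≤ (Sie m).card + 2

variable {o l : Fin m} (ho : o.1 = 0) (hl : l.1 + 1 = m)
include ho hl

theorem shp_of_notSub (hA : (eC m).rc.Ab 2 S) (hI : (eC m).rc.Idl 2 S) (h : ¬ S ⊆ Sie m) : Shp o l S := by
  have le : ∀ i, i ≤ l := fun i => by rw [Fin.le_def]; omega
  have fst : ∀ i j h, mn i j h ∈ S → i = o := fun i j h hb => by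
    by_contra e
    have h1 : o < i := by have := Fin.val_ne_of_ne e; rw [Fin.lt_def]; omega
    have h2 : mn o j (h1.trans h) ∈ S := idl hI (mn o i h1) hb (by rw [rv_mn, rv_mn, rv_mn]; abel) (mn_sh _)
    exact ab hA (pl o i h1.le) hb (pl_of_mn hI h2 (h1.trans h)) (by rw [rv_pl, rv_pl, rv_mn]; abel) (pl_sh _ h1.ne)
  have no : ∀ j h, mn o j h ∈ S → ∀ a (e : a ≤ j), o < a → pl a j e ∉ S := fun j h hb a e ha hb' =>
    ab hA (pl o a ha.le) hb hb' (by rw [rv_pl, rv_pl, rv_mn]; abel) (pl_sh _ ha.ne)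
  obtain ⟨b, hb, hb'⟩ := not_subset.1 h
  obtain ⟨i, j, h, rfl⟩ := exists_mn hb'
  obtain rfl := fst i j h hb
  have hil : i < l := h.trans_le (le j)
  have h1 : mn i l hil ∈ S := by
    rcases (le j).eq_or_lt with rfl | e
    · exact hb
    · exact idl hI (mn j l e) hb (by rw [rv_mn, rv_mn, rv_mn]; abel) (mn_sh _)
  refine ⟨fun j h => pl_of_mn hI h1 h, Or.inr ⟨⟨hil, h1⟩, ?_⟩⟩
  let ψ : PR m ⊕ Fin m → PR m := Sum.elim (fun b => if b ∈ Sie m then b else mkR b.1.2.swap b.1.2.swap b)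
    fun a => pl a l (le a)
  have e1 : ∀ a b h, ψ (inl (pl a b h)) = pl a b h := fun a b h => if_pos (pl_mem a b h)
  have e2 : ∀ a b h, ψ (inl (mn a b h)) = pl b b le_rfl := fun a b h =>
    (if_neg (mn_notMem a b h)).trans (rv_inj (rv_mkR (by simp only [mn, swap_inr, ps]; omega) _))
  have e3 : ∀ a, ψ (inr a) = pl a l (le a) := fun _ => rfl
  have cs : ∀ b ∈ S, (∃ a c h, b = pl a c h) ∨ ∃ c h, b = mn i c h := fun b hb => by
    by_cases e : b ∈ Sie m
    · exact Or.inl (exists_pl e)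
    · obtain ⟨a, c, h', rfl⟩ := exists_mn e
      obtain rfl := fst a c h' hb
      exact Or.inr ⟨c, h', rfl⟩
  have mix : ∀ b ∈ S, ∀ a ∈ Ioo i l, ψ (inl b) ≠ ψ (inr a) := fun b hb a ha e => by
    rw [mem_Ioo] at ha
    rcases cs b hb with ⟨a', c, h, rfl⟩ | ⟨c, h, rfl⟩
    · rw [e1, e3] at e
      exact no l hil h1 a _ ha.1 (e ▸ hb)
    · rw [e2, e3, pl_inj] at e
      exact ha.2.ne (e.1.symm.trans e.2)
  have h2 : (S.disjSum (Ioo i l)).card ≤ (Sie m).card := by
    refine card_le_card_of_injOn ψ (fun z hz => ?_) fun z hz z' hz' e => ?_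
    · rcases mem_disjSum.1 (mem_coe.1 hz) with ⟨b, hb, rfl⟩ | ⟨a, -, rfl⟩
      · rcases cs b hb with ⟨a', c, h, rfl⟩ | ⟨c, h, rfl⟩
        · rw [e1]; exact pl_mem _ _ _
        · rw [e2]; exact pl_mem _ _ _
      · exact pl_mem a l (le a)
    · rcases mem_disjSum.1 (mem_coe.1 hz) with ⟨b, hb, rfl⟩ | ⟨a, ha, rfl⟩ <;>
        rcases mem_disjSum.1 (mem_coe.1 hz') with ⟨b', hb', rfl⟩ | ⟨a', ha', rfl⟩
      · rcases cs b hb with ⟨a, c, h, rfl⟩ | ⟨c, h, rfl⟩ <;> rcases cs b' hb' with ⟨a', c', h', rfl⟩ | ⟨c', h', rfl⟩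
        · rw [e1, e1] at e; rw [e]
        · rw [e1, e2] at e; exact (no c' h' hb' c' le_rfl h' (e ▸ hb)).elim
        · rw [e1, e2] at e; exact (no c h hb c le_rfl h (e ▸ hb')).elim
        · rw [e2, e2, pl_inj] at e
          obtain ⟨rfl, -⟩ := e
          rfl
      · exact (mix b hb a' ha' e).elim
      · exact (mix b' hb' a ha e.symm).elim
      · rw [e3, e3, pl_inj] at e; rw [e.1]
  rw [card_disjSum, Fin.card_Ioo] at h2
  have := Fin.lt_def.1 hil
  omega

theorem shp_of_sub (hI : (eC m).rc.Idl 2 S) (hS : S ⊆ Sie m) (hne : S.Nonempty)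
    (hs : ∀ j : Fin m, j.1 + 1 < m → ∀ b ∈ S, (eC m).rc.s j b ∈ S) : S = Sie m ∨ Shp o l S := by
  by_cases h0 : ∃ i, pl i i le_rfl ∈ S
  · left
    obtain ⟨i, hi⟩ := h0
    have st : ∀ (n : ℕ) (h : n + 1 < m), pl ⟨n, by omega⟩ ⟨n, by omega⟩ le_rfl ∈ S ↔ pl ⟨n + 1, h⟩ ⟨n + 1, h⟩ le_rfl ∈ S :=
      fun n h => ⟨fun e => s_pl (j := ⟨n, by omega⟩) h ▸ hs ⟨n, by omega⟩ h _ e, fun e => by
        have h1 := hs ⟨n, by omega⟩ h _ e
        rwa [← s_pl (j := ⟨n, by omega⟩) h, (eC m).rc.s_s _ fun e =>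
          (s_mem_Sie (l := l) (by omega) (j := ⟨n, by omega⟩) h).1 (e ▸ pl_mem _ _ _)] at h1⟩
    have key : ∀ (n : ℕ) (h : n < m), pl ⟨n, h⟩ ⟨n, h⟩ le_rfl ∈ S ↔ pl o o le_rfl ∈ S := by
      intro n
      induction n with
      | zero => intro h; rw [show o = ⟨0, h⟩ from Fin.ext ho]
      | succ n ih => exact fun h => (st n h).symm.trans (ih _)
    refine hS.antisymm fun b hb => ?_
    obtain ⟨a, c, h, rfl⟩ := exists_pl hb
    have h1 : pl c c le_rfl ∈ S := (key c c.2).2 ((key i i.2).1 hi)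
    rcases h.eq_or_lt with rfl | h
    · exact h1
    · exact idl hI (mn a c h) h1 (by rw [rv_pl, rv_pl, rv_mn]; abel) (pl_sh _ h.ne)
  right
  push Not at h0
  obtain ⟨b, hb⟩ := hne
  obtain ⟨i, j, h, rfl⟩ := exists_pl (hS hb)
  have hij : i < j := lt_of_le_of_ne h fun e => h0 i (by subst e; exact hb)
  have hoi : o ≤ i := by rw [Fin.le_def]; omega
  have h1 : pl o j (hoi.trans h) ∈ S := by
    rcases hoi.eq_or_lt with rfl | e
    · exact hb
    · exact idl hI (mn o i e) hb (by rw [rv_pl, rv_pl, rv_mn]; abel) (pl_sh _ (e.trans hij).ne)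
  have key : ∀ (n : ℕ) (h : n + 1 < m), pl o ⟨n + 1, h⟩ (by rw [Fin.le_def]; omega) ∈ S := by
    intro n
    induction n with
    | zero =>
      intro h
      have h2 : (⟨0 + 1, h⟩ : Fin m) ≤ j := by
        have := Fin.lt_def.1 hij
        rw [Fin.le_def]; simp only; omega
      rcases h2.eq_or_lt with e | e
      · subst e; exact h1
      · exact idl hI (mn _ j e) h1 (by rw [rv_pl, rv_pl, rv_mn]; abel) (pl_sh _ (Fin.ne_of_val_ne (by simp only; omega)))
    | succ n ih =>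
      intro h
      have h2 : o < ⟨n + 1, by omega⟩ := by rw [Fin.lt_def]; simp only; omega
      exact s_pl' h2 h ▸ hs ⟨n + 1, by omega⟩ h _ (ih _)
  refine ⟨fun ⟨j, hj⟩ h => ?_, Or.inl ?_⟩
  · obtain ⟨n, rfl⟩ : ∃ n, j = n + 1 := ⟨j - 1, by have := Fin.lt_def.1 h; simp only at this; omega⟩
    exact key n hj
  · have h2 : (univ.image fun a : Fin m => pl a a le_rfl).card = m := by
      rw [card_image_of_injective _ fun a b e => (pl_inj.1 e).1, card_univ, Fintype.card_fin]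
    have h3 := card_le_card (union_subset hS (image_subset_iff.2 fun a (_ : a ∈ univ) => pl_mem a a le_rfl))
    rwa [card_union_of_disjoint (disjoint_right.2 fun b hb hb' => by
      obtain ⟨a, -, rfl⟩ := mem_image.1 hb
      exact h0 a hb'), h2] at h3

omit ho hl in
theorem Shp.card_le (h : Shp o l S) (hm : 2 ≤ m) : S.card ≤ (Sie m).card := by
  have := h.card
  omega

theorem card_le (hm : 2 ≤ m) (hA : (eC m).rc.Ab 2 S) (hI : (eC m).rc.Idl 2 S) : S.card ≤ (Sie m).card := by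
  by_cases h : S ⊆ Sie m
  · exact card_le_card h
  · exact (shp_of_notSub ho hl hA hI h).card_le hm

end shape

end Cfsg.Agent.TwoF.DC.TC.Sht
end

-- part: TwoF/DC/TC/ShortB
section
/-!
# TwoF, defining characteristic, type C, `p = 2`, no spin factor (2): counts of weights (helper89)
-/

set_option autoImplicit false
set_option linter.unusedSectionVars false

namespace Cfsg.Agent.TwoF.DC.TC.Sht

open Finset Matrix Sum

variable {m : ℕ}

theorem le_choose {n k : ℕ} (h1 : 1 ≤ k) (h2 : k < n) : n ≤ n.choose k := by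
  induction n generalizing k with
  | zero => omega
  | succ n ih =>
    obtain ⟨k, rfl⟩ := Nat.exists_eq_add_of_le' h1
    rw [Nat.choose_succ_succ, Nat.succ_eq_add_one]
    by_cases h3 : k + 1 = n
    · subst h3
      rw [Nat.choose_self, Nat.choose_succ_self_right]
    · have h4 := ih (k := k + 1) (by omega) (by omega)
      have h5 : 1 ≤ n.choose k := Nat.choose_pos (by omega)
      omega

theorem num {b s c : ℕ} (h1 : 1 ≤ s) (h2 : s ≤ b) :
    ((b + 1).choose s * 2 ^ s + (b + 1).choose (s + 1) * 2 ^ (s + 1) ≤ c + (b + 1).choose (s + 1) →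
      (b + 1) * (b + 2) + 1 ≤ c) ∧
    (2 ≤ b → (b + 1).choose s * 2 ^ s + (b + 1).choose (s + 1) * 2 ^ (s + 1) ≤ c + b.choose (s + 1) →
      (b + 1) * (b + 2) + 5 ≤ c) := by
  have e1 : s + 1 ≤ 2 ^ s := Nat.lt_two_pow_self
  rcases h2.eq_or_lt with rfl | h2
  · rw [Nat.choose_self, Nat.choose_succ_self_right, Nat.choose_succ_self, pow_succ]
    refine ⟨fun h => by nlinarith, fun h3 h => ?_⟩
    obtain ⟨t, rfl⟩ : ∃ t, s = t + 1 := ⟨s - 1, by omega⟩
    have e2 : t + 1 ≤ 2 ^ t := Nat.lt_two_pow_self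
    rw [pow_succ] at h
    nlinarith only [h3, h, e2]
  · have e2 := Nat.add_one_mul_choose_eq b s
    have e3 := le_choose h1 h2
    have e4 := le_choose h1 (show s < b + 1 by omega)
    have e5 := le_choose (k := s + 1) (n := b + 1) (by omega) (by omega)
    have e6 := Nat.mul_le_mul e4 (show 2 ≤ 2 ^ s by omega)
    have e7 := Nat.mul_le_mul_left ((b + 1).choose (s + 1)) (show (s + 1) + 2 ≤ 2 ^ (s + 1) by rw [pow_succ]; omega)
    have e8 := Nat.mul_le_mul_left (b + 1) e3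
    have e9 := Nat.choose_succ_succ' b s
    rw [mul_add, ← e2] at e7
    exact ⟨fun h => by linarith only [e5, e6, e7, e8, h], fun h3 h => by linarith only [h1, h2, e3, e5, e6, e7, e8, e9, h]⟩

/-- the vector with support `z.1` and negative part `z.2` -/
def sv (z : Finset (Fin m) × Finset (Fin m)) : Fin m → ℤ := fun i => if i ∈ z.2 then -1 else if i ∈ z.1 then 1 else 0

theorem sv_inj {z z' : Finset (Fin m) × Finset (Fin m)} (h : z.2 ⊆ z.1) (h' : z'.2 ⊆ z'.1) (e : sv z = sv z') :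
    z = z' := by
  refine Prod.ext (Finset.ext fun i => ?_) (Finset.ext fun i => ?_) <;>
  · have h1 := congrFun e i
    have h2 := @h i
    have h3 := @h' i
    simp only [sv] at h1
    split_ifs at h1 <;> tauto

theorem tw_ind (s : Fin m) : tw (fun i => if i ≤ s then 1 else 0) = Pi.single s 1 := funext fun i => by
  rw [tw_apply, Pi.single_apply]
  simp only [Fin.le_def, Fin.ext_iff]
  (first | (lia; done) | (split_ifs <;> omega))

theorem orb {z : Finset (Fin m) × Finset (Fin m)} (h : z.2 ⊆ z.1) {s : Fin m} (hs : z.1.card = s + 1) :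
    ∃ l, tw (sv z) = (eC m).rc.swl l (Pi.single s 1) := by
  obtain ⟨π, h1, -⟩ := TA.exists_perm_pair (X := z.1) (Z := ∅) (X' := Iic s) (Z' := ∅) (disjoint_empty_right _)
    (disjoint_empty_right _) (by rw [hs, Fin.card_Iic]) rfl
  obtain ⟨l, hl⟩ := exists_swl_tw π fun i => if i ∈ z.2 then -1 else 1
  refine ⟨l, ?_⟩
  rw [← tw_ind, hl]
  congr 1
  funext i
  have h2 := @h i
  simp only [sv, sp_apply, ← mem_Iic, h1]
  split_ifs <;> first | rfl | tauto

/-- pairs (support, negative part) -/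
def PP (I : Finset (Fin m)) (r : ℕ) : Finset (Finset (Fin m) × Finset (Fin m)) :=
  ((powersetCard r I).sigma powerset).map (Equiv.sigmaEquivProd _ _).toEmbedding

theorem mem_PP {I : Finset (Fin m)} {r : ℕ} {z : Finset (Fin m) × Finset (Fin m)} :
    z ∈ PP I r ↔ (z.1 ⊆ I ∧ z.1.card = r) ∧ z.2 ⊆ z.1 := by
  rw [PP, mem_map_equiv, mem_sigma, mem_powersetCard, mem_powerset]
  rfl

theorem card_PP (I : Finset (Fin m)) (r : ℕ) : (PP I r).card = I.card.choose r * 2 ^ r := by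
  rw [PP, card_map, card_sigma, sum_congr rfl fun T hT => by rw [card_powerset, (mem_powersetCard.1 hT).2], sum_const,
    card_powersetCard, smul_eq_mul]

section HW

variable {k L : Type} [Field k] [AddCommGroup L] [Module k L] {H : HW (eC m).rc 2 k L}

theorem card_le_cL (hX : H.X) {s : Fin m} (hs : H.lam s ≠ 0) (S : Finset (PR m))
    (P : Finset (Finset (Fin m) × Finset (Fin m)))
    (h : ∀ z ∈ P, z.2 ⊆ z.1 ∧ z.1.card = s + 1 ∧ ∃ b ∈ S, (eC m).rc.pair (tw (sv z)) (true, b) < 0) :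
    P.card ≤ H.cL S := by
  rw [← card_image_of_injOn (f := fun z => tw (sv z)) fun z hz z' hz' e => sv_inj (h z hz).1 (h z' hz').1 (tw_inj e)]
  refine hX.card_le_cL_of_le S (HW.dom_single s) (H.single_le hs) _ fun ν hν => ?_
  obtain ⟨z, hz, rfl⟩ := mem_image.1 hν
  exact ⟨orb (h z hz).1 (h z hz).2.1, (h z hz).2.2⟩

theorem two_mul_le_d {s : Fin m} (hs : H.lam s ≠ 0) (h : s.1 + 1 < m) : 2 * m ≤ H.d := by
  have h1 := H.card_le_d_of_le (HW.dom_single s) (H.single_le hs) ((PP univ (s + 1)).image fun z => tw (sv z))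
    fun ν hν => by
      obtain ⟨z, hz, rfl⟩ := mem_image.1 hν
      exact orb (mem_PP.1 hz).2 (mem_PP.1 hz).1.2
  rw [card_image_of_injOn fun z hz z' hz' e => sv_inj (mem_PP.1 hz).2 (mem_PP.1 hz').2 (tw_inj e), card_PP, card_univ,
    Fintype.card_fin, pow_succ] at h1
  have h2 := Nat.mul_le_mul (le_choose (k := s.1 + 1) (by omega) h) (Nat.mul_le_mul_right 2 (Nat.one_le_two_pow (n := s)))
  omega

variable {o : Fin m} (ho : o.1 = 0)
include ho

/-- **the count** -/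
theorem count (hX : H.X) {s : Fin m} (hs : H.lam s ≠ 0) (h : s.1 + 1 < m) {S : Finset (PR m)}
    (h1 : ∀ j (h : o < j), pl o j h.le ∈ S) (I : Finset (Fin m)) (h2 : ∀ j (h : o < j), j ∉ I → mn o j h ∈ S) :
    (m - 1).choose s * 2 ^ s.1 + (m - 1).choose (s + 1) * 2 ^ (s.1 + 1) ≤ H.cL S + I.card.choose (s + 1) := by
  have hc : (univ.erase o).card = m - 1 := by rw [card_erase_of_mem (mem_univ _), card_univ, Fintype.card_fin]
  have lt : ∀ {j}, j ∈ univ.erase o → o < j := fun {j} hj => by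
    have := Fin.val_ne_of_ne (mem_erase.1 hj).1
    rw [Fin.lt_def]; omega
  have no : ∀ {T : Finset (Fin m)}, T ⊆ univ.erase o → o ∉ T := fun e e' => notMem_erase _ _ (e e')
  have e1 : ((PP (univ.erase o) s).image fun z => (insert o z.1, insert o z.2)).card = (m - 1).choose s * 2 ^ s.1 := by
    rw [card_image_of_injOn, card_PP, hc]
    intro z hz z' hz' e
    obtain ⟨⟨a1, -⟩, a2⟩ := mem_PP.1 (mem_coe.1 hz)
    obtain ⟨⟨b1, -⟩, b2⟩ := mem_PP.1 (mem_coe.1 hz')
    obtain ⟨e1, e2⟩ := Prod.ext_iff.1 e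
    exact Prod.ext (insert_erase_invOn.2.injOn (no a1) (no b1) e1)
      (insert_erase_invOn.2.injOn (no (a2.trans a1)) (no (b2.trans b1)) e2)
  have e2 := card_filter_add_card_filter_not (s := PP (univ.erase o) (s + 1)) fun z => z.2 = ∅ ∧ z.1 ⊆ I
  have e3 : ((PP (univ.erase o) (s + 1)).filter fun z => z.2 = ∅ ∧ z.1 ⊆ I).card ≤ I.card.choose (s + 1) := by
    rw [← card_powersetCard]
    refine card_le_card_of_injOn Prod.fst (fun z hz => ?_) fun z hz z' hz' e => ?_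
    · obtain ⟨a1, a2⟩ := mem_filter.1 (mem_coe.1 hz)
      exact mem_coe.2 (mem_powersetCard.2 ⟨a2.2, (mem_PP.1 a1).1.2⟩)
    · exact Prod.ext e ((mem_filter.1 (mem_coe.1 hz)).2.1.trans (mem_filter.1 (mem_coe.1 hz')).2.1.symm)
  have e4 := card_le_cL hX hs S (((PP (univ.erase o) s).image fun z => (insert o z.1, insert o z.2)) ∪
    (PP (univ.erase o) (s + 1)).filter fun z => ¬ (z.2 = ∅ ∧ z.1 ⊆ I)) fun z hz => by
    rcases mem_union.1 hz with hz | hz
    · obtain ⟨z, hz', rfl⟩ := mem_image.1 hz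
      obtain ⟨⟨a1, a3⟩, a2⟩ := mem_PP.1 hz'
      obtain ⟨j, b1, b2⟩ := exists_mem_notMem_of_card_lt_card (s := z.1) (t := univ.erase o) (by omega)
      refine ⟨insert_subset_insert _ a2, by rw [card_insert_of_notMem (no a1), a3], _, h1 j (lt b1), ?_⟩
      have b3 := (mem_erase.1 b1).1
      rw [pair_pl, if_neg b3.symm]
      simp only [sv, mem_insert, true_or, if_true, b3, false_or, if_neg b2, if_neg (mt (@a2 j) b2)]
      omega
    · obtain ⟨hz, b1⟩ := mem_filter.1 hz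
      obtain ⟨⟨a1, a3⟩, a2⟩ := mem_PP.1 hz
      have a4 : sv z o = 0 := by rw [sv, if_neg (no (a2.trans a1)), if_neg (no a1)]
      refine ⟨a2, a3, ?_⟩
      by_cases b2 : z.2 = ∅
      · obtain ⟨j, b3, b4⟩ := not_subset.1 (not_and.1 b1 b2)
        refine ⟨_, h2 j (lt (a1 b3)) b4, ?_⟩
        rw [pair_mn, a4, sv, b2, if_neg (notMem_empty _), if_pos b3]
        omega
      · obtain ⟨j, b3⟩ := nonempty_iff_ne_empty.2 b2
        refine ⟨_, h1 j (lt (a1 (a2 b3))), ?_⟩
        rw [pair_pl, if_neg (lt (a1 (a2 b3))).ne, a4, sv, if_pos b3]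
        omega
  rw [card_union_of_disjoint (disjoint_left.2 fun z hz hz' => by
    obtain ⟨z, -, rfl⟩ := mem_image.1 hz
    exact no (mem_PP.1 (mem_filter.1 hz').1).1.1 (mem_insert_self _ _)), e1] at e4
  rw [card_PP, hc] at e2
  omega

/-- the natural module -/
theorem cG_nat (h : ∀ i, i ≠ o → H.lam i = 0) : H.cG (Sie m) ≤ m := by
  have h1 : H.lz = Pi.single o 1 := funext fun i => by
    obtain ⟨j, hj⟩ := H.exists_lam_pos
    have h2 := H.lam_lt i
    obtain rfl : j = o := by by_contra e; have := h j e; omega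
    rw [HW.lz_apply, Pi.single_apply]
    split_ifs with e
    · subst e; omega
    · rw [h i e]; rfl
  have h2 : x0 H = fun i => if i = o then 1 else 0 := by
    rw [x0, h1, ← tw_ind, ew_tw]
    funext i
    simp only [Fin.le_def, Fin.ext_iff]
    split_ifs <;> omega
  have h3 : H.Min := fun b => by
    rw [← tw_x0, h2]
    by_cases hb : b ∈ Sie m
    · obtain ⟨i, j, e, rfl⟩ := exists_pl hb
      rw [pair_pl]
      simp only [Fin.ext_iff]
      (first | (omega; done) | (split_ifs <;> omega))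
    · obtain ⟨i, j, e, rfl⟩ := exists_mn hb
      rw [pair_mn]
      (first | (omega; done) | (split_ifs <;> omega))
  refine (h3.cG_le _ (univ.image fun i => tw (-Pi.single i 1)) fun μ hμ ⟨b, hb, h4⟩ => ?_).trans
    (card_image_le.trans (by rw [card_univ, Fintype.card_fin]))
  obtain ⟨π, ε, rfl⟩ := (ext_C H).1 hμ
  obtain ⟨i, j, e, rfl⟩ := exists_pl hb
  have h5 : ∀ a, sp π ε (x0 H) a = if a = π.symm o then (ε (π.symm o) : ℤ) else 0 := fun a => by
    simp only [sp_apply, h2, Equiv.eq_symm_apply]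
    split_ifs with e
    · rw [← e, Equiv.symm_apply_apply, mul_one]
    · rw [mul_zero]
  rcases Int.units_eq_one_or (ε (π.symm o)) with h6 | h6
  · rw [pair_pl, h5, h5, h6, Units.val_one] at h4
    (first | (omega; done) | (split_ifs at h4 <;> omega))
  · refine mem_image.2 ⟨π.symm o, mem_univ _, congrArg tw (funext fun a => ?_)⟩
    rw [h5, h6, Pi.neg_apply, Pi.single_apply]
    split_ifs <;> rfl

end HW

section three

variable {k L : Type} [Field k] [AddCommGroup L] [Module k L] {H : HW (eC 3).rc 2 k L}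

theorem cL_mixed (hX : H.X) (h0 : H.lam 0 ≠ 0) (h1 : H.lam 1 ≠ 0) (h2 : H.lam 2 = 0) {S : Finset (PR 3)}
    (hS : ∀ j (h : 0 < j), pl 0 j h.le ∈ S) : 11 ≤ H.cL S := by
  have e : x0 H = ![2, 1, 0] := by
    have a0 := H.lam_lt 0
    have a1 := H.lam_lt 1
    have b0 := x0_step H 0
    have b1 := x0_step H 1
    have b2 := x0_step H 2
    rw [dif_pos (by decide)] at b0 b1
    rw [dif_neg (by decide)] at b2
    change _ = _ + x0 H 1 at b0
    change _ = _ + x0 H 2 at b1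
    funext i
    fin_cases i <;> simp <;> omega
  have h3 : 11 ≤ ((univ.image fun z : Equiv.Perm (Fin 3) × (Fin 3 → ℤˣ) => sp z.1 z.2 ![2, 1, 0]).filter
    fun ν => ν 0 + ν 1 < 0 ∨ ν 0 + ν 2 < 0).card := by decide +kernel
  rw [← card_image_of_injective _ tw_inj] at h3
  refine h3.trans (hX.card_le_cL S _ fun ν hν => ?_)
  obtain ⟨ν, hν', rfl⟩ := mem_image.1 hν
  obtain ⟨a1, a2⟩ := mem_filter.1 hν'
  obtain ⟨z, -, rfl⟩ := mem_image.1 a1
  refine ⟨e ▸ ext_sp H _ _, ?_⟩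
  rcases a2 with a2 | a2
  · exact ⟨_, hS 1 (by decide), by rwa [pair_pl, if_neg (by decide)]⟩
  · exact ⟨_, hS 2 (by decide), by rwa [pair_pl, if_neg (by decide)]⟩

theorem qm3 : TF.QM (eC 3).rc (fun b => b.1.1 ≠ b.1.2) (pl 0 1 (by decide)) (Pi.single 1 1) where
  wt := by decide +kernel
  hσ := by decide
  sh_s := by decide +kernel
  dom c h := by
    have h0 := h 0
    have h1 := h 1
    have h2 := h 2
    have e : (eC 3).rc.C = ![![2, -1, 0], ![-1, 2, -2], ![0, -1, 2]] := by decide +kernel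
    simp only [funext_iff, Fin.forall_fin_succ, Pi.sub_apply, RC.toWt, e, Fin.sum_univ_three] at h0 h1 h2 ⊢
    simp only [_root_.Fin.isValue, _root_.ne_eq, _root_.zero_ne_one, _root_.not_false_eq_true, _root_.Pi.single_eq_of_ne, _root_.CharP.cast_eq_zero, _root_.Nat.succ_eq_add_one, _root_.Nat.reduceAdd, _root_.Int.reduceNeg, _root_.Matrix.cons_val', _root_.Matrix.cons_val_zero, _root_.Matrix.cons_val_fin_one, _root_.Matrix.cons_val_one, _root_.neg_mul, _root_.one_mul, _root_.Matrix.cons_val, _root_.MulZeroClass.zero_mul, _root_.add_zero, _root_.zero_sub, _root_.neg_add_rev, _root_.neg_neg, _root_.le_add_neg_iff_add_le, _root_.zero_add, _root_.Pi.single_eq_same, _root_.Nat.cast_one, _root_.Int.sub_nonneg, _root_.add_neg_le_iff_le_add, _root_.neg_add_le_iff_le_add, _root_.Fin.reduceEq, _root_.le_neg_add_iff_add_le, _root_.Fin.succ_zero_eq_one, _root_.Fin.succ_one_eq_two, _root_.IsEmpty.forall_iff, _root_.and_true, _root_.Pi.zero_apply,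 _root_.Matrix.cons_val_succ] at h0 h1 h2 ⊢
    omega

theorem cG_two (h0 : H.lam 0 = 0) (h1 : H.lam 1 ≠ 0) (h2 : H.lam 2 = 0) : H.cG (Sie 3) ≤ 11 := by
  have hl : H.lam = Pi.single 1 1 := by
    have a1 := H.lam_lt 1
    funext i
    fin_cases i <;> simp <;> omega
  have h3 := qm3.m0_le hl (i := 0) (i' := 1) (by decide +kernel)
  have h4 := qm3.cG_le hl (Sie 3) (univ.filter fun x => x.2.1.1 ≠ x.2.1.2 ∧ ¬ (x.1 = true ∧ ps x.2.1.2 < 3))
    (by simp only [mem_filter, mem_univ, true_and, mem_Sie]; decide +kernel)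
  have h5 : (univ.filter fun x : Bool × PR 3 => x.2.1.1 ≠ x.2.1.2 ∧ ¬ (x.1 = true ∧ ps x.2.1.2 < 3)).card = 9 := by
    decide +kernel
  omega

end three

end Cfsg.Agent.TwoF.DC.TC.Sht
end

private theorem dce_8f3ded42e655 : _root_.True := by
  try have : _root_.True := by simp only [_root_.Cfsg.Agent.TwoF.DC.TC.Sht.PP.eq_1]
  try have : _root_.True := by simp only [_root_.Cfsg.Agent.TwoF.DC.TC.x0.eq_1]
  try have : _root_.True := by simp only [_root_.Cfsg.Agent.TwoF.DC.TC.Sht.sv.eq_1]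
  exact _root_.True.intro
end

-- part: TwoF/DC/TC/Gen
section
prune_inst 0x4f13051003d2010000018051660001e62ba000002004b800000a00f020dc1ac630543ae21be30041218b280c440390148101000900010000020008400400101a0048152023210ad0c300096000800000000000000000000000000000000010000000000000
set_option linter.all false
open scoped Cfsg.Agent.FastGrp

/-!
# TwoF, defining characteristic: tools for the exceptional characteristics (helper62)

* G1 `Cty` : the context `Ctx` without the combinatorial statements;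
* G2 `fxW_le_mul` : the fixed vectors of a `p`-group in a tensor product, through one factor;
* G3 `Trf` : transfer of patterns along an isomorphism of the finite groups.
-/

set_option autoImplicit false
set_option linter.unusedSectionVars false
set_option linter.unusedVariables false
set_option maxHeartbeats 400000

namespace Cfsg.Agent.TwoF.DC.TC

open Module Finset Cfsg.Agent.H45.Uni Cfsg.Agent.H45.UniE Cfsg.Agent.TwoF.Gen

/-! ### G1 -/

section G1

variable {p : ℕ} [hp : Fact p.Prime] {ι Φ k G : Type} [Fintype ι] [DecidableEq ι] [Fintype Φ] [DecidableEq Φ] [Field k]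
  [Infinite k] [CharP k p] [Group G] {D : RDat p ι Φ k G} {T S : Type} [Group T] [Finite T] [Group S]
  {Y U : Type} [Group Y] [Finite Y] [AddCommGroup U] [Module k U]

/-- the hypotheses of the assembly which do not depend on the type -/
structure Cty (M : Std D T S) (C : Can D) (ρ : Representation k Y U) (ψ : T →* Y) (irrK : Prop) : Prop where
  cfa : C.Fa
  deg1 : Deg1 D
  deg2 : Deg2 D
  pow : M.Pow C
  st : M.St ρ ψ irrK
  fd : FiniteDimensional k U
  nt : Nontrivial U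

theorem _root_.Cfsg.Agent.TwoF.DC.Ctx.cty {M : Std D T S} {ok : (ι → ℕ) → Prop} {C : Can D} {ρ : Representation k Y U}
    {ψ : T →* Y} {irrK : Prop} (X : Ctx M ok C ρ ψ irrK) : Cty M C ρ ψ irrK :=
  ⟨X.cfa, X.deg1, X.deg2, X.pow, X.st, X.fd, X.nt⟩

namespace Cty

variable {M : Std D T S} {C : Can D} {ρ : Representation k Y U} {ψ : T →* Y} {irrK : Prop} (X : Cty M C ρ ψ irrK)

include X

/-- the full context -/
theorem ctx {ok : (ι → ℕ) → Prop} (h1 : M.Full ok) (h2 : ∀ n ∈ M.N ρ ψ, ∀ a, n a ≠ 0 → ok (n a))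
    (h3 : Function.Injective ρ) (h4 : ∀ y, ∃ s h γ j, M.Acts ψ y s h γ j)
    (h5 : ∀ y, (∀ s, y * ψ s * y⁻¹ = ψ s) → y ∈ ψ.range) : Ctx M ok C ρ ψ irrK :=
  ⟨h1, X.deg1, X.deg2, X.pow, X.st, fun n hn h0 => h2 n ((M.mem_N ρ ψ).2 ⟨hn, h0⟩), X.fd, X.nt, h3, h4, h5⟩

theorem fa : D.Fa := X.cfa.fa

omit X in
theorem pats {n : Fin M.f → ι → ℕ} (hn : n ∈ M.N ρ ψ) : n ∈ M.pats := ((M.mem_N ρ ψ).1 hn).1

omit X in
theorem res {n : Fin M.f → ι → ℕ} (hn : n ∈ M.N ρ ψ) (a : Fin M.f) (i : ι) : n a i < p := M.mem_pats.1 (pats hn) a i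

omit X in
theorem one_le_mult {n : Fin M.f → ι → ℕ} (hn : n ∈ M.N ρ ψ) : 1 ≤ M.mult (ρ.comp ψ) n :=
  Nat.pos_of_ne_zero ((M.mem_N ρ ψ).1 hn).2

theorem indep : iSupIndep (M.V ρ ψ) := by
  intro n
  by_cases hn : n ∈ M.pats
  · refine (X.st.indep ⟨n, hn⟩).mono (M.V_eq ρ ψ hn).le (iSup₂_le fun n' hn' => ?_)
    by_cases h : n' ∈ M.pats
    · rw [M.V_eq ρ ψ h]
      exact le_iSup₂_of_le (f := fun (j : M.pats) (_ : j ≠ ⟨n, hn⟩) => M.Vc (ρ.comp ψ) j) ⟨n', h⟩
        (fun e => hn' (congrArg Subtype.val e)) le_rfl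
    · rw [Std.V, if_neg h]; exact bot_le
  · rw [Std.V, if_neg hn]; exact disjoint_bot_left

theorem finrank_Wc {n : Fin M.f → ι → ℕ} (hn : n ∈ M.pats) : finrank k (M.Wc n) = M.Dn n := X.pow.dim n hn

theorem finrank_fix {n : Fin M.f → ι → ℕ} (hn : n ∈ M.pats) (B : Subgroup T) :
    finrank k ↥(M.V ρ ψ n ⊓ fx ρ (B.map ψ)) = M.mult (ρ.comp ψ) n * finrank k (M.fxW n B) := by
  rw [M.V_eq ρ ψ hn]; exact X.st.fix n hn B

theorem finrank_V {n : Fin M.f → ι → ℕ} (hn : n ∈ M.pats) :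
    finrank k (M.V ρ ψ n) = M.mult (ρ.comp ψ) n * M.Dn n := by
  have h := X.finrank_fix hn ⊥
  rwa [Subgroup.map_bot, fx_bot, inf_top_eq, M.fxW_bot, X.finrank_Wc hn] at h

theorem V_eq_bot {n : Fin M.f → ι → ℕ} (hn : n ∉ M.N ρ ψ) : M.V ρ ψ n = ⊥ := by
  have := X.fd
  by_cases h : n ∈ M.pats
  · have h1 : M.mult (ρ.comp ψ) n = 0 := by
      by_contra h2; exact hn ((M.mem_N ρ ψ).2 ⟨h, h2⟩)
    rw [← Submodule.finrank_eq_zero, X.finrank_V h, h1, zero_mul]
  · exact if_neg h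

theorem span : ⨆ n ∈ M.N ρ ψ, M.V ρ ψ n = ⊤ := by
  rw [eq_top_iff, ← X.st.span]
  refine iSup₂_le fun n hn => ?_
  rw [← M.V_eq ρ ψ hn]
  by_cases h : n ∈ M.N ρ ψ
  · exact le_iSup₂_of_le (f := fun n (_ : n ∈ M.N ρ ψ) => M.V ρ ψ n) n h le_rfl
  · rw [X.V_eq_bot h]; exact bot_le

theorem finrank_U : finrank k U = ∑ n ∈ M.N ρ ψ, finrank k (M.V ρ ψ n) := by
  have := X.fd
  rw [← finrank_biSup_of_indep X.indep, X.span, finrank_top]

theorem finrank_U' : finrank k U = ∑ n ∈ M.N ρ ψ, M.mult (ρ.comp ψ) n * M.Dn n :=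
  X.finrank_U.trans (Finset.sum_congr rfl fun _ hn => X.finrank_V (pats hn))

theorem N_nonempty : (M.N ρ ψ).Nonempty := by
  have := X.nt
  by_contra h
  have h1 := X.span
  rw [Finset.not_nonempty_iff_eq_empty.1 h] at h1
  simp at h1

theorem ne_zero {n : Fin M.f → ι → ℕ} (hn : n ∈ M.N ρ ψ) : n ≠ 0 := by
  rintro rfl
  exact ((M.mem_N ρ ψ).1 hn).2 X.st.zero

theorem mult_act {n : Fin M.f → ι → ℕ} (hn : n ∈ M.pats) (j : ℕ) :
    M.mult (ρ.comp ψ) (M.act 1 j n) = M.mult (ρ.comp ψ) n := by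
  induction j with
  | zero => rw [M.act_one_zero]
  | succ j ih =>
    have h := X.st.shift _ (M.act_mem hn 1 j)
    rw [M.act_act (Commute.one_left _), mul_one, add_comm] at h
    rw [h, ih]

theorem mult_actN {n : Fin M.f → ι → ℕ} (hn : n ∈ M.N ρ ψ) (j : ℕ) :
    M.mult (ρ.comp ψ) (M.act 1 j n) = M.mult (ρ.comp ψ) n := X.mult_act (pats hn) j

theorem sh : M.Sh (M.N ρ ψ) := fun n hn =>
  (M.mem_N ρ ψ).2 ⟨M.act_mem (pats hn) 1 1, by rw [X.mult_actN hn]; exact ((M.mem_N ρ ψ).1 hn).2⟩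

theorem le_Dn {n : Fin M.f → ι → ℕ} (hn : n ∈ M.pats) {W : Submodule k ((Fin M.f → G) → k)} (h : W ≤ M.Wc n) :
    finrank k W ≤ M.Dn n := by
  have := X.pow.fd n hn
  rw [← X.finrank_Wc hn]
  exact Submodule.finrank_mono h

theorem le_codOn {n : Fin M.f → ι → ℕ} (hn : n ∈ M.N ρ ψ) {A : Subgroup Y} {x : ℕ}
    (h : finrank k ↥(M.V ρ ψ n ⊓ fx ρ A) ≤ M.mult (ρ.comp ψ) n * x) :
    M.mult (ρ.comp ψ) n * (M.Dn n - x) ≤ codOn ρ (M.V ρ ψ n) A := by
  rw [codOn, X.finrank_V (pats hn), Nat.mul_sub]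
  omega

theorem sum_le_cod {O : Finset (Fin M.f → ι → ℕ)} (hO : O ⊆ M.N ρ ψ) {A : Subgroup Y}
    (hA : ∀ n ∈ O, Inv ρ A (M.V ρ ψ n)) (x : (Fin M.f → ι → ℕ) → ℕ)
    (h : ∀ n ∈ O, finrank k ↥(M.V ρ ψ n ⊓ fx ρ A) ≤ M.mult (ρ.comp ψ) n * x n) :
    ∑ n ∈ O, M.mult (ρ.comp ψ) n * (M.Dn n - x n) ≤ cod ρ A := by
  have := X.fd
  exact (Finset.sum_le_sum fun n hn => X.le_codOn (hO hn) (h n hn)).trans (sum_codOn_le_cod X.indep O hA)

theorem sum_le_cod_inner {O : Finset (Fin M.f → ι → ℕ)} (hO : O ⊆ M.N ρ ψ) (B : Subgroup T) :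
    ∑ n ∈ O, M.mult (ρ.comp ψ) n * (M.Dn n - finrank k (M.fxW n B)) ≤ cod ρ (B.map ψ) :=
  X.sum_le_cod hO (fun n _ => (M.inv_V ρ ψ n).mono (Subgroup.map_le_range _ _)) _
    fun n hn => (X.finrank_fix (pats (hO hn)) B).le

theorem cod_le_sum (B : Subgroup T) :
    cod ρ (B.map ψ) ≤ ∑ n ∈ M.N ρ ψ, M.mult (ρ.comp ψ) n * (M.Dn n - finrank k (M.fxW n B)) := by
  have := X.fd
  have h1 := sum_finrank_le_of_indep (X.indep.mono fun n => (inf_le_left : M.V ρ ψ n ⊓ fx ρ (B.map ψ) ≤ _))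
    (M.N ρ ψ) (U := fx ρ (B.map ψ)) fun n _ => inf_le_right
  rw [cod, X.finrank_U, tsub_le_iff_right]
  refine le_trans ?_ (Nat.add_le_add_left h1 _)
  rw [← Finset.sum_add_distrib]
  refine Finset.sum_le_sum fun n hn => ?_
  have h2 := pats hn
  rw [X.finrank_V h2, X.finrank_fix h2, ← mul_add, Nat.sub_add_cancel (X.le_Dn h2 (M.fxW_le n B))]

/-- **the codimension of an inner subgroup** -/
theorem cod_eq (B : Subgroup T) :
    cod ρ (B.map ψ) = ∑ n ∈ M.N ρ ψ, M.mult (ρ.comp ψ) n * (M.Dn n - finrank k (M.fxW n B)) :=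
  le_antisymm (X.cod_le_sum B) (X.sum_le_cod_inner subset_rfl B)

theorem cub_of {B : Subgroup T} (h : ∀ n ∈ M.N ρ ψ, Cub (M.ρW n) B) : Cub ρ (B.map ψ) := by
  rintro _ ⟨a, ha, rfl⟩ _ ⟨b, hb, rfl⟩ _ ⟨c, hc, rfl⟩
  rw [← LinearMap.ker_eq_top, eq_top_iff, ← X.span]
  refine iSup₂_le fun n hn => ?_
  rw [M.V_eq ρ ψ (pats hn)]
  refine iSup₂_le fun θ hθ => ?_
  rintro _ ⟨F, rfl⟩
  have h1 : ∀ (s : T) (F : M.Wc n), (ρ (ψ s) - 1) (θ F) = θ ((M.ρW n s - 1) F) := fun s F => by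
    rw [LinearMap.sub_apply, LinearMap.sub_apply, map_sub, hθ s F]; rfl
  have h2 := DFunLike.congr_fun (h n hn a ha b hb c hc) F
  rw [LinearMap.mem_ker, Module.End.mul_apply, Module.End.mul_apply, h1, h1, h1]
  rw [Module.End.mul_apply, Module.End.mul_apply] at h2
  rw [h2]
  exact map_zero θ

theorem single {n : Fin M.f → ι → ℕ} (hn : n ∈ M.pats) {a : Fin M.f} (ha : M.supp n = {a}) (B : Subgroup T) :
    M.Dn n = dd D (n a) ∧ finrank k (M.fxW n B) = finrank k (fx (ρc D (n a)) (B.map M.φ)) := by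
  refine ⟨by rw [M.Dn_eq, ha, Finset.prod_singleton], ?_⟩
  have h := (X.pow.single a (n a) (M.mem_pats.1 hn a) B).1
  rwa [← M.eq_single ha] at h

end Cty

end G1

/-! ### G2 -/

/-- dimension bound for intertwiners of a `p`-group -/
theorem finrank_le_of_pgrp {k T H W : Type*} [Field k] [Group T] [AddCommGroup H] [Module k H] [AddCommGroup W]
    [Module k W] [FiniteDimensional k H] [FiniteDimensional k W] {p : ℕ} [Fact p.Prime] [CharP k p] {P : Subgroup T}
    [Finite P] (hP : IsPGroup p P) (τ : Representation k T H) (ξ : Representation k T W) (Z : Submodule k (H →ₗ[k] W))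
    (hZ : ∀ x ∈ Z, ∀ b ∈ P, ∀ h, x (τ b h) = ξ b (x h)) : finrank k Z ≤ finrank k H * finrank k (fx ξ P) := by
  have key : ∀ (n : ℕ) (S : Submodule k H), Inv τ P S → finrank k H ≤ finrank k S + n →
      ∀ Z : Submodule k (H →ₗ[k] W), (∀ x ∈ Z, ∀ b ∈ P, ∀ h, x (τ b h) = ξ b (x h)) → (∀ x ∈ Z, ∀ h ∈ S, x h = 0) →
      finrank k Z ≤ n * finrank k (fx ξ P) := by
    intro n
    induction n with
    | zero =>
      intro S _ hS Z _ h
      have h1 : S = ⊤ := Submodule.eq_top_of_finrank_eq (le_antisymm (Submodule.finrank_le S) hS)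
      rw [(Submodule.eq_bot_iff Z).2 fun x hx => LinearMap.ext fun v => h x hx v (h1 ▸ trivial), finrank_bot]
      exact Nat.zero_le _
    | succ n ih =>
      intro S hI hS Z hZ h
      by_cases h1 : S = ⊤
      · rw [(Submodule.eq_bot_iff Z).2 fun x hx => LinearMap.ext fun v => h x hx v (h1 ▸ trivial), finrank_bot]
        exact Nat.zero_le _
      obtain ⟨v, -, hv, h2⟩ := exists_mem_fxQ hP hI (inv_top P) fun e => h1 (top_le_iff.1 e)
      let e : (H →ₗ[k] W) →ₗ[k] W := LinearMap.applyₗ v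
      have h3 := LinearMap.finrank_range_add_finrank_ker (e.domRestrict Z)
      have h4 : finrank k (LinearMap.range (e.domRestrict Z)) ≤ finrank k (fx ξ P) := by
        refine Submodule.finrank_mono ?_
        rintro _ ⟨x, rfl⟩ b hb
        show ξ b (x.1 v) = x.1 v
        rw [← hZ x x.2 b hb, ← sub_eq_zero, ← map_sub]
        exact h x x.2 _ (h2 b hb)
      have h5 := ih (S ⊔ Submodule.span k {v}) (inv_of_cm_le (W := S ⊔ Submodule.span k {v}) ((le_fxQ_iff.1
        (sup_le (le_fxQ hI) ((Submodule.span_singleton_le_iff_mem _ _).2 h2))).trans le_sup_left) le_rfl) (by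
        have := Submodule.finrank_lt_finrank_of_lt (s := S) (t := S ⊔ Submodule.span k {v})
          (left_lt_sup.2 fun e => hv (e (Submodule.mem_span_singleton_self v)))
        omega) ((LinearMap.ker (e.domRestrict Z)).map Z.subtype) (by rintro _ ⟨x, -, rfl⟩; exact hZ x x.2) (by
        rintro _ ⟨x, hx, rfl⟩
        exact sup_le (a := S) (c := LinearMap.ker x.1) (h x x.2) ((Submodule.span_singleton_le_iff_mem _ _).2 hx))
      rw [Submodule.finrank_map_subtype_eq] at h5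
      rw [Nat.succ_mul]
      omega
  exact key _ ⊥ (inv_bot P) (Nat.le_add_left _ _) Z hZ fun x _ h hh => by rw [(Submodule.mem_bot k).1 hh, map_zero]

section G2

open Pw

variable {p : ℕ} [hp : Fact p.Prime] {α ι Φ k G : Type} [Fintype α] [DecidableEq α] [Fintype ι] [DecidableEq ι]
  [Fintype Φ] [DecidableEq Φ] [Field k] [IsAlgClosed k] [CharP k p] [Group G] {D : RDat p ι Φ k G} (C : Can D)

/-- fix the coordinate `a` -/
def fr (a : α) (y : G) : ((α → G) → k) →ₗ[k] ((α → G) → k) := LinearMap.funLeft k k fun g => Function.update g a y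

theorem fr_apply (a : α) (y : G) (F : (α → G) → k) (g : α → G) : fr a y F g = F (Function.update g a y) := rfl

include C in
theorem fr_mem {n : α → ι → ℕ} (hn : ∀ a i, n a i < p) (a : α) (y : G) {F : (α → G) → k} (hF : F ∈ Tr (cw D n)) :
    fr a y F ∈ Tr (cw D (Function.update n a 0)) := by
  rw [Tr_cw C hn] at hF
  rw [Tr_cw C (n := Function.update n a 0) fun c i => by
    by_cases h : c = a
    · rw [h, Function.update_self]; exact hp.out.pos
    · rw [Function.update_of_ne h]; exact hn c i]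
  refine mem_PT.2 fun c g => ?_
  by_cases h : c = a
  · have h1 : sl c g (fr a y F) = F (Function.update g a y) • D.toFDat.cc 0 := funext fun x => by
      rw [sl_apply, fr_apply, h, Function.update_idem]
      simp [FDat.cc]
    rw [h1, h, Function.update_self]
    exact Submodule.smul_mem _ _ (self_mem_Tr _)
  · have h1 : sl c g (fr a y F) = sl c (Function.update g a y) F := funext fun x => by
      rw [sl_apply, fr_apply, sl_apply, Function.update_comm h]
    rw [h1, Function.update_of_ne h]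
    exact mem_PT.1 hF c _

include C in
/-- the tensor lemma for a group `T` acting through `ψ` -/
theorem fx_cw_le {n : α → ι → ℕ} (hn : ∀ a i, n a i < p) {T : Type} [Group T] (ψ : T →* (α → G)) {B : Subgroup T}
    [Finite B] (hB : IsPGroup p B) (a : α) : finrank k (fx ((ρTr (cw D n)).comp ψ : Representation k T _) B) ≤
      (∏ c ∈ univ.erase a, dd D (n c)) *
        finrank k (fx ((ρc D (n a)).comp ((Pi.evalMonoidHom (fun _ => G) a).comp ψ) : Representation k T _) B) := by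
  have hn' : ∀ c i, Function.update n a 0 c i < p := fun c i => by
    by_cases h : c = a
    · rw [h, Function.update_self]; exact hp.out.pos
    · rw [Function.update_of_ne h]; exact hn c i
  have h1 := fd_cw C hn'
  have h2 := fd_Lc C (hn a)
  let W' := Tr (cw D (Function.update n a 0))
  have h3 : ∀ (F : Tr (cw D n)) (l : Dual k W'), (fun y => l ⟨fr a y F.1, fr_mem C hn a y F.2⟩) ∈ Lc D (n a) := by
    intro F l
    obtain ⟨c, hc⟩ := exists_lam l
    have h4 : (fun y => l ⟨fr a y F.1, fr_mem C hn a y F.2⟩) = ∑ g ∈ c.support, c g • sl a g F.1 := funext fun y => by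
      rw [← hc, lam_apply, Finset.sum_apply]
      rfl
    rw [h4]
    exact Submodule.sum_mem _ fun g _ => Submodule.smul_mem _ _ (slL C hn a g F).2
  let e : Tr (cw D n) →ₗ[k] Dual k W' →ₗ[k] Lc D (n a) := LinearMap.mk₂ k (fun F l => ⟨_, h3 F l⟩)
    (fun F F' l => Subtype.ext (funext fun y => (congrArg l (Subtype.ext (map_add (fr a y) F.1 F'.1))).trans
      (map_add l ⟨_, fr_mem C hn a y F.2⟩ ⟨_, fr_mem C hn a y F'.2⟩)))
    (fun c F l => Subtype.ext (funext fun y => (congrArg l (Subtype.ext (map_smul (fr a y) c F.1))).trans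
      (map_smul l c ⟨_, fr_mem C hn a y F.2⟩)))
    (fun F l l' => rfl) fun c F l => rfl
  have h4 : Function.Injective e := (injective_iff_map_eq_zero _).2 fun F hF => Subtype.ext (funext fun g => by
    have h5 := congrFun (congrArg Subtype.val (DFunLike.congr_fun hF (LinearMap.proj g ∘ₗ W'.subtype))) (g a)
    change F.1 (Function.update g a (g a)) = 0 at h5
    rwa [Function.update_eq_self] at h5)
  rw [(Submodule.equivMapOfInjective e h4 _).finrank_eq]
  refine (finrank_le_of_pgrp hB (Representation.dual ((ρTr (cw D (Function.update n a 0))).comp ψ)) _ _ ?_).trans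
    (le_of_eq (congrArg (· * _) ?_))
  · rintro _ ⟨F, hF, rfl⟩ b hb l
    refine Subtype.ext (funext fun y => congrArg l (Subtype.ext (funext fun g => ?_)))
    show F.1 (Function.update (g * ψ b⁻¹) a y) = F.1 (Function.update g a (y * ψ b a))
    rw [← congrFun (congrArg Subtype.val (hF b hb)) (Function.update (g * ψ b⁻¹) a y)]
    refine congrArg F.1 (funext fun c => ?_)
    by_cases h : c = a
    · rw [h, Pi.mul_apply, Function.update_self, Function.update_self]
    · rw [Pi.mul_apply, Function.update_of_ne h, Function.update_of_ne h, Pi.mul_apply, map_inv, Pi.inv_apply,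
        inv_mul_cancel_right]
  · rw [Subspace.dual_finrank_eq, finrank_cw C hn', ← Finset.mul_prod_erase _ _ (mem_univ a), Function.update_self,
      dd_zero, one_mul]
    exact Finset.prod_congr rfl fun c hc => by rw [Function.update_of_ne (Finset.ne_of_mem_erase hc)]

include C in
/-- **G2, the tensor lemma** -/
theorem fxW_le_mul {T S : Type} [Group T] [Finite T] [Group S] (M : Std D T S) {n : Fin M.f → ι → ℕ} (hn : n ∈ M.pats)
    {B : Subgroup T} (hB : IsPGroup p B) (a : Fin M.f) :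
    finrank k (M.fxW n B) ≤ finrank k (fx (ρc D (n a)) (B.map M.φ)) * ∏ c ∈ univ.erase a, dd D (n c) := by
  rw [← M.finrank_fxW, mul_comm, ← finrank_Kx M a, Kx, ← finrank_fx_Tr, ← fx_comp]
  exact fx_cw_le C (M.mem_pats.1 hn) M.ΦT hB a

end G2

/-! ### G3 -/

section G3

variable {p : ℕ} [hp : Fact p.Prime] {ι Φ ι' Φ' k G G' : Type} [Fintype ι] [DecidableEq ι] [Fintype Φ] [DecidableEq Φ]
  [Fintype ι'] [DecidableEq ι'] [Fintype Φ'] [DecidableEq Φ'] [Field k] [Infinite k] [CharP k p] [Group G] [Group G']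
  {D : RDat p ι Φ k G} {D' : RDat p ι' Φ' k G'} {T S T' S' : Type} [Group T] [Finite T] [Group S] [Group T'] [Finite T']
  [Group S'] {U : Type} [AddCommGroup U] [Module k U]

/-- the tensor products with patterns `n`, `n'` are isomorphic along `e` -/
def Trf (M : Std D T S) (M' : Std D' T' S') (e : T ≃* T') (n : Fin M.f → ι → ℕ) (n' : Fin M'.f → ι' → ℕ) : Prop :=
  ∃ Ξ : M.Wc n ≃ₗ[k] M'.Wc n', ∀ s F, Ξ (M.ρW n s F) = M'.ρW n' (e s) (Ξ F)

variable {M : Std D T S} {M' : Std D' T' S'} {e : T ≃* T'} {n : Fin M.f → ι → ℕ} {n' : Fin M'.f → ι' → ℕ}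

/-- **G3, transfer** -/
theorem trf_of {C : Can D} {C' : Can D'} (hF : C.Fa) (hP : M.Pow C) (hF' : C'.Fa) (hP' : M'.Pow C') (hn : n ∈ M.pats)
    (hn' : n' ∈ M'.pats) (h : ∀ s, M'.cP n' (M'.ΦT (e s)) = M.cP n (M.ΦT s)) : Trf M M' e n n' := by
  obtain ⟨θ, h1, h2⟩ := (Std.cyc hF hP hn).exists_hom (ρ := (M'.ρW n').comp e.toMonoidHom) (v := M'.cW n') fun β hβ =>
    Std.res_inj hF' hP' hn' fun t => by
      obtain ⟨t, rfl⟩ := e.surjective t
      rw [← (Std.lc_eq_zero hF hP hn).1 hβ t, Finsupp.linearCombination_apply, Finsupp.sum, Submodule.coe_sum,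
        Finset.sum_apply]
      refine Finset.sum_congr rfl fun s _ => ?_
      rw [← h, map_mul, map_mul]
      rfl
  have h3 : θ ≠ 0 := fun h0 => (Std.cyc hF' hP' hn').ne (by rw [← h2, h0]; rfl)
  have h4 : LinearMap.range θ = ⊤ := ((Std.cyc hF' hP' hn').irr M'.hyp.Up _ (by
    rintro t - _ ⟨F, rfl⟩
    obtain ⟨t, rfl⟩ := e.surjective t
    exact ⟨_, h1 t F⟩)).resolve_left fun h0 => h3 (LinearMap.range_eq_bot.1 h0)
  exact ⟨LinearEquiv.ofBijective θ ⟨(Std.cyc hF hP hn).inj M.hyp.Up h1 h3, LinearMap.range_eq_top.1 h4⟩, h1⟩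

namespace Trf

variable (h : Trf M M' e n n')

include h

theorem symm : Trf M' M e.symm n' n := by
  obtain ⟨Ξ, h⟩ := h
  exact ⟨Ξ.symm, fun s F => Ξ.symm_apply_eq.2 (by rw [h, e.apply_symm_apply, Ξ.apply_symm_apply])⟩

theorem dim : finrank k (M.Wc n) = finrank k (M'.Wc n') := h.choose.finrank_eq

theorem fix (B : Subgroup T) : finrank k (M.fxW n B) = finrank k (M'.fxW n' (B.map e.toMonoidHom)) := by
  obtain ⟨Ξ, h⟩ := h
  rw [← M.finrank_fxW, ← M'.finrank_fxW, ← LinearEquiv.finrank_map_eq Ξ]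
  refine congrArg (fun N : Submodule k (M'.Wc n') => finrank k N) ?_
  refine le_antisymm ?_ fun F hF => ⟨Ξ.symm F, fun b hb => Ξ.injective ?_, Ξ.apply_symm_apply F⟩
  · rintro _ ⟨F, hF, rfl⟩ _ ⟨b, hb, rfl⟩
    exact (h b F).symm.trans (congrArg Ξ (hF b hb))
  · rw [h, Ξ.apply_symm_apply]
    exact hF _ ⟨b, hb, rfl⟩

theorem mult (ρ : Representation k T' U) : M.mult (ρ.comp e.toMonoidHom) n = M'.mult ρ n' := by
  obtain ⟨Ξ, h⟩ := h
  rw [Std.mult, Std.mult, ← LinearEquiv.finrank_map_eq (LinearEquiv.congrLeft U k Ξ)]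
  refine congrArg (fun N : Submodule k (M'.Wc n' →ₗ[k] U) => finrank k N) ?_
  refine le_antisymm ?_ fun θ hθ => ⟨θ ∘ₗ Ξ.toLinearMap, fun s F => ?_, LinearMap.ext fun F => ?_⟩
  · rintro _ ⟨θ, hθ, rfl⟩ s F
    obtain ⟨s, rfl⟩ := e.surjective s
    obtain ⟨F, rfl⟩ := Ξ.surjective F
    show θ (Ξ.symm _) = ρ _ (θ (Ξ.symm _))
    rw [← h, Ξ.symm_apply_apply, Ξ.symm_apply_apply]
    exact hθ s F
  · show θ (Ξ _) = _
    rw [h]
    exact hθ _ _
  · exact congrArg θ (Ξ.apply_symm_apply F)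

end Trf

/-- multiplicities of isomorphic modules -/
theorem mult_congr (M : Std D T S) {U' : Type} [AddCommGroup U'] [Module k U'] {ρ : Representation k T U}
    {ρ' : Representation k T U'} (g : U ≃ₗ[k] U') (h : ∀ s v, g (ρ s v) = ρ' s (g v)) (n : Fin M.f → ι → ℕ) :
    M.mult ρ n = M.mult ρ' n := by
  rw [Std.mult, Std.mult, ← LinearEquiv.finrank_map_eq (LinearEquiv.congrRight (M := M.Wc n) g)]
  refine congrArg (fun N : Submodule k (M.Wc n →ₗ[k] U') => finrank k N) ?_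
  refine le_antisymm ?_ fun θ hθ => ⟨g.symm.toLinearMap ∘ₗ θ, fun s F => g.symm_apply_eq.2 ?_, LinearMap.ext fun F => ?_⟩
  · rintro _ ⟨θ, hθ, rfl⟩ s F
    exact (congrArg g (hθ s F)).trans (h _ _)
  · rw [h, hθ s F]
    exact congrArg _ (g.apply_symm_apply _).symm
  · exact g.apply_symm_apply _

/-- an automorphism induced by an element does not change the multiplicities -/
theorem mult_conj (M : Std D T S) {Y : Type} [Group Y] (ρ : Representation k Y U) {ψ ψ' : T →* Y} {y : Y}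
    (h : ∀ t, y * ψ t * y⁻¹ = ψ' t) (n : Fin M.f → ι → ℕ) : M.mult (ρ.comp ψ') n = M.mult (ρ.comp ψ) n :=
  (mult_congr M (rhoE ρ y) (fun s v => by
    show ρ y (ρ (ψ s) v) = ρ (ψ' s) (ρ y v)
    rw [← h, ← rho_mul, ← rho_mul, inv_mul_cancel_right]) n).symm

end G3

end Cfsg.Agent.TwoF.DC.TC

private theorem dce_4e8852dc15a6 : _root_.True := by
  try have : _root_.True := by simp only [_root_.Cfsg.Agent.TwoF.DC.Pw.Kx.eq_1]
  try have : _root_.True := by simp only [_root_.Cfsg.Agent.TwoF.DC.Std.mult.eq_1]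
  exact _root_.True.intro
end

-- part: TwoF/SpC/J2Two
section
prune_inst 0x10000000000000
set_option linter.all false
open scoped Cfsg.Agent.FastGrp

/-!
# TwoF SP-C : the row of `J2` in characteristic two (helper83; the data are generated)
-/

set_option autoImplicit false
set_option maxRecDepth 100000

namespace Cfsg.Agent.TwoF.SpC.J2

open Cfsg Subgroup Cfsg.Agent.TwoF.Gen Cfsg.Agent.FS.Real
open Cfsg.Agent.SporadicA.J2Data Cfsg.Agent.SporadicA.J2Hundred
open Cfsg.Agent.H269.CubeJ2 (HH card_HH cent_triv aut_G conj_mem_G)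

/-- the model -/
noncomputable abbrev MM : Mdl (Equiv.Perm (Fin 100)) := mSym 11 100 (by decide)

/-- the generators -/
def gt (i : ℕ) : ℕ := [tA, tB, tC, tD, tE, u0, u1, v0, v1, w0].getD i tA

theorem hg : ∀ i, ∃ y ∈ G, MM.R (gt i) y := getD_all (Pr := fun c => ∃ y ∈ G, MM.R c y) (inG_R _ inA) (by
  simp only [List.forall_mem_cons]
  exact ⟨inG_R _ inA, inG_R _ inB, inG_R _ inC, inG_R _ inD, inG_R _ inE, inG_R _ inu0, inG_R _ inu1, inG_R _ inv0,
    inG_R _ inv1, inG_R _ inw0, fun _ h => (nomatch h)⟩)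

theorem hT : MM.R tT pT := fun _ => Nat.and_two_pow_sub_one_eq_mod _ 11

theorem T_not : pT ∉ G := fun h => absurd ((sign_G _ h).symm.trans sign_T) (by decide)

/-- the codes of `t, f, g, y, d, z, q` -/
def K : ℕ → ℕ := get 1100 0xb01040582d0c20180d05207a0ec2e81407e0e81a8540540042b86004a12c268390660242d830068088040470800001b0190a206c2484202a04c088240701880f84409c178160180420ac2800f0080340900708c0bc0103703c09c130230aa0802284a02e1642184807c0582d0630ac00c260280620142980c0be0380e01d0200c80502e05213c2e03c0c61202383f0880001401a0040c8080580800201100c01a1642185704800c268330521041281c0360281703e05a1681805003217c278150bc0742705b092060138170241081604a05e04c2880f0ac14c0880100a0981b83d0460381082008c078020620c201c300090161500301408a130258520621541501606807c1b02b0b80f01a83a0720e02e83b0a21202382607c0441b03401e1081604a03c14c000460ac0083184007a040190050081601b8620c21500301405a1681805003217c278350740ec1c0390921741e05c05c134018410360cc2185900e02c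1100c026180100210380a41202500215c0702305e0341f80a0100240904404e0542f04e0b60740d0280540600b0170561142604b0621480f85503c0f4208510900ec2905d0161680d0200c0118088310a81702b8190be0ac2682e03a0942384f06000c1a81c0801081b83f0861881f015000154040170c2008090360260c8298490b009c2800d03e0580205909818c0d84404212c0a02f09c098110240940a01683803003c0302300a1141d0070540a40602c0120e42d80a0020f01980e0ac0d00805e0141842a0120300c42e0350a0130008140c0148278020c41180b82909a06c248440b412c2285609011c2a84a04a0100400f05c104000340721741e03a0640ec1c0360320f40a85f0200881082b04e0701981a03a078068430161001402d0581780f84e02c0802d8510600a81300500e00c2b82307e04c060240120f8178630b20dc2105802214c070060000ec1c8380060282b05201609c2c01906a1242883c06c1142b80902e0b81801d0560b02f84d09e1540c01f02c0a41904c0940dc3081e02a120130470a60c42305e0201881f01204212c0700d01803c178070480201501b0341680980104a18c2183f044164118110c01002085b0840e82e0280880140e04e0400181683d008008280330ba0d00a0540c60700d84009e178298540701680782007e1181105c0ba0c4218190be0e4268350740dc1804808e1581703d0a20c8128600ae0902200600012c2705b0940d02603600a1082904905e114168100140a00202a0240782083e0461540a058010098088620c20582800b0120680a82102609c0e82c0b2038008070300ac0b81f0180f0198290060080683b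

theorem K_ok : gok MM gt tT [[8, 7, 4, 1, 9, 8, 8, 5, 9, 9], [3, 4, 0, 5, 8, 5, 8, 8, 9, 9, 9], [2, 9, 8, 7], [9, 4, 5, 8, 5, 9, 8, 9, 9, 9],
    [9, 1, 0, 5, 9, 5, 8, 9, 8, 7], [5, 5, 4, 6, 9, 5, 8, 7, 8, 9], [8, 4, 2, 5, 9, 5, 9, 7]] K 7 = true := by decide +kernel

/-- the known bounds -/
noncomputable def KB (k : ℕ) : ℕ × ℕ := [(K 4, 6), (K 3, 8), (K 0, 5)].getD k (MM.one, 0)

theorem hK : ∀ k, ∃ γ, MM.R (KB k).1 γ ∧ LE G γ (KB k).2 := by
  obtain ⟨v, h, -, hG, -⟩ := exists_gen hg hT K_ok aut_le pT_mem T_not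
  have ht := h 0 (by decide)
  have hf := h 1 (by decide)
  have hg := h 2 (by decide)
  have hy := h 3 (by decide)
  have hd := h 4 (by decide)
  have hz := h 5 (by decide)
  have hq := h 6 (by decide)
  obtain ⟨h1, h2, h3⟩ := le_j2 (hG 1 (by decide) (by decide)) (hG 2 (by decide) (by decide))
    (hG 3 (by decide) (by decide)) (hG 5 (by decide) (by decide)) (hG 6 (by decide) (by decide))
    (MM.ne_of hf MM.R_one (by decide +kernel))
    (MM.eq_of (MM.R_mul hf hg) (MM.R_mul hg hf) (by decide +kernel))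
    (MM.eq_of (Mdl.R_pw hf 5) MM.R_one (by decide +kernel))
    (MM.eq_of (Mdl.R_pw hg 5) MM.R_one (by decide +kernel))
    (MM.eq_of (Mdl.R_pw hy 3) MM.R_one (by decide +kernel))
    (MM.eq_of (MM.R_mul hy hf) (MM.R_mul hg hy) (by decide +kernel))
    (MM.eq_of (MM.R_mul hy hg) (MM.R_mul (Mdl.R_pw (MM.R_mul hf hg) 4) hy) (by decide +kernel))
    (MM.eq_of (MM.R_mul hy (MM.R_mul hf (Mdl.R_pw hg 2))) (MM.R_mul (Mdl.R_pw (MM.R_mul hf (Mdl.R_pw hg 3)) 3) hy)
      (by decide +kernel))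
    (MM.eq_of (MM.R_mul hy (MM.R_mul hf (Mdl.R_pw hg 3))) (MM.R_mul (Mdl.R_pw (MM.R_mul hf (Mdl.R_pw hg 4)) 2) hy)
      (by decide +kernel))
    (MM.eq_of (Mdl.R_pw (MM.R_mul (Mdl.R_pw (MM.R_mul hg (Mdl.R_pw hf 4)) 2) (MM.R_mul (Mdl.R_pw (MM.R_mul hf hg)
      4) (Mdl.R_pw hg 4))) 3) hf (by decide +kernel))
    (MM.eq_of (Mdl.R_pw hd 2) MM.R_one (by decide +kernel))
    (MM.eq_of (MM.R_mul hf (MM.R_mul hd hf)) hd (by decide +kernel))
    (MM.eq_of (MM.R_mul hg (MM.R_mul hd hg)) hd (by decide +kernel))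
    (MM.ne_of hz MM.R_one (by decide +kernel))
    (MM.eq_of (Mdl.R_pw hz 3) MM.R_one (by decide +kernel))
    (MM.eq_of (MM.R_mul hy hz) (MM.R_mul hz hy) (by decide +kernel))
    (MM.eq_of (MM.R_mul hq hz) (MM.R_mul hz hq) (by decide +kernel))
    (MM.eq_of (MM.R_mul hq hy) (MM.R_mul (MM.R_mul hy hz) hq) (by decide +kernel))
    (MM.eq_of (Mdl.R_pw ht 2) MM.R_one (by decide +kernel))
    (MM.eq_of (MM.R_mul hz (MM.R_mul ht hz)) ht (by decide +kernel))
    (MM.eq_of (MM.R_mul hy (MM.R_mul ht hy)) ht (by decide +kernel))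
  refine getD_all (Pr := fun p : ℕ × ℕ => ∃ γ, MM.R p.1 γ ∧ LE G γ p.2) ⟨1, MM.R_one, le_one⟩ ?_
  simp only [List.forall_mem_cons]
  exact ⟨⟨_, hd, h1⟩, ⟨_, hy, h2⟩, ⟨_, ht, h3⟩, fun _ h => (nomatch h)⟩

/-- the Sylow subgroup of the automorphism group -/
def D : PcD := ⟨8, 0x808080808080800000404040c040c0000080a0a0a0e02000000000d0b0d0900000000080088868000000000000cc0400000000000000f20000000000000000,
  0x7f7e7d7c7b7a797877767574737271706f6e6d6c6b6a696867666564636261605f5e5d5c5b5a595857565554535251504f4e4d4c4b4a494847464544434241403f3e3d3c3b3a393837363534333231302f2e2d2c2b2a292827262524232221201f1e1d1c1b1a191817161514131211100f0e0d0c0b0a09080706050403020100fffefdfcfbfaf9f8f7f6f5f4f3f2f1f0efeeedecebeae9e8e7e6e5e4e3e2e1e0dfdedddcdbdad9d8d7d6d5d4d3d2d1d0cfcecdcccbcac9c8c7c6c5c4c3c2c1c0bfbebdbcbbbab9b8b7b6b5b4b3b2b1b0afaeadacabaaa9a8a7a6a5a4a3a2a1a09f9e9d9c9b9a999897969594939291908f8e8d8c8b8a89888786858483828180bfbebdbcbbbab9b8b7b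6b5b4b3b2b1b0afaeadacabaaa9a8a7a6a5a4a3a2a1a09f9e9d9c9b9a999897969594939291908f8e8d8c8b8a89888786858483828180fffefdfcfbfaf9f8f7f6f5f4f3f2f1f0efeeedecebeae9e8e7e6e5e4e3e2e1e0dfdedddcdbdad9d8d7d6d5d4d3d2d1d0cfcecdcccbcac9c8c7c6c5c4c3c2c1c03f3e3d3c3b3a393837363534333231302f2e2d2c2b2a292827262524232221201f1e1d1c1b1a191817161514131211100f0e0d0c0b0a090807060504030201007f7e7d7c7b7a797877767574737271706f6e6d6c6b6a696867666564636261605f5e5d5c5b5a595857565554535251504f4e4d4c4b4a494847464544434241405f5e5d5c5b5a595857565554535251504f4e4d4c4b4a49484746454443424140fffefdfcfbfaf9f8f7f6f5f4f3f2f1f0efeeedecebeae9e8e7e6e5e4e3e2e1e01f1e1d1c1b1a191817161514131211100f0e0d0c0b0a09080706050403020100bfbebdbcbbbab9b8b7b6b5b4b3b2b1b0afaeadacabaaa9a8a7a6a5a4a3a2a1a0dfdedddcdbdad9d8d7d6d5d4d3d2d1d0cfcecdcccbcac9c8c7c6c5c4c3c2c1c07f7e7d7c7b7a797877767574737271706f6e6d6c6b6a696867666564636261609f9e9d9c9b9a999897969594939291908f8e8d8c8b8a898887868584838281803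f3e3d3c3b3a393837363534333231302f2e2d2c2b2a292827262524232221206f6e6d6c6b6a696867666564636261607f7e7d7c7b7a79787776757473727170cfcecdcccbcac9c8c7c6c5c4c3c2c1c0dfdedddcdbdad9d8d7d6d5d4d3d2d1d02f2e2d2c2b2a292827262524232221203f3e3d3c3b3a393837363534333231308f8e8d8c8b8a898887868584838281809f9e9d9c9b9a99989796959493929190efeeedecebeae9e8e7e6e5e4e3e2e1e0fffefdfcfbfaf9f8f7f6f5f4f3f2f1f04f4e4d4c4b4a494847464544434241405f5e5d5c5b5a59585756555453525150afaeadacabaaa9a8a7a6a5a4a3a2a1a0bfbebdbcbbbab9b8b7b6b5b4b3b2b1b00f0e0d0c0b0a090807060504030201001f1e1d1c1b1a191817161514131211103736353433323130bfbebdbcbbbab9b8e7e6e5e4e3e2e1e06f6e6d6c6b6a696897969594939291901f1e1d1c1b1a19184746454443424140cfcecdcccbcac9c87776757473727170fffefdfcfbfaf9f8a7a6a5a4a3a2a1a02f2e2d2c2b2a2928d7d6d5d4d3d2d1d05f5e5d5c5b5a595807060504030201008f8e8d8c8b8a8988b7b6b5b4b3b2b1b03f3e3d3c3b3a39386766656463626160efeeedecebeae9e817161514131211109f9e9d9c9b9a9998c7c6c5c4c3c2c1c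04f4e4d4c4b4a4948f7f6f5f4f3f2f1f07f7e7d7c7b7a79782726252423222120afaeadacabaaa9a85756555453525150dfdedddcdbdad9d887868584838281800f0e0d0c0b0a0908dbdad9d8dfdedddcd3d2d1d0d7d6d5d4ebeae9e8efeeedece3e2e1e0e7e6e5e4fbfaf9f8fffefdfcf3f2f1f0f7f6f5f44b4a49484f4e4d4c43424140474645441b1a19181f1e1d1c13121110171615142b2a29282f2e2d2c23222120272625243b3a39383f3e3d3c33323130373635348b8a89888f8e8d8c83828180878685845b5a59585f5e5d5c53525150575655546b6a69686f6e6d6c63626160676665647b7a79787f7e7d7c7372717077767574cbcac9c8cfcecdccc3c2c1c0c7c6c5c49b9a99989f9e9d9c9392919097969594abaaa9a8afaeadaca3a2a1a0a7a6a5a4bbbab9b8bfbebdbcb3b2b1b0b7b6b5b40b0a09080f0e0d0c03020100070605043534373679787b7a3d3c3f3ef1f0f3f2e5e4e7e6a9a8abaaedecefee21202322d5d4d7d699989b9adddcdfde111013120504070649484b4a0d0c0f0ec1c0c3c27574777639383b3a7d7c7f7eb1b0b3b2a5a4a7a6e9e8ebeaadacafae6160636295949796d9d8dbda9d9c9f9e515053524544474609080b0a4d4c4f4e81808382b5b4b7b6f9f8fbfabdbcbfbe71707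3726564676629282b2a6d6c6f6ea1a0a3a25554575619181b1a5d5c5f5e9190939285848786c9c8cbca8d8c8f8e41404342f5f4f7f6b9b8bbbafdfcfffe313033322524272669686b6a2d2c2f2ee1e0e3e21514171659585b5a1d1c1f1ed1d0d3d2c5c4c7c689888b8acdcccfce010003028e8f9c9daaab98992627f4f50203f0f19e9f8c8d3a3b8889b6b76465121360612e2f3c3d8a8b38390607d4d5a2a3d0d13e3f2c2d1a1b282996974445b2b340414e4f5c5d6a6b5859e6e73435c2c330315e5f4c4dfafb48497677a4a5d2d3a0a1eeeffcfd4a4bf8f9c6c7141562631011feffeceddadbe8e956578485727380810e0f1c1d2a2b1819a6a77475828370711e1f0c0dbabb08093637e4e59293e0e1aeafbcbd0a0bb8b98687545522235051bebfacad9a9ba8a91617c4c53233c0c1cecfdcddeaebd8d96667b4b54243b0b1dedfcccd7a7bc8c9f6f72425525320216e6f7c7dcacb787946479495e2e390917e7f6c6d5a5b6869d6d70405f2f30001,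
  0x7f7e7d7c7b7a797877767574737271706f6e6d6c6b6a696867666564636261605f5e5d5c5b5a595857565554535251504f4e4d4c4b4a494847464544434241403f3e3d3c3b3a393837363534333231302f2e2d2c2b2a292827262524232221201f1e1d1c1b1a191817161514131211100f0e0d0c0b0a09080706050403020100fffefdfcfbfaf9f8f7f6f5f4f3f2f1f0efeeedecebeae9e8e7e6e5e4e3e2e1e0dfdedddcdbdad9d8d7d6d5d4d3d2d1d0cfcecdcccbcac9c8c7c6c5c4c3c2c1c0bfbebdbcbbbab9b8b7b6b5b4b3b2b1b0afaeadacabaaa9a8a7a6a5a4a3a2a1a09f9e9d9c9b9a999897969594939291908f8e8d8c8b8a89888786858483828180bfbebdbcbbbab9b8b7b6b5b4b3b2b1b0afaeadacabaaa9a8a7a6a5a4a3a2a1a09f9e9d9c9b9a999897969594939291908f8e8d8c8b8a89888786858483828180fffefdfcfbfaf9f8f7f6f5f4f3f2f1f0efeeedecebeae9e8e7e6e5e4e3e2e1e0dfdedddcdbdad9d8d7d6d5d4d3d2d1d0cfcecdcccbcac9c8c7c6c5c4c3c2c1c03f3e3d3c3b3a393837363534333231302f2e2d2c2b2a292827262524232221201f1e1d1c1b1a191817161514131211100f0e0d0c0b0a090807060504030201007f7e7d7c7b7a797877767574737271706f6e6d6c6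b6a696867666564636261605f5e5d5c5b5a595857565554535251504f4e4d4c4b4a49484746454443424140dfdedddcdbdad9d8d7d6d5d4d3d2d1d0cfcecdcccbcac9c8c7c6c5c4c3c2c1c07f7e7d7c7b7a797877767574737271706f6e6d6c6b6a696867666564636261609f9e9d9c9b9a999897969594939291908f8e8d8c8b8a898887868584838281803f3e3d3c3b3a393837363534333231302f2e2d2c2b2a292827262524232221205f5e5d5c5b5a595857565554535251504f4e4d4c4b4a49484746454443424140fffefdfcfbfaf9f8f7f6f5f4f3f2f1f0efeeedecebeae9e8e7e6e5e4e3e2e1e01f1e1d1c1b1a191817161514131211100f0e0d0c0b0a09080706050403020100bfbebdbcbbbab9b8b7b6b5b4b3b2b1b0afaeadacabaaa9a8a7a6a5a4a3a2a1a06f6e6d6c6b6a696867666564636261607f7e7d7c7b7a79787776757473727170cfcecdcccbcac9c8c7c6c5c4c3c2c1c0dfdedddcdbdad9d8d7d6d5d4d3d2d1d02f2e2d2c2b2a292827262524232221203f3e3d3c3b3a393837363534333231308f8e8d8c8b8a898887868584838281809f9e9d9c9b9a99989796959493929190efeeedecebeae9e8e7e6e5e4e3e2e1e0fffefdfcfbfaf9f8f7f6f5f4f3f2f1f04f4e4d4c4b4a49484746454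4434241405f5e5d5c5b5a59585756555453525150afaeadacabaaa9a8a7a6a5a4a3a2a1a0bfbebdbcbbbab9b8b7b6b5b4b3b2b1b00f0e0d0c0b0a090807060504030201001f1e1d1c1b1a19181716151413121110b7b6b5b4b3b2b1b03f3e3d3c3b3a39386766656463626160efeeedecebeae9e817161514131211109f9e9d9c9b9a9998c7c6c5c4c3c2c1c04f4e4d4c4b4a4948f7f6f5f4f3f2f1f07f7e7d7c7b7a79782726252423222120afaeadacabaaa9a85756555453525150dfdedddcdbdad9d887868584838281800f0e0d0c0b0a09083736353433323130bfbebdbcbbbab9b8e7e6e5e4e3e2e1e06f6e6d6c6b6a696897969594939291901f1e1d1c1b1a19184746454443424140cfcecdcccbcac9c87776757473727170fffefdfcfbfaf9f8a7a6a5a4a3a2a1a02f2e2d2c2b2a2928d7d6d5d4d3d2d1d05f5e5d5c5b5a595807060504030201008f8e8d8c8b8a8988dbdad9d8dfdedddcd3d2d1d0d7d6d5d4ebeae9e8efeeedece3e2e1e0e7e6e5e4fbfaf9f8fffefdfcf3f2f1f0f7f6f5f44b4a49484f4e4d4c43424140474645441b1a19181f1e1d1c13121110171615142b2a29282f2e2d2c23222120272625243b3a39383f3e3d3c33323130373635348b8a89888f8e8d8c83828180878685845b5a5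9585f5e5d5c53525150575655546b6a69686f6e6d6c63626160676665647b7a79787f7e7d7c7372717077767574cbcac9c8cfcecdccc3c2c1c0c7c6c5c49b9a99989f9e9d9c9392919097969594abaaa9a8afaeadaca3a2a1a0a7a6a5a4bbbab9b8bfbebdbcb3b2b1b0b7b6b5b40b0a09080f0e0d0c03020100070605043534373679787b7a3d3c3f3ef1f0f3f2e5e4e7e6a9a8abaaedecefee21202322d5d4d7d699989b9adddcdfde111013120504070649484b4a0d0c0f0ec1c0c3c27574777639383b3a7d7c7f7eb1b0b3b2a5a4a7a6e9e8ebeaadacafae6160636295949796d9d8dbda9d9c9f9e515053524544474609080b0a4d4c4f4e81808382b5b4b7b6f9f8fbfabdbcbfbe717073726564676629282b2a6d6c6f6ea1a0a3a25554575619181b1a5d5c5f5e9190939285848786c9c8cbca8d8c8f8e41404342f5f4f7f6b9b8bbbafdfcfffe313033322524272669686b6a2d2c2f2ee1e0e3e21514171659585b5a1d1c1f1ed1d0d3d2c5c4c7c689888b8acdcccfce010003028e8f9c9daaab98992627f4f50203f0f19e9f8c8d3a3b8889b6b76465121360612e2f3c3d8a8b38390607d4d5a2a3d0d13e3f2c2d1a1b282996974445b2b340414e4f5c5d6a6b5859e6e73435c2c330315e5f4c4dfafb48497677a4a5d2d3a0a1eeeffcfd4a4bf8f9c6c7141562631011feffeceddadbe8e956578485727380810e0f1c1d2a2b1819a6a77475828370711e1f0c0dbabb08093637e4e59293e0e1aeafbcbd0a0bb8b98687545522235051bebfacad9a9ba8a91617c4c53233c0c1cecfdcddeaebd8d96667b4b54243b0b1dedfcccd7a7bc8c9f6f72425525320216e6f7c7dcacb787946479495e2e390917e7f6c6d5a5b6869d6d70405f2f30001,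
  0x655616106266054060364530600600006554060062660450322412103006300065561610600600006226422062260220655406006006000030641510355634f0655616106266054060364530600600006554060062660450322412103006300065561610600600006226422062260220655406006006000030641510355634f, [128]⟩

/-- the codes of the generators -/
def X : ℕ → ℕ := get 1100 0x400d82f00b0be1841101f0b60dc2c8140781300085403a148278060a203c108560261281901800006814844048094208150680f8168570360a8160380b41881a83f0101240183005e0441e8390240e82280e04e0982104303c174268630b808c298090761180b848032058200580960ac1701009c0a00200c0c001c0e0330141400280d0620082a84709a1001f81b0be0d0090110b60b42c8580380380402703a14819048092138318280341282785003204c0504408410c208620c20f81b8090160a81c83807a0540b05e0021441883004c07c2d02c0440e80384c0a80bc1202503c0ac1002105c08c298570c012c238060000d41b01408c1742e01001e158020050761141e0550520600600d006008198170381200905a0b60ac1a0330be02c208030420900882701a1480d01508c0b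02b8430921280983600e1440c8440ac0382c8500ba0e00d84d07a08c2703e0c00601a82203e12c2c01005e1541d80f0c20780b8420a80981404c0540fc1e0090100e80202005a13c1486208a05803031064178008300720940e80506e11c3185c000100060530280081700a0101681204802010c070090601881c03905c0482680c0741281481b08a0c42a82b08e1480506009605c278020bc0d01f02d04a1040a81100c14c2c05906c0dc1784204001c2705b06a15c200140980742882200a0581f8610080a0008330380341501f0a00640d00b08c0981e82c0001581e05f0061740f0540301242e0630640ec1382301e110108130800841905c0b61242300b0be0202c8390300641e8270461281a01c07e00c31017024148308570500882180205201c208200a20f80084805c0100a0380661341a84f0b41782701004c06c2a858096034120000a80bc0504503a0681b0150c014c0f0060221742603c0ac0583182c05604c1d83006211c1d00c03e1082803704a0240282a01e1101680e00c15c090110b60ac1a03b0be1542080d0c41302d0540061280d02008c078240560921482584d08e13c228440860942c8090440f8040360b80e41d0380020f01a85d05a04c0e83005e02c1982a0bc0b01482804e098210240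1e0fc0c0500361381881503e1440b8210320580e004064184300100460382c00505c01c2003d01418c060140a60081b800026174240420200603100a060130208310920dc2382f0740080483f0380b02305a0401102b8610aa1340884a0361802c8120a00e00703204814c0783e0ac0880280602e0f02c05b0a80a41404e02a0741702d04c09c0583b01a0d80d04b00e0101504f0860840405e066030158030c61002285f0720f41181604a1702881903e0d01a81e0281480000105c0b42e8500820883084d0b20542d81d0660940e0540281282886009e08c2e0420261481903b08e1181484401c1302f8370560401b0080900e41d0300800f4130120ae1240683802c18c3102a07e0b02282404e0d42b02809c1780f81104203c2c0550300680b81b0320bc2d0530960d01003e03c10c1880c00c0280083c00e02c0280300800804800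

theorem X_ok : gok MM gt tT [[5, 8, 0, 6, 8, 9, 9, 8, 9, 9, 9], [0, 9, 5, 7, 9, 9, 9], [7, 5, 9, 7, 9], [4, 9, 5, 8, 5, 9, 7, 8, 7, 9, 9, 9],
    [4, 2, 5, 8, 5, 9, 9, 9, 8, 9, 9, 9], [4, 0, 6, 5, 6, 9, 7, 8, 9, 9], [9, 4, 0, 8, 7, 9, 5, 8, 7, 8, 9, 9], [9,
    2, 8, 8, 6, 5, 8, 7, 8, 8, 9, 9]] X 8 = true := by decide +kernel

/-- the involutions -/
def T : List (ℕ × ℕ) := [(1, 0x3000000030000000000300000003300030000000300000000003000000032), (2,
  0x5000000000005000500000000000500050000000000050005000000000004), (4,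
  0x2200000000000000000000003300000022000000000000000000000032), (5,
  0x21000000000000003300000000000000210000000000000032), (10,
  0x4010401000000000401040100000000040104010000000004010400), (16,
  0x2000204010401000000000401040100020002040104010000000004010400), (26,
  0x4010401000000000401040100000000040104010000000004010400), (29,
  0x20020001000010002000000100000000200200010000100020000000), (36,
  0x200000020000000300000000300000002000000200000003000000002), (37,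
  0x2000000001000000300000000300000020000000010000003000000002), (44,
  0x2000000020000200010002000000100020000000200002000100020000000), (48,
  0x5000200020005000500000000000500050002000200050005000000000004), (50,
  0x5000000000005000500000000000500050000000000050005000000000004), (61,
  0x2002000000000001200010000000000120020000000000012000100000000000), (64,
  0x2005002024010425200500202401042520050020240104252005002024010424), (66,
  0x5000000000005000500000000000500050000000000050005000000000004), (69,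
  0x200000021000000100000002100000002000000210000001000000020), (74,
  0x4010401000000000401040100000000040104010000000004010400), (76,
  0x2002000020021000000000000000000120020000200210000000000000000000), (80,
  0x4030401000000000401040300000000040304010000000004010402), (81,
  0x2000000200031000000110002000000320000002000310000001100020000002), (90,
  0x4010401000000000401040100000000040104010000000004010400), (93,
  0x2000020001001000000002000000100020000200010010000000020000000), (97,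
  0x2002200020020000100100001001100020022000200200001001000010010), (101,
  0x2200000001000000200000001100000022000000010000002000000010), (112,
  0x7000000000005000500000000000700070000000000050005000000000006), (113,
  0x3000220001000200010000001000300030002200010002000100000010002), (114,
  0x5000000000005000500000000000500050000000000050005000000000004), (125,
  0x2000000000021001200000000000000120000000000210012000000000000000), (128,
  0x2007002224031425200510302401043720070022240314252005103024010436), (129,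
  0x3000000030000000000300000003300030000000300000000003000000032), (130,
  0x5000000000005000500000000000500050000000000050005000000000004), (132,
  0x2200000000000000000000003300000022000000000000000000000032), (133,
  0x21000000000000003300000000000000210000000000000032), (138,
  0x4010401000000000401040100000000040104010000000004010400), (144,
  0x2000204010401000000000401040100020002040104010000000004010400), (154,
  0x4010401000000000401040100000000040104010000000004010400), (157,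
  0x20020001000010002000000100000000200200010000100020000000), (164,
  0x200000020000000300000000300000002000000200000003000000002), (165,
  0x2000000001000000300000000300000020000000010000003000000002), (172,
  0x2000000020000200010002000000100020000000200002000100020000000), (176,
  0x5000200020005000500000000000500050002000200050005000000000004), (178,
  0x5000000000005000500000000000500050000000000050005000000000004), (189,
  0x2002000000000001200010000000000120020000000000012000100000000000), (192,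
  0x2005002024010425200500202401042520050020240104252005002024010424), (194,
  0x5000000000005000500000000000500050000000000050005000000000004), (197,
  0x200000021000000100000002100000002000000210000001000000020), (202,
  0x4010401000000000401040100000000040104010000000004010400), (204,
  0x2002000020021000000000000000000120020000200210000000000000000000), (208,
  0x4030401000000000401040300000000040304010000000004010402), (209,
  0x2000000200031000000110002000000320000002000310000001100020000002), (218,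
  0x4010401000000000401040100000000040104010000000004010400), (221,
  0x2000020001001000000002000000100020000200010010000000020000000), (225,
  0x2002200020020000100100001001100020022000200200001001000010010), (229,
  0x2200000001000000200000001100000022000000010000002000000010), (240,
  0x7000000000005000500000000000700070000000000050005000000000006), (241,
  0x3000220001000200010000001000300030002200010002000100000010002), (242,
  0x5000000000005000500000000000500050000000000050005000000000004), (253,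
  0x2000000000021001200000000000000120000000000210012000000000000000)]

theorem T_ok : tabOk D T = true := by decide +kernel

/-- certificates -/
def c6 : List Ct := [⟨2, [[]], 1, [4, 6, 1, 0, 5, 6, 9, 8, 9, 9], 0⟩, ⟨16, [[]], 1, [5, 6, 1, 6, 5, 6, 9, 9, 7, 9, 9], 0⟩]

/-- certificates -/
def c5 : List Ct := [⟨1, [[]], 1, [9, 2, 8, 9, 9, 5, 9, 8, 9, 7, 9, 9], 2⟩, ⟨5, [[]], 1, [5, 4, 2, 6, 5, 6, 7, 8, 8], 2⟩]

/-- certificates -/
def ca : List Ct := [⟨4, [[7, 9, 4, 8, 8, 5, 8, 7], [2, 8, 1, 6, 9, 5, 8, 7, 9, 9]], 1, [8, 1, 0, 8, 9, 5, 9, 7, 9, 8, 9, 9], 1⟩, ⟨36,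
  [[4, 3, 0, 8, 5, 6, 9, 8, 7, 8, 9, 9, 9], [2, 0, 8, 9, 9, 5, 8, 8, 8, 7]], 1, [6, 2, 9, 5, 7, 8, 8, 7, 9], 1⟩,
  ⟨128, [[0, 8, 1, 7, 6, 5, 8, 8, 7, 8, 9, 9], [7, 9, 4, 8, 5, 6, 8, 7, 9, 7]], 1, [6, 1, 8, 7, 5, 7, 8, 7, 9, 9],
  1⟩, ⟨132, [[7, 9, 4, 8, 5, 6, 8, 7, 9, 7], [0, 8, 1, 7, 6, 5, 8, 8, 7, 8, 9, 9]], 1, [9, 9, 3, 8, 5, 9, 9, 8, 9],
  1⟩, ⟨164, [[1, 0, 6, 5, 8, 8, 9, 8, 7], [4, 0, 8, 8, 6, 5, 9, 9, 7, 9, 9, 9]], 1, [5, 4, 1, 7, 5, 9, 9], 1⟩]

/-- certificates -/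
def cb : List Ct := [⟨4, [[4, 9, 3, 9, 6, 5, 9, 7, 8, 8, 9, 9], [4, 9, 3, 6, 5, 6, 9, 7, 8, 9]], 1, [8, 1, 8, 1, 7, 9, 5, 7, 8, 9, 9],
  1⟩, ⟨64, [[5, 6, 0, 9, 5, 8, 5, 8, 7, 8], [9, 4, 0, 8, 8, 5, 7, 8, 7, 9, 7, 9]], 1, [4, 6, 1, 0, 8, 9, 5, 8, 8,
  9], 1⟩, ⟨128, [[0, 8, 0, 7, 5, 8, 8, 8, 7], [7, 9, 4, 9, 6, 5, 9, 9, 9, 8, 9, 9, 9]], 1, [9, 9, 3, 8, 6, 5, 5, 7,
  8, 8, 7], 1⟩, ⟨132, [[9, 2, 8, 7, 9, 5, 7, 9, 7, 8, 9, 9, 9], [1, 0, 7, 9, 5, 8, 9, 9, 7]], 1, [3, 6, 5, 5, 7, 8,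
  8, 7, 9, 9], 1⟩, ⟨192, [[0, 8, 1, 9, 6, 5, 7, 8], [7, 9, 4, 9, 5, 8, 9, 9, 7, 9]], 1, [5, 4, 1, 8, 8, 5, 8, 7, 9,
  7, 8, 9, 9, 9], 1⟩]

theorem hN : ∀ g ∈ HH, ∀ x ∈ G, g⁻¹ * x * g ∈ G := fun g hg x hx => by
  simpa using conj_mem_G (inv_mem hg) hx

theorem zc : XE.Zc 2 G 1 := fun K _ _ π h1 h2 => by
  obtain ⟨e⟩ := J2.HundredGens.J2_iso S1619.result.2.2.2
  rcases (Nat.dvd_prime Nat.prime_two).1 ((XE.zc_of_cyclic (p := 2) S2040.result).of_equiv e.symm K π h1 h2) with h | h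
  · rw [h]
  · exact absurd (h ▸ dvd_rfl) h2

theorem row : Row 2 G := by
  obtain ⟨x, hx, h1, h2, -⟩ := exists_gen hg hT X_ok aut_le pT_mem T_not
  obtain ⟨S, J⟩ := Mdl.RX.gen (D := D) hx (D.ok_spec (by decide +kernel)) (by decide +kernel)
  have hS : S ≤ HH := J.le_of h1
  have hv := Mdl.RX.el (D := D) hx
  refine row_two (fun _ => cent_triv) aut_G hN zc J.isPGroup hS (fun e => ?_) (fun E hE hA r hr hc => ?_)
    fun E hE hA h0 r hr hc => ?_
  · have h3 := (S.subgroupOf HH).card_mul_index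
    rw [Nat.card_congr (subgroupOfEquivOfLe hS).toEquiv, J.card, card_HH] at h3
    obtain ⟨c, hc⟩ := e
    rw [show (S.subgroupOf HH).index = 2 * c from hc, show 2 ^ D.n = 256 from rfl] at h3
    omega
  · have h3 := le_of_pow_le hc (nb_card J T_ok hE hA (f := fun _ _ => true) (fun _ _ _ _ => rfl) (k := 31)
      (n := 1) (by decide +kernel)) (e := 4) (by decide)
    obtain rfl : r = 4 := by omega
    obtain ⟨a, h4, h5⟩ := nb_exists J T_ok hE hA (f := fun _ _ => true) (fun _ _ _ _ => rfl)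
      (M := 0x5000004010404000500000401040400050000040104040005000004010404) (k := 15) (n := 1) (by decide +kernel) (by rw [hc]; decide)
    exact ⟨_, h5, cls_seed J (T := T) (Pr := fun y => LE G y 6) (fun s hs _ h => h.cj hN (hS hs))
      (cts_le hg hv hK (l := c6) (by decide +kernel)) (n := 1) (by decide +kernel) h4⟩
  obtain ⟨a, h3, h4⟩ := exists_odd J T_ok hE hA h2 h0 (M := 0x2002002220020020200000202000002220020022200200202000002020000022) (by decide +kernel)
  have h5 := cts_le hg hv hK (c := 5) (l := c5) (by decide +kernel)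
  have key : ∀ (a : ℕ) (l : List Ct), a ∈ c5.map Ct.b → a < D.N → a ≠ 0 →
      l.all (ct MM gt (MM.elc X 8) (fun k => (KB k).1) (fun k => (KB k).2) (MM.elc X 8 a) 5 7) = true →
      nb T 15 1 (msk T fun _ m => tb m a) = true →
      nb T 7 1 (msk T fun b m => tb m a && !tb (seedM (l.map Ct.b)) b) = true →
      LE G (el x 8 a) 5 ∧ ∀ r, 2 < r → Gd G S 1 (el x 8 a) r (2 * r + 1) := fun a l e1 e2 e3 e4 e5 e6 => by
    refine ⟨h5 a e1, fun r hr E hE hA _ ha hc => ?_⟩
    have h6 : ∀ b m, (b, m) ∈ T → el x D.n b ∈ E → tb m a = true := fun b m f1 f2 =>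
      tab_comm J T_ok hA f1 f2 e2 e3 ha
    obtain rfl : r = 3 := le_antisymm (le_of_pow_le hc (nb_card J T_ok hE hA h6 e5) (by decide)) hr
    obtain ⟨b, h7, h8⟩ := nb_exists J T_ok hE hA h6 e6 (by rw [hc]; decide)
    exact cts_spec hg hv hK (hv a) (h5 a e1) e4 (seedM_spec h7) ha h8
  obtain ⟨h6, h7⟩ := cls_seed J (T := T) (Pr := fun y => LE G y 5 ∧ ∀ r, 2 < r → Gd G S 1 y r (2 * r + 1))
    (fun s hs _ h => ⟨h.1.cj hN (hS hs), fun r hr => (h.2 r hr).cj hN hS hs (by simp)⟩) (l := [1, 5]) (by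
      simp only [List.forall_mem_cons]
      exact ⟨key 1 ca (by decide) (by decide) (by decide) (by decide +kernel) (by decide +kernel) (by decide +kernel),
        key 5 cb (by decide) (by decide) (by decide) (by decide +kernel) (by decide +kernel) (by decide +kernel),
        fun _ h => (nomatch h)⟩) (n := 2) (by decide +kernel) h3
  by_cases h8 : 2 < r
  · exact h7 r h8 E hE hA (one_mem _) h4 hc
  · exact (h6.lh h4).le (by omega)

end Cfsg.Agent.TwoF.SpC.J2
end

-- part: TwoF/SpC/J1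
section
set_option linter.all false
open scoped Cfsg.Agent.FastGrp

/-!
# TwoF SP-C : the row of the first Janko group (helper83)
-/

set_option autoImplicit false

namespace Cfsg.Agent.TwoF.SpC

open Cfsg Subgroup Cfsg.Agent.TwoF.Gen

/-- a prime that is not in the list `L` does not divide the product of powers of the members of `L` -/
theorem not_sq_dvd {p a b : ℕ} (hp : p.Prime) (ha : p.Coprime a) (hb : Squarefree b) : ¬ p ^ 2 ∣ a * b := fun h =>
  hp.one_lt.ne' (Nat.isUnit_iff.1 (hb p (by rw [← pow_two]; exact (ha.pow_left 2).dvd_of_dvd_mul_left h)))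

/-- small Sylow subgroups -/
theorem row_of_not_dvd {p : ℕ} [Fact p.Prime] {S : Type} [Group S] [Finite S] (ho : ¬ p ∣ Nat.card (Out S))
    (h : ¬ p ^ (small p + 1) ∣ Nat.card S) : Row p S := SpA.row_of_card ho (XE.card_le_of_not_dvd h)

theorem row_of_not_sq {p : ℕ} [Fact p.Prime] {S : Type} [Group S] [Finite S] (ho : ¬ p ∣ Nat.card (Out S))
    (h : ¬ p ^ 2 ∣ Nat.card S) : Row p S :=
  row_of_not_dvd ho fun e => h ((pow_dvd_pow p (by unfold small; split_ifs <;> omega)).trans e)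

/-- **the row of `J1`** -/
theorem row_j1 (p : ℕ) [hp : Fact p.Prime] : Row p Spor.J1 := by
  have hc := H348.Inv.J1.card_J1
  have : Finite Spor.J1 := Nat.finite_of_card_ne_zero (by rw [hc]; norm_num)
  have ho : ¬ p ∣ Nat.card (Out Spor.J1) := by
    rw [S2065.result, Nat.dvd_one]
    exact hp.out.one_lt.ne'
  by_cases h2 : p = 2
  · subst h2
    exact row_of_not_dvd ho (by rw [hc, small_two]; norm_num)
  refine row_of_not_sq ho ?_
  rw [hc, show 175560 = 2 ^ 3 * 21945 by norm_num]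
  exact not_sq_dvd hp.out (((Nat.coprime_primes hp.out Nat.prime_two).2 h2).pow_right 3) (by decide +kernel)

end Cfsg.Agent.TwoF.SpC
end

-- part: TwoF/XL/Base
section
prune_inst 0x10000000000000
set_option linter.all false
open scoped Cfsg.Agent.FastGrp

/-!
# TwoF / XL: generation by conjugates and lifts of covering groups (helper1)

* `cod_le_of_reach`, `finrank_le_of_reach`: from `H915.Gs.Reach (φ a) k J` to `cod`.
* `Lf K π c ι`: `ι : G →* Y` maps onto `K` and lies above `c : G →* S`; `Lf.conj`: elements of `Y` act on `G`.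
* `Cen ρ ι`: the kernel of `ρ ∘ ι` is central.
-/

set_option autoImplicit false

namespace Cfsg.Agent.TwoF.XL

open Module Gen
open scoped commutatorElement
open Cfsg.Agent.H915.Gs (Reach Gn)

section Grp

variable {Y : Type*} [Group Y]

theorem comm_mul_cen {a b z w : Y} (_ : z * a = a * z) (h2 : z * b = b * z) (h3 : w * a = a * w)
    (_ : w * b = b * w) (h5 : z * w = w * z) : ⁅a * z, b * w⁆ = ⁅a, b⁆ := by
  have e1 : a * z * (b * w) = a * b * (z * w) := by
    rw [mul_assoc, ← mul_assoc z, h2]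
    simp only [mul_assoc]
  have e2 : b * w * (a * z) = b * a * (z * w) := by
    rw [mul_assoc, ← mul_assoc w, h3, h5]
    simp only [mul_assoc]
  calc ⁅a * z, b * w⁆ = a * z * (b * w) * (b * w * (a * z))⁻¹ := by rw [commutatorElement_def]; group
    _ = ⁅a, b⁆ := by rw [e1, e2, commutatorElement_def]; group

/-- two homomorphisms from a perfect group that agree modulo the centre of a group containing the images -/
theorem hom_eq_of_cen {G : Type*} [Group G] (hG : commutator G = ⊤) {K : Subgroup Y} (f g : G →* Y)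
    (hf : ∀ x, f x ∈ K) (hg : ∀ x, g x ∈ K) (h : ∀ x, (f x)⁻¹ * g x ∈ Subgroup.centralizer (K : Set Y)) :
    f = g := by
  have h1 : commutator G ≤ f.eqLocus g := by
    rw [commutator_def, Subgroup.commutator_le]
    intro a _ b _
    show f ⁅a, b⁆ = g ⁅a, b⁆
    have ea : g a = f a * ((f a)⁻¹ * g a) := by group
    have eb : g b = f b * ((f b)⁻¹ * g b) := by group
    rw [map_commutatorElement, map_commutatorElement, ea, eb, comm_mul_cen (h a _ (hf a)).symm (h a _ (hf b)).symm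
      (h b _ (hf a)).symm (h b _ (hf b)).symm (h b _ (mul_mem (inv_mem (hf a)) (hg a)))]
  exact MonoidHom.ext fun x => h1 (hG ▸ Subgroup.mem_top x)

end Grp

variable {p : ℕ} [Fact p.Prime] {Y : Type} [Group Y] {V : Type} [AddCommGroup V] [Module (ZMod p) V]
  {K : Subgroup Y} {ρ : Representation (ZMod p) Y V} {S : Type} [Group S] {π : K →* S} {φ : Y →* MulAut S}

section Reach

/-- the elements of `K` above `J` -/
def up (π : K →* S) (J : Subgroup S) : Subgroup Y := (J.comap π).map K.subtype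

theorem up_top : up π ⊤ = K := by rw [up, Subgroup.comap_top, ← MonoidHom.range_eq_map, Subgroup.range_subtype]

/-- `k` conjugates of `a` generate a group containing the commutators of the preimage of `J` -/
theorem exists_gen_of_reach (F : Frm K π φ) {a : Y} {k : ℕ} {J : Subgroup S} (h : Reach (φ a) k J) :
    ∃ g : Fin k → Y, ⁅up π J, up π J⁆ ≤
      ⨆ i ∈ (Finset.univ : Finset (Fin k)), (Subgroup.zpowers a).map (MulAut.conj (g i)).toMonoidHom := by
  obtain ⟨f, hf⟩ := h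
  choose g hg using fun i => F.surj (f i)
  refine ⟨fun i => g i, ?_⟩
  set M := ⨆ i ∈ (Finset.univ : Finset (Fin k)), (Subgroup.zpowers a).map (MulAut.conj (g i : Y)).toMonoidHom
  have h1 : Gn (φ a) f ≤ M.map φ := by
    rw [Gn, Subgroup.closure_le]
    rintro _ ⟨i, rfl⟩
    refine ⟨(g i : Y) * a * (g i : Y)⁻¹, ?_, ?_⟩
    · exact (le_iSup₂_of_le (f := fun j (_ : j ∈ (Finset.univ : Finset (Fin k))) =>
        (Subgroup.zpowers a).map (MulAut.conj (g j : Y)).toMonoidHom) i (Finset.mem_univ i) le_rfl)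
        ⟨a, Subgroup.mem_zpowers a, rfl⟩
    · rw [map_mul, map_mul, map_inv, F.φ_coe, hg]
  have h2 : ∀ x ∈ up π J, ∃ m ∈ M, m ∈ K ∧ ∃ z ∈ Subgroup.centralizer (K : Set Y), x = m * z := by
    rintro _ ⟨x, hx, rfl⟩
    obtain ⟨m, hm, e⟩ := h1 (hf ⟨π x, hx, rfl⟩)
    have h3 : m⁻¹ * x ∈ Subgroup.centralizer (K : Set Y) := by
      rw [← F.φ_eq_one_iff, map_mul, map_inv, e, F.φ_coe, inv_mul_cancel]
    refine ⟨m, hm, ?_, _, h3, by simp⟩
    have : m = x * (m⁻¹ * x)⁻¹ := by group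
    rw [this]
    exact mul_mem x.2 (inv_mem (F.cent h3))
  rw [Subgroup.commutator_le]
  intro x hx y hy
  obtain ⟨m, hm, hmK, z, hz, rfl⟩ := h2 x hx
  obtain ⟨m', hm', hmK', z', hz', rfl⟩ := h2 y hy
  rw [comm_mul_cen (hz _ hmK).symm (hz _ hmK').symm (hz' _ hmK).symm (hz' _ hmK').symm (hz' _ (F.cent hz))]
  exact mul_mem (mul_mem (mul_mem hm hm') (inv_mem hm)) (inv_mem hm')

variable [Finite V]

theorem cod_le_of_reach (F : Frm K π φ) {a : Y} {k : ℕ} {J : Subgroup S} (h : Reach (φ a) k J) {B : Subgroup Y}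
    (hB : B ≤ ⁅up π J, up π J⁆) : cod ρ B ≤ k * cod ρ (Subgroup.zpowers a) := by
  obtain ⟨g, hg⟩ := exists_gen_of_reach F h
  refine (cod_mono (hB.trans hg)).trans ((cod_biSup_le _ _).trans ?_)
  simp only [cod_conj, Finset.sum_const, Finset.card_univ, Fintype.card_fin, smul_eq_mul, le_refl]

/-- **generation by `k` conjugates** -/
theorem finrank_le_of_reach [Finite Y] (H : Sit p K ρ π φ) {a : Y} {k : ℕ} (h : Reach (φ a) k ⊤) :
    finrank (ZMod p) V ≤ k * cod ρ (Subgroup.zpowers a) := by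
  rw [← H.toStp.cod_of_le le_rfl]
  refine cod_le_of_reach H.toFrm h ?_
  rw [up_top]
  intro x hx
  have h1 : (⟨x, hx⟩ : K) ∈ commutator K := H.toStp.perfect.commutator_eq_top ▸ Subgroup.mem_top _
  have h2 := Subgroup.mem_map_of_mem K.subtype h1
  rwa [commutator_def, Subgroup.map_commutator, ← MonoidHom.range_eq_map, Subgroup.range_subtype] at h2

omit [Finite V] in
theorem orderOf_φ [Finite Y] (H : Sit p K ρ π φ) {a : Y} (ha : a ^ p = 1) (h1 : a ≠ 1) : orderOf (φ a) = p :=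
  orderOf_eq_prime (by rw [← map_pow, ha, map_one]) fun e =>
    h1 (H.toStp.eq_one_of_φ H.toFrm (n := 1) (by rw [pow_one, ha]) e)

omit [Finite V] in
/-- the rank and the codimension of an offender -/
theorem off_data [Finite Y] (H : Sit p K ρ π φ) {A : Subgroup Y} (hA : Off p ρ A) {m : ℕ}
    (hm : ∀ E : Subgroup (MulAut S), IsElementaryAbelian p E → Nat.card E ≤ p ^ m) :
    ∃ r, 0 < r ∧ r ≤ m ∧ Nat.card A = p ^ r ∧ cod ρ A ≤ 2 * r := by
  obtain ⟨r, h1, h2, h3⟩ := hA.exists_card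
  refine ⟨r, h1, ?_, h2, h3⟩
  have := hm _ (elemAb_map hA.1 φ)
  rwa [H.toStp.card_map H.toFrm (elemAb_isPGroup hA.1), h2,
    Nat.pow_le_pow_iff_right (Fact.out : p.Prime).one_lt] at this

/-- no offender from the rank, the number of generating conjugates and the minimal dimension -/
theorem noOff_of_reach {k m d : ℕ} (hk : ∀ x : MulAut S, orderOf x = p → Reach x k ⊤)
    (hm : ∀ E : Subgroup (MulAut S), IsElementaryAbelian p E → Nat.card E ≤ p ^ m) (hd : LB p S d)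
    (h : k * (2 * m) < d) : NoOff p S := by
  refine noOff_of_sit fun Y _ _ V _ _ _ K ρ π φ H A hA => ?_
  obtain ⟨r, -, h2, -, h4⟩ := off_data H hA hm
  obtain ⟨a, ha, h1⟩ := (Subgroup.bot_or_exists_ne_one A).resolve_left hA.2.1
  have h5 := finrank_le_of_reach H (hk _ (orderOf_φ H (hA.1.2 a ha) h1))
  have h6 := hd.le H
  have h7 := cod_le_of_mem (ρ := ρ) ha
  have h8 : k * cod ρ (Subgroup.zpowers a) ≤ k * (2 * m) := Nat.mul_le_mul_left _ (by omega)
  omega

end Reach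

section Lift

variable {G : Type*} [Group G] {c : G →* S} {ι : G →* Y}

/-- `ι` maps `G` onto `K` and lies above `c` -/
structure Lf (K : Subgroup Y) (π : K →* S) (c : G →* S) (ι : G →* Y) : Prop where
  mem : ∀ g, ι g ∈ K
  proj : ∀ g, π ⟨ι g, mem g⟩ = c g
  surj : ∀ x ∈ K, ∃ g, ι g = x

omit [Fact p.Prime] in
theorem Lf.φ_ι (L : Lf K π c ι) (F : Frm K π φ) (g : G) : φ (ι g) = MulAut.conj (c g) := by
  rw [← L.proj g]
  exact F.φ_coe ⟨ι g, L.mem g⟩

omit [Fact p.Prime] in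
/-- **the action of `Y` on the cover** -/
theorem Lf.conj (L : Lf K π c ι) (F : Frm K π φ) [K.Normal] (hG : commutator G = ⊤) {y : Y} {α : G →* G}
    (h : ∀ g, c (α g) = φ y (c g)) (g : G) : y * ι g * y⁻¹ = ι (α g) := by
  have h0 : ∀ x, y * ι x * y⁻¹ ∈ K := fun x => Subgroup.Normal.conj_mem inferInstance _ (L.mem x) y
  have := hom_eq_of_cen hG (K := K) ((MulAut.conj y).toMonoidHom.comp ι) (ι.comp α) h0 (fun x => L.mem _) fun x => by
    have h1 := F.conj y ⟨ι x, L.mem x⟩ ⟨_, h0 x⟩ rfl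
    have h2 : π ((⟨_, h0 x⟩ : K)⁻¹ * ⟨ι (α x), L.mem _⟩) = 1 := by
      rw [map_mul, map_inv, ← h1, L.proj, L.proj, h, inv_mul_cancel]
    exact F.π_eq_one_iff.1 h2
  exact DFunLike.congr_fun this g

omit [Fact p.Prime] in
theorem Lf.comp (L : Lf K π c ι) (β : G ≃* G) : Lf K π (c.comp β.toMonoidHom) (ι.comp β.toMonoidHom) where
  mem g := L.mem _
  proj g := L.proj _
  surj x hx := by
    obtain ⟨g, rfl⟩ := L.surj x hx
    exact ⟨β.symm g, congrArg ι (β.apply_symm_apply g)⟩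

omit [Fact p.Prime] in
theorem Lf.range (L : Lf K π c ι) : ι.range = K :=
  le_antisymm (by rintro _ ⟨g, rfl⟩; exact L.mem g) L.surj

omit [Fact p.Prime] in
theorem exists_lf_of_hom {f : G →* K} (hf : Function.Surjective f) (h : ∀ g, π (f g) = c g) :
    Lf K π c (K.subtype.comp f) where
  mem g := (f g).2
  proj := h
  surj x hx := by
    obtain ⟨g, hg⟩ := hf ⟨x, hx⟩
    exact ⟨g, congrArg Subtype.val hg⟩

/-- the lift from a universal cover -/
theorem exists_lf [Finite Y] [Finite G] (H : Sit p K ρ π φ) (hG : commutator G = ⊤) (hc : Function.Surjective c)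
    (hk : c.ker ≤ Subgroup.center G) {A : Type*} [CommGroup A] [Finite A] (hA : HasSchurMultiplier S A)
    (hcard : Nat.card c.ker = Nat.card A) : ∃ ι : G →* Y, Lf K π c ι := by
  have : Finite S := Finite.of_surjective c hc
  have hS : commutator S = ⊤ := by
    rw [commutator_def, ← Subgroup.map_top_of_surjective c hc, ← Subgroup.map_commutator, ← commutator_def, hG]
  obtain ⟨f, h1, h2⟩ := H95.StemCover.exists_cover hS hA c (H95.StemCover.isStem hG hc hk) hcard π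
    (H.toFrm.stem H.toStp.perfect)
  exact ⟨_, exists_lf_of_hom h1 h2⟩

end Lift

section Cen

variable {k : Type*} [Field k] {Y : Type*} [Group Y] {V : Type*} [AddCommGroup V] [Module k V]
  {G : Type*} [Group G]

/-- the kernel of `ρ ∘ ι` is central -/
def Cen (ρ : Representation k Y V) (ι : G →* Y) : Prop := ∀ g, ρ (ι g) = 1 → g ∈ Subgroup.center G

theorem Cen.comp {ρ : Representation k Y V} {ι : G →* Y} (h : Cen ρ ι) (β : G ≃* G) :
    Cen ρ (ι.comp β.toMonoidHom) := fun g hg => by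
  have := h _ hg
  rw [Subgroup.mem_center_iff] at this ⊢
  intro x
  exact β.injective (by rw [map_mul, map_mul]; exact this _)

theorem Cen.ker {ρ : Representation k Y V} {ι : G →* Y} (h : Cen ρ ι) {g : G} (hg : ι g = 1) :
    g ∈ Subgroup.center G := h g (by rw [hg, map_one])

end Cen

theorem Lf.cen {G : Type*} [Group G] {c : G →* S} {ι : G →* Y} (L : Lf K π c ι) (hρ : Function.Injective ρ)
    (hk : c.ker ≤ Subgroup.center G) : Cen ρ ι := fun g hg => by
  have h1 : ι g = 1 := hρ (hg.trans (map_one ρ).symm)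
  refine hk ?_
  rw [MonoidHom.mem_ker, ← L.proj g, ← map_one π]
  exact congrArg π (Subtype.ext h1)

end Cfsg.Agent.TwoF.XL

private theorem dce_431b8a5da6c1 : _root_.True := by
  try have : _root_.True := by simp only [_root_.Cfsg.Agent.TwoF.XL.up.eq_1]
  exact _root_.True.intro
end

-- part: TwoF/XL/Fac
section
prune_inst 0x10000000000000
set_option linter.all false
open scoped Cfsg.Agent.FastGrp

/-!
# TwoF / XL: orders, outer automorphisms, minimal dimensions and lifts for `PSL_n(q)` and `PSU_n(q)` (helper1)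
-/

set_option autoImplicit false

namespace Cfsg.Agent.TwoF.XL

open Module Gen XE
open Cfsg.Agent.ClassicalGeometry

/-- `PSL_n(F)` -/
abbrev PL (n : ℕ) (F : Type) [Field F] : Type := Matrix.ProjectiveSpecialLinearGroup (Fin n) F

/-- `SL_n(F)` -/
abbrev SLn (n : ℕ) (F : Type) [Field F] : Type := Matrix.SpecialLinearGroup (Fin n) F

section Num

variable {p : ℕ} [Fact p.Prime] {S : Type} [Group S]

theorem card_of_surj {G H : Type*} [Group G] [Group H] (f : G →* H) (hf : Function.Surjective f) :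
    Nat.card G = Nat.card f.ker * Nat.card H := by
  rw [← Subgroup.card_mul_index f.ker, Subgroup.index_ker, f.range_eq_top_of_surjective hf, Subgroup.card_top]

theorem center_bot (S : Type) [Group S] [IsSimpleGroup S] (h : commutator S = ⊤) : Subgroup.center S = ⊥ := by
  refine (Subgroup.normal_of_characteristic (Subgroup.center S)).eq_bot_or_eq_top.resolve_right fun e => ?_
  have h1 : commutator S = ⊥ := by
    rw [commutator_def, Subgroup.commutator_eq_bot_iff_le_centralizer]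
    intro a _ b _
    exact Subgroup.mem_center_iff.1 (e ▸ Subgroup.mem_top a) b
  exact top_ne_bot (h.symm.trans h1)

theorem comm_top_of_surj {G H : Type*} [Group G] [Group H] (f : G →* H) (hf : Function.Surjective f)
    (hG : commutator G = ⊤) : commutator H = ⊤ := by
  rw [commutator_def, ← Subgroup.map_top_of_surjective f hf, ← Subgroup.map_commutator, ← commutator_def, hG]

theorem exists_char_ne {F : Type} [Field F] [Fintype F] (h : ¬ p ∣ Fintype.card F) :
    ∃ r f : ℕ, r.Prime ∧ CharP F r ∧ 1 ≤ f ∧ Fintype.card F = r ^ f ∧ r ≠ p := by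
  obtain ⟨r, f, h1, h2, h3, h4⟩ := exists_char F
  refine ⟨r, f, h1, h2, h3, h4, ?_⟩
  rintro rfl
  exact h (h4 ▸ dvd_pow_self r (by omega))

end Num

section Lin

variable {p : ℕ} [Fact p.Prime] {F : Type} [Field F] [Fintype F] {n q : ℕ}

theorem perfL (hn : 2 ≤ n) (h2 : n = 2 → 4 ≤ Fintype.card F) : commutator (SLn n F) = ⊤ := by
  rcases hn.eq_or_lt with rfl | h
  · exact H259.NatMod.commutator_eq_top (h2 rfl)
  · exact S0248.result n h

theorem simpleL (hn : 2 ≤ n) (h2 : n = 2 → 4 ≤ Fintype.card F) : IsSimpleGroup (PL n F) := by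
  have : Nontrivial (Fin n) := Fin.nontrivial_iff_two_le.2 hn
  exact LieClassical.SLGen.psl_isSimpleGroup_of_perfect (perfL hn h2)

theorem finL (n : ℕ) (F : Type) [Field F] [Fintype F] : Finite (PL n F) :=
  Finite.of_surjective _ AutPSL.Root.pr_surjective

theorem centerL (hn : 2 ≤ n) (h2 : n = 2 → 4 ≤ Fintype.card F) : Subgroup.center (PL n F) = ⊥ :=
  have := simpleL hn h2
  center_bot _ (comm_top_of_surj _ AutPSL.Root.pr_surjective (perfL hn h2))

theorem outL {r f : ℕ} (hr : r.Prime) (hf : 1 ≤ f) (hF : Fintype.card F = r ^ f) (hn : 3 ≤ n) :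
    Nat.card (Out (PL n F)) = Nat.gcd n (r ^ f - 1) * (2 * f) := by
  have := Fact.mk hr
  obtain ⟨φ, h1, -, h3⟩ := S2601.result hf hF hn
  rw [card_of_surj φ h1, h3, Nat.card_congr Multiplicative.toAdd, Nat.card_prod, Nat.card_zmod, Nat.card_zmod,
    mul_comm f]

theorem outL2 {r f : ℕ} (hr : r.Prime) (hf : 1 ≤ f) (hF : Fintype.card F = r ^ f) (h4 : 4 ≤ r ^ f) :
    Nat.card (Out (PL 2 F)) = Nat.gcd 2 (r ^ f - 1) * f := by
  have := Fact.mk hr
  obtain ⟨φ, h1, -, h3⟩ := S2602.result hf hF h4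
  rw [card_of_surj φ h1, h3, Nat.card_congr Multiplicative.toAdd, Nat.card_zmod]

theorem cardL (hF : Fintype.card F = q) (hn : 2 ≤ n) {s : ℕ}
    (h : Nat.gcd n (q - 1) * ((q - 1) * s) = ∏ i : Fin n, (q ^ n - q ^ (i : ℕ))) : Nat.card (PL n F) = s := by
  have hq : 1 < q := hF ▸ Fintype.one_lt_card
  rw [← S0243.result hF n hn] at h
  exact (Nat.eq_of_mul_eq_mul_left (by omega)
    (Nat.eq_of_mul_eq_mul_left (Nat.gcd_pos_of_pos_left _ (by omega)) h)).symm

theorem cardL_le (hF : Fintype.card F = q) (hn : 2 ≤ n) :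
    Nat.gcd n (q - 1) * Nat.card (PL n F) ≤ q ^ (n ^ 2 - 1) := by
  have hq : 1 < q := hF ▸ Fintype.one_lt_card
  have h := S0243.result hF n hn
  obtain ⟨m, rfl⟩ : ∃ m, n = m + 1 := ⟨n - 1, by omega⟩
  rw [Fin.prod_univ_castSucc] at h
  have h1 : ∏ i : Fin m, (q ^ (m + 1) - q ^ ((Fin.castSucc i : Fin (m + 1)) : ℕ)) ≤ (q ^ (m + 1)) ^ m := by
    refine (Finset.prod_le_pow_card _ _ _ fun i _ => Nat.sub_le _ _).trans ?_
    rw [Finset.card_univ, Fintype.card_fin]
  have h2 : q ^ (m + 1) - q ^ ((Fin.last m : Fin (m + 1)) : ℕ) = (q - 1) * q ^ m := by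
    rw [Fin.val_last, pow_succ, Nat.sub_mul, one_mul, mul_comm]
  rw [h2, mul_left_comm] at h
  refine Nat.le_of_mul_le_mul_left (c := q - 1) ?_ (Nat.sub_pos_of_lt hq)
  rw [h, show (m + 1) ^ 2 - 1 = (m + 1) * m + m from Nat.sub_eq_of_eq_add (by ring), pow_add q ((m + 1) * m), pow_mul,
    mul_left_comm (q - 1)]
  exact Nat.mul_le_mul_right _ h1

theorem gcd_coprime {n r f : ℕ} (hf : 1 ≤ f) (hr : r.Prime) : (Nat.gcd n (r ^ f - 1)).Coprime r := by
  refine Nat.Coprime.coprime_dvd_left (Nat.gcd_dvd_right _ _) ((Nat.coprime_comm.1 ((Nat.Prime.coprime_iff_not_dvd hr).2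
    fun h => ?_)))
  have h1 : r ∣ r ^ f := dvd_pow_self r (by omega)
  have h2 := (Nat.dvd_sub h1 h)
  rw [Nat.sub_sub_self (Nat.one_le_pow _ _ hr.pos)] at h2
  exact hr.one_lt.ne' (Nat.dvd_one.1 h2)

theorem gcd_coprime' {n r f : ℕ} (hf : 1 ≤ f) (hr : r.Prime) : (Nat.gcd n (r ^ f + 1)).Coprime r := by
  refine Nat.Coprime.coprime_dvd_left (Nat.gcd_dvd_right _ _) ((Nat.coprime_comm.1 ((Nat.Prime.coprime_iff_not_dvd hr).2
    fun h => ?_)))
  exact hr.one_lt.ne' (Nat.dvd_one.1 ((Nat.dvd_add_right (dvd_pow_self r (by omega))).1 h))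

/-- the exceptional multipliers -/
def ExL (n q : ℕ) : Prop := (n, q) ∈ ({(2, 4), (2, 9), (3, 2), (3, 4), (4, 2)} : Set (ℕ × ℕ))

theorem lbL (hF : Fintype.card F = q) (hp : ¬ p ∣ q) (hn : 3 ≤ n) (he : ¬ ExL n q) :
    LB p (PL n F) (q ^ (n - 1) - 1) := by
  subst hF
  obtain ⟨r, f, h1, h2, h3, h4, h5⟩ := exists_char_ne hp
  refine lb_of_bd' (H912.Bd.bd_psl h1 (cast_ne_zero h1 h5) hn h2) (S2086.result rfl n (by omega) (by omega) he) ?_
  rw [h4]
  exact gcd_coprime h3 h1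

theorem lbL2 (hF : Fintype.card F = q) (hp : ¬ p ∣ q) (h4 : 4 ≤ q) (he : ¬ ExL 2 q) :
    LB p (PL 2 F) ((q - 1) / Nat.gcd 2 (q - 1)) := by
  subst hF
  obtain ⟨r, f, h1, h2, h3, h4, h5⟩ := exists_char_ne hp
  refine lb_of_bd' (H203.BdSL2.bd_of_sl2 h1 rfl (cast_ne_zero h1 h5) AutPSL.Root.pr (QuotientGroup.ker_mk' _).le)
    (S2086.result rfl 2 le_rfl (by omega) he) ?_
  rw [h4]
  exact gcd_coprime h3 h1

variable {Y : Type} [Group Y] [Finite Y] {V : Type} [AddCommGroup V] [Module (ZMod p) V]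
  {K : Subgroup Y} {ρ : Representation (ZMod p) Y V} {π : K →* PL n F} {φ : Y →* MulAut (PL n F)}

/-- **the lift of `SL_n(F)`** -/
theorem exists_lfL (H : Sit p K ρ π φ) (hn : 2 ≤ n) (h2 : n = 2 → 4 ≤ Fintype.card F)
    (he : ¬ ExL n (Fintype.card F)) : ∃ ι : SLn n F →* Y, Lf K π AutPSL.Root.pr ι :=
  have : NeZero (Nat.gcd n (Fintype.card F - 1)) := ⟨(Nat.gcd_pos_of_pos_left _ (by omega)).ne'⟩
  exists_lf H (perfL hn h2) AutPSL.Root.pr_surjective (QuotientGroup.ker_mk' _).le (S2086.result rfl n hn h2 he) (by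
    rw [QuotientGroup.ker_mk', S0280.card_center_SL (by omega), Nat.card_congr Multiplicative.toAdd, Nat.card_zmod])

omit [Finite Y] [Fintype F] in
theorem Lf.cenL (H : Sit p K ρ π φ) {ι : SLn n F →* Y} (L : Lf K π AutPSL.Root.pr ι) : Cen ρ ι :=
  L.cen H.faithful (QuotientGroup.ker_mk' _).le

omit [Finite Y] in
/-- the action of `y` on the lift -/
theorem Lf.conjL (H : Sit p K ρ π φ) {ι : SLn n F →* Y} (L : Lf K π AutPSL.Root.pr ι) (hn : 2 ≤ n)
    (h2 : n = 2 → 4 ≤ Fintype.card F) {y : Y} {α : MulAut (SLn n F)} (h : φ y = AutPSL.Auto.lift α) (g : SLn n F) :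
    y * ι g * y⁻¹ = ι (α g) :=
  have := H.normal
  L.conj H.toFrm (perfL hn h2) (α := α.toMonoidHom) (fun g => by rw [h, AutPSL.Auto.lift_pr]; rfl) g

end Lin

section Uni

variable {p : ℕ} [Fact p.Prime] {F : Type} [Field F] [Fintype F] {n q : ℕ}

theorem finU (n : ℕ) (F : Type) [Field F] [Fintype F] (q : ℕ) : Finite (PSU n F q) :=
  Finite.of_surjective _ PSUAutBasic.pr_surjective

theorem outU {r f : ℕ} (hr : r.Prime) (hf : 1 ≤ f) (hq : q = r ^ f) (hF : Fintype.card F = q ^ 2) (hn : 3 ≤ n)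
    (h32 : ¬ (n = 3 ∧ q = 2)) : Nat.card (Out (PSU n F q)) = Nat.gcd n (q + 1) * (2 * f) := by
  have := Fact.mk hr
  obtain ⟨φ, h1, -, h3⟩ := S2603.result hf hq hF hn h32
  rw [card_of_surj φ h1, h3, Nat.card_congr Multiplicative.toAdd, Nat.card_zmod]

theorem cardU (hF : Fintype.card F = q ^ 2) (hn : 2 ≤ n) {s : ℕ}
    (h : Nat.gcd n (q + 1) * ((q + 1) * s) = q ^ (n * (n - 1) / 2) *
      ∏ i ∈ Finset.range n, (if Even i then q ^ (i + 1) + 1 else q ^ (i + 1) - 1)) : Nat.card (PSU n F q) = s := by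
  rw [← S0280.result hF n hn] at h
  exact (Nat.eq_of_mul_eq_mul_left (by omega)
    (Nat.eq_of_mul_eq_mul_left (Nat.gcd_pos_of_pos_left _ (by omega)) h)).symm

theorem cardU_le (hF : Fintype.card F = q ^ 2) (hn : 2 ≤ n) :
    Nat.gcd n (q + 1) * Nat.card (PSU n F q) ≤ q ^ (n ^ 2 - 1) := by
  refine le_trans (le_of_eq ?_) (H411.IFU.card_SU_le hF (n := n) (by omega))
  rw [← S0280.card_center hF n hn, ← Subgroup.card_mul_index (Subgroup.center (SU n F q))]
  rfl

/-- the exceptional multipliers -/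
def ExU (n q : ℕ) : Prop := (n, q) ∈ ({(4, 2), (4, 3), (6, 2)} : Set (ℕ × ℕ))

theorem exists_charU (hF : Fintype.card F = q ^ 2) (hp : ¬ p ∣ q) :
    ∃ r f : ℕ, r.Prime ∧ CharP F r ∧ 1 ≤ f ∧ q = r ^ f ∧ r ≠ p := by
  obtain ⟨r, f, h1, h2, h3, h4⟩ := LieClassical.HermBasic.exists_prime_pow hF
  refine ⟨r, f, h1, h2, h4, h3, ?_⟩
  rintro rfl
  exact hp (h3 ▸ dvd_pow_self r (by omega))

theorem lbU (hF : Fintype.card F = q ^ 2) (hp : ¬ p ∣ q) (hn : 3 ≤ n) (h32 : ¬ (n = 3 ∧ q = 2)) (he : ¬ ExU n q) :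
    LB p (PSU n F q) ((q - 1) * q ^ (n - 2)) := by
  obtain ⟨r, f, h1, h2, h3, h4, h5⟩ := exists_charU hF hp
  refine lb_of_bd' (H175.BdSU.bd_psu h1 hF hn (cast_ne_zero h1 h5) (MulEquiv.refl _))
    (S2089.result n q hF hn h32 he) ?_
  rw [h4]
  exact gcd_coprime' h3 h1

theorem perfU (hF : Fintype.card F = q ^ 2) (hn : 3 ≤ n) (h32 : ¬ (n = 3 ∧ q = 2)) : commutator (SU n F q) = ⊤ :=
  LieClassical.HermPerfect.commutator_SU_eq_top hF hn h32

theorem simpleU (hF : Fintype.card F = q ^ 2) (hn : 3 ≤ n) (h32 : ¬ (n = 3 ∧ q = 2)) : IsSimpleGroup (PSU n F q) :=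
  LieClassical.HermSimple.isSimpleGroup_of_perfect hF hn (perfU hF hn h32)

theorem centerU (hF : Fintype.card F = q ^ 2) (hn : 3 ≤ n) (h32 : ¬ (n = 3 ∧ q = 2)) :
    Subgroup.center (PSU n F q) = ⊥ :=
  have := simpleU hF hn h32
  center_bot _ (comm_top_of_surj _ PSUAutBasic.pr_surjective (perfU hF hn h32))

variable {Y : Type} [Group Y] [Finite Y] {V : Type} [AddCommGroup V] [Module (ZMod p) V]
  {K : Subgroup Y} {ρ : Representation (ZMod p) Y V} {π : K →* PSU n F q} {φ : Y →* MulAut (PSU n F q)}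

end Uni

end Cfsg.Agent.TwoF.XL

private theorem dce_2d9fa35d2d98 : _root_.True := by
  try have : _root_.True := by simp only [_root_.Cfsg.Agent.ClassicalGeometry.PSUAutBasic.pr.eq_1]
  exact _root_.True.intro
end

-- part: TwoF/XE/Crit
section
set_option linter.all false
open scoped Cfsg.Agent.FastGrp

/-!
# TwoF / XE : two more criteria for the rows (helper4)
-/

set_option autoImplicit false

namespace Cfsg.Agent.TwoF.XE

open Module Gen Subgroup

variable {p : ℕ} [Fact p.Prime] {S : Type} [Group S] [Finite S]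

/-- a non-cubic offender would be a Sylow subgroup of `Aut S` -/
theorem row88_of_sylow (h : ¬ p ^ (small p + 2) ∣ Nat.card (MulAut S)) {α : MulAut S} (hα : α ^ p = 1)
    (hl : Le p α (2 * small p + 3)) : Row88 p S := row88_of_lo fun E hE r hr hc => by
  have h1 := (Nat.pow_le_pow_iff_right (Fact.out : p.Prime).one_lt).1 (hc ▸ card_le_of_not_dvd h E hE)
  obtain rfl : r = small p + 1 := by omega
  obtain ⟨g, hg⟩ := exists_conj_le (elemAb_isPGroup hE) (fun d => h (by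
    rw [← E.card_mul_index, hc, pow_succ p (small p + 1)]
    exact mul_dvd_mul_left _ d)) (elemAb_isPGroup (elemAb_zpowers hα))
  exact (hl.conj g).lo (hg ⟨α, mem_zpowers α, rfl⟩)

theorem row88_of_sylow' (h : ¬ p ^ (small p + 2) ∣ Nat.card (MulAut S)) {x : S} (hx : x ^ p = 1)
    (hl : Li p x (2 * small p + 3)) : Row88 p S := row88_of_sylow h (by rw [← map_pow, hx, map_one]) hl

omit [Finite S] in
theorem not_elemAb_of_pow {G : Type*} [Group G] {a : G} {k : ℕ} (h1 : a ^ p ^ k = 1) (h2 : a ^ p ≠ 1) :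
    IsPGroup p (zpowers a) ∧ ¬ IsElementaryAbelian p (zpowers a) := by
  refine ⟨fun g => ⟨k, Subtype.ext ?_⟩, fun h => h2 (h.2 a (mem_zpowers a))⟩
  obtain ⟨_, i, rfl⟩ := g
  show (a ^ i) ^ p ^ k = 1
  rw [← zpow_natCast, ← zpow_mul, mul_comm, zpow_mul, zpow_natCast, h1, one_zpow]

end Cfsg.Agent.TwoF.XE
end
end
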